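import Cfsg.Agent.PrimeDim.Tools

/-!
Perfect absolutely irreducible subgroups of the three-dimensional linear group that are simple modulo
scalars: elementary consequences.
-/

set_option autoImplicit false

namespace Cfsg.Agent.ResidualThree

open Matrix Cfsg.Geo Cfsg.Agent.PrimeDim
open scoped MatrixGroups commutatorElement

variable {F : Type*} [Field F]

/-- The conditions on the socle preimage that do not mention forms or subfields. -/
structure Core (P : Subgroup (GL (Fin 3) F)) : Prop where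
  perfect : ⁅P, P⁆ = P
  simple : IsSimpleGroup (P ⧸ (scalars (Fin 3) F).subgroupOf P)
  nonab : ¬ IsMulCommutative (P ⧸ (scalars (Fin 3) F).subgroupOf P)
  abs : ActsAbsolutelyIrreducibly (matrixSet P)

theorem core_of_residual {H P : Subgroup (GL (Fin 3) F)} (h : IsResidualCore H P) : Core P :=
  ⟨h.perfect, h.simple, h.nonabelian, h.absIrred⟩

variable {P : Subgroup (GL (Fin 3) F)}

theorem mat_mul (g h : GL (Fin 3) F) : mat (g * h) = mat g * mat h := Units.val_mul g h

theorem det_mat_ne_zero (g : GL (Fin 3) F) : (mat g).det ≠ 0 :=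
  ((Matrix.isUnit_iff_isUnit_det _).1 g.isUnit).ne_zero

theorem Core.det_eq_one (h : Core P) {g : GL (Fin 3) F} (hg : g ∈ P) : (mat g).det = 1 := by
  have := inv_eq_one_of_hom h.perfect (Matrix.GeneralLinearGroup.det.comp P.subtype) ⟨g, hg⟩
  exact congrArg Units.val this

theorem Core.irr (h : Core P) : Irr P := (abs_iff.1 h.abs).1

theorem Core.commutant (h : Core P) {A : Matrix (Fin 3) (Fin 3) F}
    (hA : ∀ g ∈ P, A * mat g = mat g * A) : ∃ c : F, A = c • (1 : Matrix (Fin 3) (Fin 3) F) :=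
  (abs_iff.1 h.abs).2 A hA

theorem Core.scalar_cube (h : Core P) {g : GL (Fin 3) F} (hg : g ∈ P) {c : F}
    (hc : mat g = c • (1 : Matrix (Fin 3) (Fin 3) F)) : c ^ 3 = 1 := by
  have := h.det_eq_one hg
  rwa [hc, Matrix.det_smul, Matrix.det_one, mul_one, Fintype.card_fin] at this

theorem Core.scalar_pow_three (h : Core P) {g : GL (Fin 3) F} (hg : g ∈ P) (hs : g ∈ scalars (Fin 3) F) :
    g ^ 3 = 1 := by
  obtain ⟨c, hc⟩ := (mem_scalars_iff g).1 hs
  refine Units.ext ?_
  have h3 := h.scalar_cube hg hc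
  rw [Units.val_pow_eq_pow_val, hc, smul_pow, one_pow, h3, one_smul, Units.val_one]

theorem scalar_commute {g : GL (Fin 3) F} (hs : g ∈ scalars (Fin 3) F) (x : GL (Fin 3) F) : g * x = x * g :=
  (scalar_comm hs x).eq

/-- Central elements are scalars. -/
theorem Core.mem_scalars_of_comm (h : Core P) {z : GL (Fin 3) F} (hz : ∀ g ∈ P, z * g = g * z) :
    z ∈ scalars (Fin 3) F := by
  obtain ⟨c, hc⟩ := h.commutant (A := mat z) fun g hg => by rw [← mat_mul, ← mat_mul, hz g hg]
  exact mem_scalars_of_smul hc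

theorem Core.not_scalar (h : Core P) : ¬ P ≤ scalars (Fin 3) F := fun hle => h.nonab <| by
  have : (scalars (Fin 3) F).subgroupOf P = ⊤ := Subgroup.subgroupOf_eq_top.2 hle
  haveI : Subsingleton (P ⧸ (scalars (Fin 3) F).subgroupOf P) := by
    rw [this]; exact QuotientGroup.subsingleton_quotient_top
  exact ⟨⟨fun _ _ => Subsingleton.elim _ _⟩⟩

/-- A normalised subgroup is scalar or everything. -/
theorem Core.normal_cases (h : Core P) {N : Subgroup (GL (Fin 3) F)} (hle : N ≤ P) (hn : Normalised P N) :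
    N ≤ scalars (Fin 3) F ∨ N = P := by
  haveI := h.simple
  set S := (scalars (Fin 3) F).subgroupOf P
  have hN : (N.subgroupOf P).Normal := ⟨fun x hx g => hn g g.2 x hx⟩
  rcases (hN.map (QuotientGroup.mk' S) (QuotientGroup.mk'_surjective S)).eq_bot_or_eq_top with h1 | h1
  · left
    intro x hx
    have h2 : N.subgroupOf P ≤ S := by
      rw [Subgroup.map_eq_bot_iff, QuotientGroup.ker_mk'] at h1
      exact h1
    exact h2 (show (⟨x, hle hx⟩ : P) ∈ N.subgroupOf P from hx)
  · right
    refine le_antisymm hle fun g hg => ?_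
    -- the commutator of two products with scalars lies in `N`
    have hsplit : ∀ a ∈ P, ∃ n ∈ N, ∃ z ∈ scalars (Fin 3) F, a = n * z := by
      intro a ha
      obtain ⟨y, hy, he⟩ := (h1 ▸ Subgroup.mem_top (QuotientGroup.mk' S ⟨a, ha⟩) :
        QuotientGroup.mk' S ⟨a, ha⟩ ∈ (N.subgroupOf P).map (QuotientGroup.mk' S))
      have hz : y⁻¹ * (⟨a, ha⟩ : P) ∈ S := QuotientGroup.eq.1 he
      exact ⟨y.1, hy, y.1⁻¹ * a, hz, by group⟩
    have hc : ⁅P, P⁆ ≤ N := by
      rw [Subgroup.commutator_le]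
      intro a ha b hb
      obtain ⟨n, hnN, z, hz, rfl⟩ := hsplit a ha
      obtain ⟨m, hmN, w, hw, rfl⟩ := hsplit b hb
      have e : ⁅n * z, m * w⁆ = ⁅n, m⁆ := by
        rw [commutatorElement_def, commutatorElement_def]
        calc n * z * (m * w) * (n * z)⁻¹ * (m * w)⁻¹
            = n * (z * (m * w) * z⁻¹) * n⁻¹ * (w⁻¹ * m⁻¹) := by group
          _ = n * (m * w) * n⁻¹ * (w⁻¹ * m⁻¹) := by rw [scalar_commute hz, mul_inv_cancel_right]
          _ = n * m * (w * n⁻¹) * w⁻¹ * m⁻¹ := by group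
          _ = n * m * n⁻¹ * m⁻¹ := by rw [scalar_commute hw n⁻¹]; group
      rw [e, commutatorElement_def]
      exact mul_mem (mul_mem (mul_mem hnN hmN) (inv_mem hnN)) (inv_mem hmN)
    rw [h.perfect] at hc
    exact hc hg

theorem Core.no_line (h : Core P) {v : Fin 3 → F} (hv : v ≠ 0) :
    ∃ g ∈ P, ∀ c : F, mat g *ᵥ v ≠ c • v := by
  by_contra hcon
  push Not at hcon
  have hI : Inv P (Submodule.span F {v}) := by
    intro g hg w hw
    obtain ⟨a, rfl⟩ := Submodule.mem_span_singleton.1 hw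
    obtain ⟨c, hc⟩ := hcon g hg
    rw [Matrix.mulVec_smul, hc, smul_smul]
    exact Submodule.smul_mem _ _ (Submodule.subset_span rfl)
  rcases h.irr _ hI with h1 | h1
  · exact hv ((Submodule.mem_bot F).1 (h1 ▸ Submodule.subset_span rfl))
  · have h2 : Module.finrank F (Submodule.span F {v}) = 1 := finrank_span_singleton hv
    rw [h1, finrank_top, Module.finrank_fintype_fun_eq_card, Fintype.card_fin] at h2
    omega

/-- The kernel of a functional as a submodule. -/
noncomputable def dker (α : Fin 3 → F) : Submodule F (Fin 3 → F) := LinearMap.ker (dotProductBilin F F α)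

theorem mem_dker {α v : Fin 3 → F} : v ∈ dker α ↔ α ⬝ᵥ v = 0 := Iff.rfl

theorem finrank_dker {α : Fin 3 → F} (hα : α ≠ 0) : Module.finrank F (dker α) = 2 := by
  have hne : dotProductBilin F F α ≠ 0 := fun e => hα <| funext fun i => by
    have := LinearMap.congr_fun e (Pi.single i 1)
    simpa using this
  have h1 := LinearMap.finrank_range_add_finrank_ker (dotProductBilin F F α)
  rw [Module.finrank_fintype_fun_eq_card, Fintype.card_fin] at h1
  have h2 : Module.finrank F (LinearMap.range (dotProductBilin F F α)) = 1 := by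
    rw [LinearMap.range_eq_top.2, finrank_top, Module.finrank_self]
    exact LinearMap.surjective hne
  show Module.finrank F (LinearMap.ker (dotProductBilin F F α)) = 2
  omega

theorem Core.no_plane (h : Core P) {α : Fin 3 → F} (hα : α ≠ 0) :
    ∃ g ∈ P, ∀ c : F, α ᵥ* mat g ≠ c • α := by
  by_contra hcon
  push Not at hcon
  have hI : Inv P (dker α) := by
    intro g hg v hv
    obtain ⟨c, hc⟩ := hcon g hg
    rw [mem_dker] at hv ⊢
    rw [Matrix.dotProduct_mulVec, hc, smul_dotProduct, hv, smul_zero]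
  have h2 := finrank_dker hα
  rcases h.irr _ hI with h1 | h1
  · rw [h1, finrank_bot] at h2; omega
  · rw [h1, finrank_top, Module.finrank_fintype_fun_eq_card, Fintype.card_fin] at h2; omega

/-- No proper nonzero subspace is invariant. -/
theorem Core.not_inv (h : Core P) {W : Submodule F (Fin 3 → F)} (hI : Inv P W) {v : Fin 3 → F} (hv : v ∈ W)
    (hv0 : v ≠ 0) : W = ⊤ :=
  (h.irr W hI).resolve_left fun e => hv0 ((Submodule.mem_bot F).1 (e ▸ hv))

/-- A matrix squaring to zero in dimension three has rank at most one. -/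
theorem exists_vecMulVec {N : Matrix (Fin 3) (Fin 3) F} (hN : N * N = 0) (h0 : N ≠ 0) :
    ∃ v α : Fin 3 → F, v ≠ 0 ∧ α ≠ 0 ∧ α ⬝ᵥ v = 0 ∧ N = vecMulVec v α := by
  let L := Matrix.mulVecLin N
  have hle : LinearMap.range L ≤ LinearMap.ker L := by
    rintro _ ⟨x, rfl⟩
    show N *ᵥ (N *ᵥ x) = 0
    rw [Matrix.mulVec_mulVec, hN, Matrix.zero_mulVec]
  have h1 := LinearMap.finrank_range_add_finrank_ker L
  rw [Module.finrank_fintype_fun_eq_card, Fintype.card_fin] at h1
  have h2 := Submodule.finrank_mono hle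
  obtain ⟨v, hv⟩ := finrank_le_one_iff.1 (show Module.finrank F (LinearMap.range L) ≤ 1 by omega)
  have hrep : ∀ x, ∃ a : F, N *ᵥ x = a • (v : Fin 3 → F) := fun x => by
    obtain ⟨a, ha⟩ := hv ⟨_, LinearMap.mem_range_self L x⟩
    exact ⟨a, (congrArg Subtype.val ha).symm⟩
  choose α hα using fun j => hrep (Pi.single j 1)
  have he : N = vecMulVec (v : Fin 3 → F) α := by
    ext i j
    have := congrFun (hα j) i
    rw [Matrix.mulVec_single_one, Matrix.col_apply, Pi.smul_apply, smul_eq_mul] at this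
    rw [this, vecMulVec_apply, mul_comm]
  have hv0 : (v : Fin 3 → F) ≠ 0 := fun e => h0 (by rw [he, e, zero_vecMulVec])
  refine ⟨v, α, hv0, fun e => h0 (by rw [he, e, vecMulVec_zero]), ?_, he⟩
  have h3 : N *ᵥ (v : Fin 3 → F) = 0 := hle v.2
  rw [he, vecMulVec_mulVec] at h3
  simpa [hv0] using h3

theorem vecMulVec_mul_self {v α : Fin 3 → F} (h : α ⬝ᵥ v = 0) :
    vecMulVec v α * vecMulVec v α = 0 := by
  rw [vecMulVec_mul_vecMulVec, h, zero_smul, vecMulVec_zero]

end Cfsg.Agent.ResidualThree
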