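import Cfsg.Agent.ResidualThree.Basic
import Cfsg.Agent.PrimeDim.Tools
import Cfsg.Agent.PrimeDim.Descend
import Cfsg.Agent.Classical.HermForm
import Cfsg.Agent.S0497
import Cfsg.Agent.S0495
import Cfsg.Agent.S0255
import Cfsg.Agent.S0984

/-!
Forms in the language of the statements; the isomorphism types of the small quotients.
-/

set_option autoImplicit false

namespace Cfsg.Agent.ResidualThree

open Matrix Cfsg.Geo Cfsg.Agent.PrimeDim
open scoped MatrixGroups

variable {F : Type*} [Field F] {P : Subgroup (GL (Fin 3) F)}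

local notation "M3" => Matrix (Fin 3) (Fin 3) F

/-- A symmetric Gram matrix gives a fixed quadratic form. -/
theorem fixesQuad_of_symm (h2 : (2 : F) ≠ 0) {G : M3} (hG : G.det ≠ 0) (hs : Gᵀ = G)
    (hfix : Fixes (RingEquiv.refl F) P G) :
    ∃ Q : (Fin 3 → F) → F, IsNondegenerateQuadraticForm Q ∧ FixesQuadForm (matrixSet P) Q := by
  refine ⟨_, isQuad_formG h2 hG hs, ?_⟩
  rintro _ ⟨g, hg, rfl⟩ v
  show formG _ G (mat g *ᵥ v) (mat g *ᵥ v) = _
  rw [formG_mulVec, hfix g hg]

/-- An involutory automorphism of a finite field is an involution in the sense of hermitian forms. -/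
theorem isBar_of_invol [Finite F] {σ : F ≃+* F} (hσ : ∀ a, σ (σ a) = a) (hne : σ ≠ RingEquiv.refl F) : IsBar σ :=
  have hinv : Classical.Herm.IsInvol σ.toRingHom :=
    ⟨fun e => hne (RingEquiv.ext fun a => RingHom.congr_fun e a), hσ⟩
  ⟨hσ, hne, fun _ ha => Classical.Herm.exists_norm hinv ha⟩

/-- A hermitian Gram matrix gives a fixed unitary form. -/
theorem fixesForm_of_herm [Finite F] {σ : F ≃+* F} (hσ : ∀ a, σ (σ a) = a) (hne : σ ≠ RingEquiv.refl F) {G : M3}
    (hG : G.det ≠ 0) (hs : Gᵀ = G.map σ) (hfix : Fixes σ P G) :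
    ∃ (σ' : F ≃+* F) (f : (Fin 3 → F) → (Fin 3 → F) → F), IsUnitaryForm σ' f ∧ FixesForm (matrixSet P) f := by
  refine ⟨σ, formG σ G, isUnitaryForm_formG (isBar_of_invol hσ hne) hG hs, ?_⟩
  rintro _ ⟨g, hg, rfl⟩ u v
  show formG σ G (mat g *ᵥ u) (mat g *ᵥ v) = _
  rw [formG_mulVec, hfix g hg]

/-- The involutory automorphism of a field with square order is the power map. -/
theorem invol_eq_pow [Fintype F] {q : ℕ} (hF : Fintype.card F = q ^ 2) {σ : F ≃+* F} (hσ : ∀ a, σ (σ a) = a)
    (hne : σ ≠ RingEquiv.refl F) (a : F) : σ a = a ^ q := by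
  have hinv : Classical.Herm.IsInvol σ.toRingHom :=
    ⟨fun e => hne (RingEquiv.ext fun a => RingHom.congr_fun e a), hσ⟩
  have hK := Classical.Herm.card_eq_fix_sq hinv
  set K := Classical.Herm.fixField σ.toRingHom with hKdef
  have hq : Nat.card K = q := by
    rw [Nat.card_eq_fintype_card (α := F), hF] at hK
    exact (Nat.pow_left_injective two_ne_zero hK).symm
  obtain ⟨τ, hτ, hτq⟩ := exists_powHom K
  have hfix : ∀ b, σ b = b → τ b = b := fun b hb => (hτ b).1 hb
  rw [← hq, ← hτq a]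
  by_cases ha : σ a = a
  · rw [ha, hfix a ha]
  have hne' : τ a ≠ a := fun e => ha ((hτ a).2 e)
  have h1 := hfix (a + σ a) (by rw [map_add, hσ, add_comm])
  have h2 := hfix (a * σ a) (by rw [map_mul, hσ, mul_comm])
  rw [map_add] at h1
  rw [map_mul] at h2
  have h3 : (τ a - a) * (τ a - σ a) = 0 := by linear_combination τ a * h1 - h2
  exact (sub_eq_zero.1 ((mul_eq_zero.1 h3).resolve_left (sub_ne_zero.2 hne'))).symm

section Iso

variable {G : Type*} [Group G] [Finite G] [IsSimpleGroup G]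

theorem iso_168 (h : Nat.card G = 168) : Nonempty (G ≃* Matrix.ProjectiveSpecialLinearGroup (Fin 3) (ZMod 2)) := by
  haveI : Fact (Nat.Prime 7) := ⟨by norm_num⟩
  obtain ⟨e⟩ := S0495.result h (F := ZMod 7) (ZMod.card 7)
  obtain ⟨f⟩ := S0255.result (F := ZMod 7) (K := ZMod 2) (ZMod.card 7) (ZMod.card 2)
  exact ⟨e.trans f⟩

theorem iso_360 (h : Nat.card G = 360) : Nonempty (G ≃* alternatingGroup (Fin 6)) := S0497.result h

theorem iso_2520 (h : Nat.card G = 2520) : Nonempty (G ≃* alternatingGroup (Fin 7)) := S0984.result h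

end Iso

end Cfsg.Agent.ResidualThree
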