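import Cfsg.Agent.ResidualThree.CharTwoFrame
import Cfsg.Agent.S0848
import Cfsg.Agent.S2202

/-!
Characteristic two, root groups of order two: the central quotient has order 168 or 360.
-/

set_option autoImplicit false

namespace Cfsg.Agent.ResidualThree

open Matrix Cfsg.Geo Cfsg.Agent.PrimeDim Cfsg.Agent.RootSub.Dickson
open scoped MatrixGroups

variable {F : Type*} [Field F] [Finite F] {P : Subgroup (GL (Fin 3) F)}

local notation "G3" => GL (Fin 3) F
local notation "M3" => Matrix (Fin 3) (Fin 3) F

/-- Recognition of the dihedral group of order eight. -/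
theorem iso_dihedral_four {C : Type*} [Group C] {d s : C} (hd4 : d ^ 4 = 1) (hd2 : d ^ 2 ≠ 1) (hs : s * s = 1)
    (hsd : s * d * s * d = 1) (hout : ∀ k : ℕ, s ≠ d ^ k) (hgen : Subgroup.closure ({s, d} : Set C) = ⊤) :
    Nonempty (C ≃* DihedralGroup 4) := by
  let e : ZMod 4 → C := fun i => d ^ i.val
  have he : ∀ i j : ZMod 4, e (i + j) = e i * e j := fun i j => by
    show d ^ (i + j).val = d ^ i.val * d ^ j.val
    rw [← pow_add, ZMod.val_add, ← pow_eq_pow_mod _ hd4]
  have e0 : e 0 = 1 := pow_zero _
  have hsds : s * d * s = d⁻¹ := eq_inv_of_mul_eq_one_left hsd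
  have hcomm : ∀ i, s * e i * s = e (-i) := fun i => by
    have h1 : e (-i) = (e i)⁻¹ := eq_inv_of_mul_eq_one_left (by rw [← he, neg_add_cancel, e0])
    rw [h1]
    show s * d ^ i.val * s = (d ^ i.val)⁻¹
    have hsi : s⁻¹ = s := inv_eq_of_mul_eq_one_right hs
    calc s * d ^ i.val * s = (s * d * s⁻¹) ^ i.val := by rw [conj_pow, hsi]
      _ = (d ^ i.val)⁻¹ := by rw [hsi, hsds, inv_pow]
  have hes : ∀ i, e i * s = s * e (-i) := fun i => by
    rw [← hcomm, ← mul_assoc, ← mul_assoc, hs, one_mul]
  let f : DihedralGroup 4 → C := fun x => match x with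
    | .r i => e i
    | .sr i => s * e i
  let φ : DihedralGroup 4 →* C := MonoidHom.mk' f (by
    rintro (i | i) (j | j)
    · exact he i j
    · show s * e (j - i) = e i * (s * e j)
      rw [← mul_assoc, hes, mul_assoc, ← he, neg_add_eq_sub]
    · show s * e (i + j) = s * e i * e j
      rw [he, mul_assoc]
    · show e (j - i) = s * e i * (s * e j)
      rw [← mul_assoc, hcomm, ← he, neg_add_eq_sub])
  have hinj : Function.Injective φ := (injective_iff_map_eq_one φ).2 fun x hx => by
    rcases x with i | i
    · have hx' : d ^ i.val = 1 := hx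
      have hlt := ZMod.val_lt i
      have hord : orderOf d = 4 := by
        haveI : Fact (Nat.Prime 2) := ⟨Nat.prime_two⟩
        exact orderOf_eq_prime_pow (p := 2) (n := 1) (by simpa using hd2) (by simpa using hd4)
      have hdvd := orderOf_dvd_of_pow_eq_one hx'
      rw [hord] at hdvd
      have : i.val = 0 := by omega
      rw [(ZMod.val_eq_zero i).1 this]
      rfl
    · exfalso
      have hx' : s * e i = 1 := hx
      refine hout (-i).val ?_
      rw [eq_inv_of_mul_eq_one_left hx']
      show (e i)⁻¹ = e (-i)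
      exact inv_eq_of_mul_eq_one_right (by rw [← he, add_neg_cancel, e0])
  have hsurj : Function.Surjective φ := by
    rw [← MonoidHom.range_eq_top, eq_top_iff, ← hgen, Subgroup.closure_le]
    refine Set.insert_subset ⟨.sr 0, show s * e 0 = s by rw [e0, mul_one]⟩
      (Set.singleton_subset_iff.2 ⟨.r 1, show d ^ (1 : ZMod 4).val = d by
        rw [show (1 : ZMod 4).val = 1 from rfl, pow_one]⟩)
  exact ⟨(MulEquiv.ofBijective φ ⟨hinj, hsurj⟩).symm⟩

theorem mat_one' : mat (1 : G3) = (1 : M3) := Units.val_one

theorem uni_scalar {u : G3} {x y z : F} (hu : mat u = uni x y z) (h : u ∈ scalars (Fin 3) F) :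
    x = 0 ∧ y = 0 ∧ z = 0 := by
  obtain ⟨c, hc⟩ := (mem_scalars_iff u).1 h
  rw [show ((u : M3)) = uni x y z from hu] at hc
  have h1 := congrFun (congrFun hc 0) 1
  have h2 := congrFun (congrFun hc 1) 2
  have h3 := congrFun (congrFun hc 0) 2
  simp [uni] at h1 h2 h3
  exact ⟨h1, h2, h3⟩

/-- The centraliser in the central quotient of the image of an involution. -/
theorem Core.cent_lift (hP : Core P) {t : P} (ht : (t : G3) * t = 1)
    {c : P ⧸ (scalars (Fin 3) F).subgroupOf P}
    (hc : c ∈ Subgroup.centralizer ({(t : P ⧸ (scalars (Fin 3) F).subgroupOf P)} :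
      Set (P ⧸ (scalars (Fin 3) F).subgroupOf P))) :
    ∃ g : P, (g : P ⧸ (scalars (Fin 3) F).subgroupOf P) = c ∧ (g : G3) * t = t * g := by
  obtain ⟨g, rfl⟩ := QuotientGroup.mk_surjective c
  refine ⟨g, rfl, ?_⟩
  have h1 := Subgroup.mem_centralizer_singleton_iff.1 hc
  rw [← QuotientGroup.mk_mul, ← QuotientGroup.mk_mul] at h1
  have h2 : (g * t)⁻¹ * (t * g) ∈ (scalars (Fin 3) F).subgroupOf P := QuotientGroup.eq.1 h1
  have h3 : (t * g)⁻¹ * (g * t) ∈ (scalars (Fin 3) F).subgroupOf P := by
    have := inv_mem h2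
    simpa [_root_.mul_inv_rev] using this
  set z : G3 := (((t * g)⁻¹ * (g * t) : P) : G3) with hz
  have hzs : z ∈ scalars (Fin 3) F := h3
  have hti : (t : G3)⁻¹ = t := inv_eq_of_mul_eq_one_right ht
  have e1 : (g : G3)⁻¹ * t * g * t = z := by
    rw [hz]; simp only [Subgroup.coe_mul, Subgroup.coe_inv, _root_.mul_inv_rev, hti, mul_assoc]
  have e1' : (g : G3)⁻¹ * t * g = z * t := by rw [← e1, mul_assoc _ (t : G3) t, ht, mul_one]
  have e2 : z * z = 1 := by
    have : ((g : G3)⁻¹ * t * g) * ((g : G3)⁻¹ * t * g) = 1 := by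
      simp only [mul_assoc, mul_inv_cancel_left]
      rw [← mul_assoc (t : G3) t, ht, one_mul, inv_mul_cancel]
    rw [e1', mul_assoc z, ← mul_assoc (t : G3) z, ← scalar_commute hzs (t : G3), mul_assoc z (t : G3), ht, mul_one] at this
    exact this
  have e3 : z = 1 := by
    have := hP.scalar_pow_three ((t * g)⁻¹ * (g * t) : P).2 hzs
    rwa [pow_three, e2, mul_one] at this
  rw [e3, one_mul] at e1'
  calc (g : G3) * t = g * ((g : G3)⁻¹ * t * g) := by rw [e1']
    _ = t * g := by rw [← mul_assoc, mul_inv_cancel_left]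

/-- A group in standard position. -/
theorem Std.card_of_both (h : Std P) (hb : HasUni P 0 1 0) :
    Nat.card (P ⧸ (scalars (Fin 3) F).subgroupOf P) = 168 ∨
      Nat.card (P ⧸ (scalars (Fin 3) F).subgroupOf P) = 360 := by
  set S := (scalars (Fin 3) F).subgroupOf P with hS
  haveI := h.core.simple
  have h2 := h.two
  obtain ⟨t, htP, het⟩ := h.top
  obtain ⟨a, haP, hea⟩ := h.side
  obtain ⟨b, hbP, heb⟩ := hb
  set π := QuotientGroup.mk' S with hπ
  set T : P := ⟨t, htP⟩
  set A : P := ⟨a, haP⟩
  set B : P := ⟨b, hbP⟩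
  have htt : (T : G3) * T = 1 := Units.ext (by
    show mat t * mat t = 1
    rw [het, uni_mul, ← uni_zero]; congr 1 <;> first | linear_combination h2 | linear_combination -h2 | ring)
  have hAA : A * A = 1 := Subtype.ext (Units.ext (by
    show mat a * mat a = 1
    rw [hea, uni_mul, ← uni_zero]; congr 1 <;> first | linear_combination h2 | linear_combination -h2 | ring))
  have hne : ∀ (u : P) (x y z : F), mat (u : G3) = uni x y z → (x ≠ 0 ∨ y ≠ 0 ∨ z ≠ 0) → π u ≠ 1 := by
    intro u x y z hu hxyz e
    obtain ⟨hx, hy, hz⟩ := uni_scalar hu (show (u : G3) ∈ scalars (Fin 3) F from (QuotientGroup.eq_one_iff u).1 e)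
    rcases hxyz with h | h | h <;> contradiction
  set C := Subgroup.centralizer ({π T} : Set (P ⧸ S)) with hC
  have hAT : π A ∈ C := by
    rw [hC, Subgroup.mem_centralizer_singleton_iff, ← map_mul, ← map_mul]
    congr 1
    refine Subtype.ext (Units.ext ?_)
    show mat a * mat t = mat t * mat a
    rw [hea, het, uni_mul, uni_mul]; congr 1 <;> ring
  have hBT : π B ∈ C := by
    rw [hC, Subgroup.mem_centralizer_singleton_iff, ← map_mul, ← map_mul]
    congr 1
    refine Subtype.ext (Units.ext ?_)
    show mat b * mat t = mat t * mat b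
    rw [heb, het, uni_mul, uni_mul]; congr 1 <;> ring
  have hD2 : (A * B) ^ 2 = T := Subtype.ext (Units.ext (by
    rw [pow_two]
    show mat a * mat b * (mat a * mat b) = mat t
    rw [hea, heb, het, uni_mul, uni_mul]; congr 1 <;> first | linear_combination h2 | linear_combination -h2 | ring))
  have hD4 : (A * B) ^ 4 = 1 := by
    rw [show 4 = 2 * 2 by rfl, pow_mul, hD2, pow_two]
    exact Subtype.ext htt
  obtain ⟨e⟩ : Nonempty (C ≃* DihedralGroup 4) := by
    refine iso_dihedral_four (s := (⟨π A, hAT⟩ : C)) (d := ⟨π A * π B, mul_mem hAT hBT⟩) ?_ ?_ ?_ ?_ ?_ ?_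
    · refine Subtype.ext ?_
      simp only [SubgroupClass.coe_pow, OneMemClass.coe_one, ← map_mul, ← map_pow, hD4, map_one]
    · intro e
      have e' := congrArg Subtype.val e
      simp only [SubgroupClass.coe_pow, OneMemClass.coe_one, ← map_mul, ← map_pow, hD2] at e'
      exact hne T 0 0 1 het (Or.inr (Or.inr one_ne_zero)) e'
    · refine Subtype.ext ?_
      simp only [Subgroup.coe_mul, OneMemClass.coe_one, ← map_mul, hAA, map_one]
    · refine Subtype.ext ?_
      simp only [Subgroup.coe_mul, OneMemClass.coe_one, ← map_mul]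
      rw [← map_one π]
      congr 1
      have hBB : B * B = 1 := Subtype.ext (Units.ext (by
        show mat b * mat b = 1
        rw [heb, uni_mul, ← uni_zero]; congr 1 <;> first | linear_combination h2 | linear_combination -h2 | ring))
      calc A * (A * B) * A * (A * B) = A * A * B * (A * A) * B := by simp only [mul_assoc]
        _ = 1 := by rw [hAA, one_mul, mul_one, hBB]
    · intro k e
      have e' := congrArg Subtype.val e
      simp only [SubgroupClass.coe_pow, ← map_mul, ← map_pow] at e'
      have e2 : π (A * (A * B) ^ (k % 4)) = 1 := by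
        rw [map_mul, ← pow_eq_pow_mod k hD4, ← e', ← map_mul, hAA, map_one]
      have hlt : k % 4 < 4 := Nat.mod_lt _ (by norm_num)
      interval_cases k % 4
      · exact hne A 1 0 0 hea (Or.inl one_ne_zero) (by simpa using e2)
      · rw [pow_one, ← mul_assoc, hAA, one_mul] at e2
        exact hne B 0 1 0 heb (Or.inr (Or.inl one_ne_zero)) e2
      · rw [hD2] at e2
        refine hne (A * T) 1 0 1 ?_ (Or.inl one_ne_zero) e2
        show mat (a * t) = _
        rw [mat_mul, hea, het, uni_mul]; congr 1 <;> ring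
      · rw [pow_succ, hD2] at e2
        refine hne (A * (T * (A * B))) (1 + 1) 1 (1 + 1 + 1) ?_ (Or.inr (Or.inl one_ne_zero)) e2
        show mat (a * (t * (a * b))) = _
        rw [mat_mul, mat_mul, mat_mul, hea, het, heb, uni_mul, uni_mul, uni_mul]
        congr 1 <;> ring
    · rw [eq_top_iff]
      rintro ⟨c, hc⟩ -
      obtain ⟨g, rfl, hgt⟩ := h.core.cent_lift (t := T) htt hc
      have hgt' := congrArg mat hgt
      rw [mat_mul, mat_mul, show mat (T : G3) = _ from het] at hgt'
      obtain ⟨u, hu, hus, x, y, z, hux, hx, hy, hz⟩ := h.cent_eight ⟨b, hbP, heb⟩ g.2 hgt'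
      set K := Subgroup.closure ({(⟨π A, hAT⟩ : C), ⟨π A * π B, mul_mem hAT hBT⟩} : Set C) with hK
      have hkA : (⟨π A, hAT⟩ : C) ∈ K := Subgroup.subset_closure (Or.inl rfl)
      have hkD : (⟨π A * π B, mul_mem hAT hBT⟩ : C) ∈ K := Subgroup.subset_closure (Or.inr rfl)
      have hkC : ∀ v : P, v ∈ Subgroup.closure ({A, A * B} : Set P) → ∃ hv : π v ∈ C, (⟨π v, hv⟩ : C) ∈ K := by
        intro v hv
        induction hv using Subgroup.closure_induction with
        | mem w hw =>
          rcases hw with rfl | rfl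
          · exact ⟨hAT, hkA⟩
          · exact ⟨by rw [map_mul]; exact mul_mem hAT hBT, by convert hkD using 2; exact map_mul π A B⟩
        | one => exact ⟨by rw [map_one]; exact one_mem C, by convert one_mem K using 1; exact Subtype.ext (map_one π)⟩
        | mul v w _ _ h1 h2 =>
          obtain ⟨h1, h1'⟩ := h1
          obtain ⟨h2, h2'⟩ := h2
          exact ⟨by rw [map_mul]; exact mul_mem h1 h2, by
            convert mul_mem h1' h2' using 1; exact Subtype.ext (map_mul π v w)⟩
        | inv v _ h1 =>
          obtain ⟨h1, h1'⟩ := h1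
          exact ⟨by rw [map_inv]; exact inv_mem h1, by
            convert inv_mem h1' using 1; exact Subtype.ext (map_inv π v)⟩
      set U : P := ⟨u, hu⟩
      have hgU : π g = π U := (QuotientGroup.eq.2 (show U⁻¹ * g ∈ S from hus)).symm
      suffices hU : U ∈ Subgroup.closure ({A, A * B} : Set P) by
        obtain ⟨hv, hv'⟩ := hkC U hU
        convert hv' using 2
        exact hgU
      set K' := Subgroup.closure ({A, A * B} : Set P)
      have hA' : A ∈ K' := Subgroup.subset_closure (Or.inl rfl)
      have hAB : A * B ∈ K' := Subgroup.subset_closure (Or.inr rfl)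
      have hB' : B ∈ K' := by
        have := mul_mem hA' hAB
        rwa [← mul_assoc, hAA, one_mul] at this
      have hT' : T ∈ K' := hD2 ▸ pow_mem hAB 2
      have key : ∀ (v : P), v ∈ K' → mat (v : G3) = uni x y z → U ∈ K' := fun v hv hvx => by
        rwa [show U = v from Subtype.ext (Units.ext (hux.trans hvx.symm))]
      rcases hx with rfl | rfl <;> rcases hy with rfl | rfl <;> rcases hz with rfl | rfl
      · exact key 1 (one_mem _) (by rw [uni_zero]; exact mat_one')
      · exact key T hT' het
      · exact key B hB' heb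
      · refine key (T * B) (mul_mem hT' hB') ?_
        show mat (t * b) = _
        rw [mat_mul, het, heb, uni_mul]; congr 1 <;> ring
      · exact key A hA' hea
      · refine key (A * T) (mul_mem hA' hT') ?_
        show mat (a * t) = _
        rw [mat_mul, hea, het, uni_mul]; congr 1 <;> ring
      · refine key (B * A) (mul_mem hB' hA') ?_
        show mat (b * a) = _
        rw [mat_mul, heb, hea, uni_mul]; congr 1 <;> ring
      · refine key (A * B) hAB ?_
        show mat (a * b) = _
        rw [mat_mul, hea, heb, uni_mul]; congr 1 <;> ring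
  have hord : orderOf (π T) = 2 := orderOf_eq_prime (p := 2)
    (by rw [pow_two, ← map_mul, show T * T = 1 from Subtype.ext htt, map_one])
    (hne T 0 0 1 het (Or.inr (Or.inr one_ne_zero)))
  refine Cfsg.Agent.S0848.result ?_ (π T) hord e
  haveI : (commutator (P ⧸ S)).Normal := inferInstance
  refine (IsSimpleGroup.eq_bot_or_eq_top_of_normal (commutator (P ⧸ S)) inferInstance).resolve_left fun hbot => ?_
  exact h.core.nonab ⟨⟨fun x y => (commutatorElement_eq_one_iff_mul_comm.1 (by
    have := Subgroup.commutator_mem_commutator (Subgroup.mem_top x) (Subgroup.mem_top y)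
    rw [← commutator_def, hbot] at this
    exact Subgroup.mem_bot.1 this))⟩⟩

end Cfsg.Agent.ResidualThree
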