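import Cfsg.Agent.ResidualThree.Transport
import Cfsg.Agent.S0204

/-!
Characteristic two with root groups of order two: involutions, commuting pairs, companions.
-/

set_option autoImplicit false

namespace Cfsg.Agent.ResidualThree

open Matrix Cfsg.Geo Cfsg.Agent.PrimeDim Cfsg.Agent.RootSub.Dickson
open scoped MatrixGroups

variable {F : Type*} [Field F] {P : Subgroup (GL (Fin 3) F)}

local notation "G3" => GL (Fin 3) F
local notation "M3" => Matrix (Fin 3) (Fin 3) F

/-- All root groups have two elements. -/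
def Small2 (P : Subgroup G3) : Prop :=
  ∀ (X : M3) (hX : IsTv P X), ∀ a ∈ rset P X hX.2.1, a = 0 ∨ a = 1

theorem Small2.conjGrp (h : Small2 P) (B : G3) : Small2 (PrimeDim.conjGrp B P) := by
  rintro X hX a ⟨g, hg, hgX⟩
  refine h _ (isTv_of_conjGrp hX) a ⟨B⁻¹ * g * B, mem_conjGrp.1 hg, ?_⟩
  rw [← cj_smul]
  have e : cj B⁻¹ (mat g) = mat (B⁻¹ * g * B) := by rw [cj_mat, inv_inv]
  rw [← e, hgX, cj, mul_add, add_mul, mul_one, mat_mul_inv]
  rfl

theorem two_neg (h2 : (2 : F) = 0) (X : M3) : -X = X := by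
  ext i j
  simp only [Matrix.neg_apply]
  linear_combination (-(X i j)) * h2

theorem isTv_dual (h2 : (2 : F) = 0) {X : M3} (hX : IsTv P X) : IsTv (dualGrp P) Xᵀ := by
  obtain ⟨g, hg, hgX⟩ := hX.2.2
  refine ⟨fun e => hX.1 (by rw [← Matrix.transpose_transpose X, e, Matrix.transpose_zero]),
    by rw [← Matrix.transpose_mul, hX.2.1, Matrix.transpose_zero], dualHom g, Subgroup.mem_map_of_mem _ hg, ?_⟩
  rw [mat_dualHom, inv_mat hX.2.1 hgX, sub_eq_add_neg, two_neg h2, Matrix.transpose_add, Matrix.transpose_one]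

theorem isTv_of_dual (h2 : (2 : F) = 0) {X : M3} (hX : IsTv (dualGrp P) X) : IsTv P Xᵀ := by
  have h := isTv_dual h2 hX
  have e : dualGrp (dualGrp P) = P := by
    ext g
    rw [mem_dualGrp, mem_dualGrp, dualHom_dualHom]
  rwa [e] at h

theorem Small2.dual (h2 : (2 : F) = 0) (h : Small2 P) : Small2 (dualGrp P) := by
  rintro X hX a ⟨g, hg, hgX⟩
  refine h _ (isTv_of_dual h2 hX) a ⟨dualHom g, mem_dualGrp.1 hg, ?_⟩
  rw [mat_dualHom, inv_mat (by rw [smul_mul_smul_comm, hX.2.1, smul_zero]) hgX, sub_eq_add_neg, two_neg h2,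
    Matrix.transpose_add, Matrix.transpose_one, Matrix.transpose_smul]

theorem Small2.eq_one (h : Small2 P) {X : M3} (hX : IsTv P X) {a : F} (ha : a ≠ 0) (hY : IsTv P (a • X)) : a = 1 := by
  obtain ⟨g, hg, hgX⟩ := hY.2.2
  exact (h X hX a ⟨g, hg, hgX⟩).resolve_left ha

theorem isTv_of_invol (h2 : (2 : F) = 0) {g : G3} (hg : g ∈ P) (hgg : g * g = 1) (h1 : g ≠ 1) :
    IsTv P (mat g - 1) := by
  refine isTv_of_sq hg h1 ?_
  have e : mat g * mat g = 1 := by rw [← mat_mul, hgg]; exact Units.val_one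
  rw [mul_sub, sub_mul, mul_one, one_mul, e, ← add_sub_add_right_eq_sub _ _ (0 : M3)]
  ext i j
  simp only [Matrix.sub_apply, Matrix.add_apply, Matrix.zero_apply, add_zero]
  linear_combination ((1 : M3) i j - mat g i j) * h2

/-- The product of two commuting transvections. -/
theorem IsTv.mul_comm_tv (h2 : (2 : F) = 0) {X Y : M3} (hX : IsTv P X) (hY : IsTv P Y) (hXY : X * Y = 0)
    (hYX : Y * X = 0) (hne : X ≠ Y) : IsTv P (X + Y) := by
  obtain ⟨g, hg, hgX⟩ := hX.2.2
  obtain ⟨k, hk, hkY⟩ := hY.2.2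
  refine ⟨fun e => hne ?_, ?_, g * k, mul_mem hg hk, ?_⟩
  · rw [eq_neg_of_add_eq_zero_left e, two_neg h2]
  · rw [mul_add, add_mul, add_mul, hX.2.1, hY.2.1, hXY, hYX]; simp
  · rw [mat_mul, hgX, hkY, mul_add, add_mul, add_mul, hXY, one_mul, mul_one, one_mul]
    abel

/-- Two covectors that are not proportional have a non-zero minor. -/
theorem exists_minor {α β : Fin 3 → F} (hα : α ≠ 0) (h : ∀ s : F, β ≠ s • α) :
    ∃ i j, α i * β j - α j * β i ≠ 0 := by
  by_contra hc
  push Not at hc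
  obtain ⟨k, hk⟩ : ∃ k, α k ≠ 0 := Function.ne_iff.1 hα
  refine h (β k / α k) (funext fun j => ?_)
  rw [Pi.smul_apply, smul_eq_mul, div_mul_eq_mul_div, eq_div_iff hk]
  linear_combination hc k j

/-- A sum of two rank one matrices of rank one. -/
theorem parallel_of_sum {v w α β u γ : Fin 3 → F} (hα : α ≠ 0) (hv : v ≠ 0) (hind : ∀ s : F, β ≠ s • α)
    (he : vecMulVec v α + vecMulVec w β = vecMulVec u γ) : ∃ s : F, w = s • v := by
  obtain ⟨i, j, hm⟩ := exists_minor hα hind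
  have key : ∀ k, v k * (α i * β j - α j * β i) = u k * (γ i * β j - γ j * β i) ∧
      w k * (α i * β j - α j * β i) = u k * (α i * γ j - α j * γ i) := fun k => by
    have hi := congrFun (congrFun he k) i
    have hj := congrFun (congrFun he k) j
    simp only [Matrix.add_apply, vecMulVec_apply] at hi hj
    constructor
    · linear_combination β j * hi - β i * hj
    · linear_combination α i * hj - α j * hi
  set A := γ i * β j - γ j * β i with hA
  set C := α i * γ j - α j * γ i with hC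
  by_cases hA0 : A = 0
  · exfalso
    apply hv
    funext k
    have := (key k).1
    rw [hA0, mul_zero] at this
    exact (mul_eq_zero.1 this).resolve_right hm
  refine ⟨C / A, funext fun k => ?_⟩
  rw [Pi.smul_apply, smul_eq_mul, div_mul_eq_mul_div, eq_div_iff hA0]
  refine mul_right_cancel₀ hm ?_
  linear_combination A * (key k).2 - C * (key k).1

variable [Finite F]

/-- Commuting distinct transvections annihilate each other and share the centre or the axis. -/
theorem companion (h2 : (2 : F) = 0) (hs : Small2 P) {X Y : M3} (hX : IsTv P X) (hY : IsTv P Y)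
    (hc : X * Y = Y * X) (hne : X ≠ Y) :
    (∃ v α β : Fin 3 → F, v ≠ 0 ∧ α ≠ 0 ∧ α ⬝ᵥ v = 0 ∧ β ⬝ᵥ v = 0 ∧ (∀ s : F, β ≠ s • α) ∧
        X = vecMulVec v α ∧ Y = vecMulVec v β) ∨
      (∃ v w α : Fin 3 → F, v ≠ 0 ∧ α ≠ 0 ∧ α ⬝ᵥ v = 0 ∧ α ⬝ᵥ w = 0 ∧ (∀ s : F, w ≠ s • v) ∧
        X = vecMulVec v α ∧ Y = vecMulVec w α) := by
  obtain ⟨v, α, hv, hα, hαv, rfl⟩ := hX.rep
  obtain ⟨w, β, hw, hβ, hβw, rfl⟩ := hY.rep
  -- not proportional
  have hnp : ¬ ((∃ s : F, w = s • v) ∧ ∃ r : F, β = r • α) := by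
    rintro ⟨⟨s, rfl⟩, r, rfl⟩
    rw [smul_vecMulVec, vecMulVec_smul, smul_smul] at hY hne
    exact hne (by rw [hs.eq_one hX (fun e => hY.1 (by rw [e, zero_smul])) hY, one_smul])
  have hXY : α ⬝ᵥ w = 0 ∧ β ⬝ᵥ v = 0 := by
    rw [vecMulVec_mul_vecMulVec, vecMulVec_mul_vecMulVec, vecMulVec_smul, vecMulVec_smul] at hc
    by_contra hcon
    have h' : ∀ k l, α ⬝ᵥ w * (v k * β l) = β ⬝ᵥ v * (w k * α l) := fun k l => by
      have := congrFun (congrFun hc k) l
      simpa [vecMulVec_apply] using this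
    obtain ⟨k₁, hk₁⟩ : ∃ k, v k ≠ 0 := Function.ne_iff.1 hv
    obtain ⟨l₁, hl₁⟩ : ∃ k, β k ≠ 0 := Function.ne_iff.1 hβ
    obtain ⟨k₂, hk₂⟩ : ∃ k, w k ≠ 0 := Function.ne_iff.1 hw
    obtain ⟨l₂, hl₂⟩ : ∃ k, α k ≠ 0 := Function.ne_iff.1 hα
    have ha : α ⬝ᵥ w ≠ 0 := fun e => hcon ⟨e, by
      have := h' k₂ l₂
      rw [e, zero_mul, eq_comm, mul_eq_zero] at this
      exact this.resolve_right (mul_ne_zero hk₂ hl₂)⟩
    have hb : β ⬝ᵥ v ≠ 0 := fun e => by
      have := h' k₁ l₁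
      rw [e, zero_mul, mul_eq_zero] at this
      exact mul_ne_zero hk₁ hl₁ (this.resolve_left ha)
    refine hnp ⟨⟨α ⬝ᵥ w * β l₂ / (β ⬝ᵥ v * α l₂), funext fun k => ?_⟩,
      ⟨β ⬝ᵥ v * w k₁ / (α ⬝ᵥ w * v k₁), funext fun l => ?_⟩⟩
    · rw [Pi.smul_apply, smul_eq_mul, div_mul_eq_mul_div, eq_div_iff (mul_ne_zero hb hl₂)]
      linear_combination -(h' k l₂)
    · rw [Pi.smul_apply, smul_eq_mul, div_mul_eq_mul_div, eq_div_iff (mul_ne_zero ha hk₁)]
      linear_combination h' k₁ l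
  have h0 : vecMulVec v α * vecMulVec w β = 0 := by
    rw [vecMulVec_mul_vecMulVec, hXY.1, zero_smul, vecMulVec_zero]
  have h0' : vecMulVec w β * vecMulVec v α = 0 := by
    rw [vecMulVec_mul_vecMulVec, hXY.2, zero_smul, vecMulVec_zero]
  obtain ⟨u, γ, -, -, -, he⟩ := (hX.mul_comm_tv h2 hY h0 h0' hne).rep
  by_cases hab : ∃ r : F, β = r • α
  · right
    obtain ⟨r, rfl⟩ := hab
    have hr : r ≠ 0 := fun e => hβ (by rw [e, zero_smul])
    refine ⟨v, r • w, α, hv, hα, hαv, by rw [dotProduct_smul, hXY.1, smul_zero], fun s e => hnp ⟨⟨r⁻¹ * s, ?_⟩, r, rfl⟩,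
      rfl, by rw [vecMulVec_smul, smul_vecMulVec]⟩
    rw [← smul_smul, ← e, smul_smul, inv_mul_cancel₀ hr, one_smul]
  · left
    push Not at hab
    obtain ⟨s, rfl⟩ := parallel_of_sum hα hv hab he
    have hs' : s ≠ 0 := fun e => hw (by rw [e, zero_smul])
    refine ⟨v, α, s • β, hv, hα, hαv, by rw [smul_dotProduct, hXY.2, smul_zero], fun r e => ?_, rfl,
      by rw [smul_vecMulVec, vecMulVec_smul]⟩
    refine hab (s⁻¹ * r) ?_
    rw [← smul_smul, ← e, smul_smul, inv_mul_cancel₀ hs', one_smul]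

/-- Linked transvections are conjugate. -/
theorem linked_conj (h2 : (2 : F) = 0) {X Y : M3} (hX : IsTv P X) (hY : IsTv P Y) (hl : (X * Y).trace ≠ 0) :
    ∃ g ∈ P, cj g X = Y := by
  set D := pairGroup P hX.2.1 hY.2.1 hl with hD
  have h1 : (1 : F) ∈ upSet D := (upSet_pair _ _ _).2 hX.one_mem_rset
  have hlow : (X * Y).trace ∈ lowSet D := by
    simpa using (lowSet_pair hX.2.1 hY.2.1 hl).2 hY.one_mem_rset
  obtain ⟨⟨d, hd, hde⟩, -, -⟩ := two_field h2 D hl h1 hlow
  obtain ⟨g, hg, hgd⟩ : ∃ g ∈ P, mat g = pairHom hX.2.1 hY.2.1 hl d := ⟨_, hd, rfl⟩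
  refine ⟨g, hg, ?_⟩
  have hginv : mat g⁻¹ = pairHom hX.2.1 hY.2.1 hl d⁻¹ := by
    have e : mat g * pairHom hX.2.1 hY.2.1 hl d⁻¹ = 1 := by rw [hgd, ← map_mul, mul_inv_cancel, map_one]
    calc mat g⁻¹ = mat g⁻¹ * (mat g * pairHom hX.2.1 hY.2.1 hl d⁻¹) := by rw [e, mul_one]
      _ = pairHom hX.2.1 hY.2.1 hl d⁻¹ := by
        rw [← mul_assoc, ← mat_mul, inv_mul_cancel, show mat (1 : G3) = 1 from Units.val_one, one_mul]
  have h3 := congrArg (pairHom hX.2.1 hY.2.1 hl) hde
  rw [map_mul, map_mul, pairHom_upR, pairHom_lowR, one_smul, div_self hl, one_smul, ← hgd, ← hginv, mul_add,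
    add_mul, mul_one, mat_mul_inv] at h3
  exact add_left_cancel h3

/-- All transvections are conjugate. -/
theorem Core.all_conj (hP : Core P) (h2 : (2 : F) = 0) {X Y : M3} (hX : IsTv P X) (hY : IsTv P Y) :
    ∃ g ∈ P, cj g X = Y := by
  obtain ⟨h, hh, hl⟩ := hP.exists_linked hX hY
  rw [Matrix.trace_mul_comm] at hl
  obtain ⟨g, hg, he⟩ := linked_conj h2 (hX.conj hh) hY hl
  exact ⟨g * h, mul_mem hg hh, by rw [cj_mul, he]⟩

/-- An involution of the central quotient lifts to an involution. -/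
theorem Core.lift_invol (hP : Core P) {x : P} (hx : x * x ∈ (scalars (Fin 3) F).subgroupOf P) :
    ∃ y : P, x⁻¹ * y ∈ (scalars (Fin 3) F).subgroupOf P ∧ (y : G3) * y = 1 := by
  have hz : ((x : G3) * x) ∈ scalars (Fin 3) F := hx
  have hz3 := hP.scalar_pow_three (mul_mem x.2 x.2) hz
  refine ⟨x * (x * x), by rw [inv_mul_cancel_left]; exact hx, ?_⟩
  simp only [Subgroup.coe_mul]
  rw [← hz3, pow_succ, pow_two]
  simp only [mul_assoc]

/-- Two distinct commuting transvections exist. -/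
theorem Core.exists_comm_pair (hP : Core P) (h2 : (2 : F) = 0) :
    ∃ X Y : M3, IsTv P X ∧ IsTv P Y ∧ X * Y = Y * X ∧ X ≠ Y := by
  set S := (scalars (Fin 3) F).subgroupOf P with hS
  haveI := hP.simple
  haveI : Finite G3 := inferInstance
  have hnc : ¬ IsCyclic (P ⧸ S) := fun hc => hP.nonab ⟨⟨fun a b => by
    letI := hc.commGroup
    exact mul_comm a b⟩⟩
  obtain ⟨E, hE⟩ := Cfsg.Agent.S0204.result hnc
  haveI := hE
  haveI : Nontrivial E := Finite.one_lt_card_iff_nontrivial.1 (by rw [IsKleinFour.card_four]; norm_num)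
  classical
  haveI : Fintype E := Fintype.ofFinite E
  obtain ⟨a, ha⟩ := exists_ne (1 : E)
  obtain ⟨b, hb⟩ : ∃ b : E, b ≠ 1 ∧ b ≠ a := by
    by_contra hcon
    push Not at hcon
    have hle : (Finset.univ : Finset E) ⊆ {1, a} := fun y _ => by
      by_cases h : y = 1
      · simp [h]
      · simp [hcon y h]
    have := Finset.card_le_card hle
    rw [Finset.card_univ, ← Nat.card_eq_fintype_card, IsKleinFour.card_four] at this
    have := this.trans (Finset.card_le_two)
    omega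
  obtain ⟨x, hxa⟩ := QuotientGroup.mk'_surjective S (a : P ⧸ S)
  obtain ⟨y, hyb⟩ := QuotientGroup.mk'_surjective S (b : P ⧸ S)
  have sq : ∀ (e : E) (x : P), QuotientGroup.mk' S x = (e : P ⧸ S) →
      ∃ x' : P, QuotientGroup.mk' S x' = (e : P ⧸ S) ∧ (x' : G3) * x' = 1 := fun e x hxe => by
    obtain ⟨x', hx', hx2⟩ := hP.lift_invol (x := x) (by
      rw [← hS, ← QuotientGroup.eq_one_iff]
      show QuotientGroup.mk' S (x * x) = 1
      rw [map_mul, hxe]
      have := IsKleinFour.mul_self e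
      exact congrArg Subtype.val this)
    exact ⟨x', by rw [← hxe]; exact (QuotientGroup.eq.2 hx').symm, hx2⟩
  obtain ⟨x', hx', hx2⟩ := sq a x hxa
  obtain ⟨y', hy', hy2⟩ := sq b y hyb
  have hx1 : (x' : G3) ≠ 1 := fun e => ha (Subtype.ext (by
    rw [← hx', show x' = 1 from Subtype.ext e, map_one]; rfl))
  have hy1 : (y' : G3) ≠ 1 := fun e => hb.1 (Subtype.ext (by
    rw [← hy', show y' = 1 from Subtype.ext e, map_one]; rfl))
  -- the lifts commute
  have hcomm : (x' : G3) * y' = y' * x' := by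
    have hab : a * b = b * a := mul_comm_of_exponent_two IsKleinFour.exponent_two a b
    have hz : (x' * y') * (y' * x')⁻¹ ∈ S := by
      rw [← QuotientGroup.eq_one_iff]
      show QuotientGroup.mk' S _ = 1
      rw [map_mul, map_inv, map_mul, map_mul, hx', hy', ← Subgroup.coe_mul, ← Subgroup.coe_mul, hab, mul_inv_cancel]
    set z : G3 := (((x' * y') * (y' * x')⁻¹ : P) : G3) with hzdef
    have hzs : z ∈ scalars (Fin 3) F := hz
    have e1 : (x' : G3) * y' * (x' : G3) = z * (y' : G3) := by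
      rw [hzdef]
      simp only [Subgroup.coe_mul, Subgroup.coe_inv, _root_.mul_inv_rev]
      rw [inv_eq_of_mul_eq_one_right hx2, inv_eq_of_mul_eq_one_right hy2]
      simp only [mul_assoc, hy2, mul_one]
    have e2 : z * z = 1 := by
      calc z * z = z * (y' : G3) * (z * (y' : G3)) := by
            rw [mul_assoc z, ← mul_assoc (y' : G3) z, ← scalar_commute hzs (y' : G3), mul_assoc z (y' : G3), hy2, mul_one]
        _ = (x' : G3) * y' * x' * ((x' : G3) * y' * x') := by rw [e1]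
        _ = 1 := by
          simp only [mul_assoc]
          rw [← mul_assoc (x' : G3) x', hx2, one_mul, ← mul_assoc (y' : G3) y', hy2, one_mul, hx2]
    have e3 : z = 1 := by
      have := hP.scalar_pow_three (x' * y' * (y' * x')⁻¹).2 hzs
      rwa [pow_three, e2, mul_one] at this
    rw [e3, one_mul] at e1
    calc (x' : G3) * y' = (x' : G3) * y' * x' * x' := by rw [mul_assoc _ (x' : G3) x', hx2, mul_one]
      _ = y' * x' := by rw [e1]
  refine ⟨mat x' - 1, mat y' - 1, isTv_of_invol h2 x'.2 hx2 hx1, isTv_of_invol h2 y'.2 hy2 hy1, ?_, ?_⟩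
  · have := congrArg mat hcomm
    rw [mat_mul, mat_mul] at this
    rw [sub_mul, sub_mul, one_mul, one_mul, mul_sub, mul_sub, mul_one, mul_one, this]
    abel
  · intro e
    have : x' = y' := Subtype.ext (Units.ext (sub_left_inj.1 e))
    exact hb.2 (Subtype.ext (by rw [← hy', ← this, hx']))

/-- A hermitian group has no commuting distinct transvections. -/
theorem Core.not_hermitian (hP : Core P) (h2 : (2 : F) = 0) (hs : Small2 P) {σ : F ≃+* F} {G : M3}
    (hG : G.det ≠ 0) (hfix : Fixes σ P G) : False := by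
  obtain ⟨X, Y, hX, hY, hc, hne⟩ := hP.exists_comm_pair h2
  have key : ∀ Z : M3, IsTv P Z → G * Z.map σ = -(Zᵀ * G) := by
    intro Z hZ
    obtain ⟨g, hg, hgZ⟩ := hZ.2.2
    have h1 := hfix g hg
    rw [act, hgZ, Matrix.map_add σ (map_add σ), Matrix.map_one σ (map_zero σ) (map_one σ), Matrix.transpose_add,
      Matrix.transpose_one] at h1
    have h4 : (1 - Zᵀ) * ((1 + Zᵀ) * G * (1 + Z.map σ)) = G * (1 + Z.map σ) := by
      have e : (1 - Zᵀ) * (1 + Zᵀ) = 1 := by
        rw [sub_mul, mul_add, mul_add, one_mul, mul_one, one_mul, ← Matrix.transpose_mul, hZ.2.1,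
          Matrix.transpose_zero]
        abel
      rw [← mul_assoc, ← mul_assoc, e, one_mul]
    rw [h1, mul_add, mul_one, sub_mul, one_mul, sub_eq_add_neg] at h4
    exact (add_left_cancel h4).symm
  have hu : ∀ x : Fin 3 → F, x ≠ 0 → G *ᵥ (fun i => σ (x i)) ≠ 0 ∧ x ᵥ* G ≠ 0 := fun x hx => by
    have hU := PrimeDim.isUnit_of_det hG
    constructor
    · intro e
      apply hx
      have := Matrix.mulVec_injective_iff_isUnit.2 hU (e.trans (Matrix.mulVec_zero G).symm)
      funext i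
      exact (map_eq_zero σ).1 (congrFun this i)
    · intro e
      exact hx (Matrix.vecMul_injective_iff_isUnit.2 hU (e.trans (Matrix.zero_vecMul G).symm))
  have hrel : ∀ v α : Fin 3 → F, IsTv P (vecMulVec v α) → ∀ k l,
      (G *ᵥ fun i => σ (v i)) k * σ (α l) = -(α k * (v ᵥ* G) l) := fun v α hT k l => by
    have h := congrFun (congrFun (key _ hT) k) l
    have e1 : (vecMulVec v α).map σ = vecMulVec (fun i => σ (v i)) (fun i => σ (α i)) := by
      ext i j; simp [vecMulVec_apply]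
    rw [e1, Matrix.mul_vecMulVec, transpose_vecMulVec, Matrix.vecMulVec_mul] at h
    simpa [vecMulVec_apply] using h
  rcases companion h2 hs hX hY hc hne with ⟨v, α, β, hv, hα, -, -, hind, rfl, rfl⟩ |
    ⟨v, w, α, hv, hα, -, -, hind, rfl, rfl⟩
  · obtain ⟨i, j, hm⟩ := exists_minor hα hind
    obtain ⟨l, hl⟩ : ∃ l, (v ᵥ* G) l ≠ 0 := Function.ne_iff.1 (hu v hv).2
    have a1 := hrel v α hX
    have b1 := hrel v β hY
    set A := G *ᵥ fun i => σ (v i)
    have ei : (v ᵥ* G) l * ((v ᵥ* G) l * (α i * β j - α j * β i)) = 0 := by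
      linear_combination (v ᵥ* G) l * β j * a1 i l - A i * σ (α l) * b1 j l - (v ᵥ* G) l * β i * a1 j l +
        A j * σ (α l) * b1 i l
    exact mul_ne_zero hl (mul_ne_zero hl hm) ei
  · obtain ⟨k, hk⟩ : ∃ k, α k ≠ 0 := Function.ne_iff.1 hα
    have a1 := hrel v α hX k
    have b1 := hrel w α hY k
    set a := (G *ᵥ fun i => σ (v i)) k with ha
    set b := (G *ᵥ fun i => σ (w i)) k with hb
    have ha0 : a ≠ 0 := fun e => (hu v hv).2 <| funext fun l => by
      have := a1 l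
      rw [e, zero_mul, eq_comm, neg_eq_zero, mul_eq_zero] at this
      exact this.resolve_left hk
    refine hind (b / a) ?_
    have e0 : (b • v - a • w) ᵥ* G = 0 := by
      funext l
      rw [Matrix.sub_vecMul, Matrix.smul_vecMul, Matrix.smul_vecMul, Pi.sub_apply, Pi.smul_apply, Pi.smul_apply,
        smul_eq_mul, smul_eq_mul, Pi.zero_apply]
      refine mul_left_cancel₀ hk ?_
      linear_combination b * a1 l - a * b1 l
    have e1 : b • v = a • w :=
      sub_eq_zero.1 (Classical.byContradiction fun h => (hu _ h).2 e0)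
    funext i
    have := congrFun e1 i
    rw [Pi.smul_apply, Pi.smul_apply, smul_eq_mul, smul_eq_mul] at this
    rw [Pi.smul_apply, smul_eq_mul, div_mul_eq_mul_div, eq_div_iff ha0]
    linear_combination -this

end Cfsg.Agent.ResidualThree
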