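import Cfsg.Agent.ResidualThree.CharTwoMain
import Cfsg.Agent.S0497
import Mathlib.GroupTheory.Perm.Cycle.Type
import Mathlib.LinearAlgebra.Matrix.GeneralLinearGroup.Card

/-!
Characteristic two, root groups of order two: the field has four elements and the quotient order 360.
-/

set_option autoImplicit false

namespace Cfsg.Agent.ResidualThree

open Matrix Cfsg.Geo Cfsg.Agent.PrimeDim Cfsg.Agent.RootSub.Dickson
open scoped MatrixGroups

variable {F : Type*} [Field F] [Finite F] {P : Subgroup (GL (Fin 3) F)}

local notation "G3" => GL (Fin 3) F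
local notation "M3" => Matrix (Fin 3) (Fin 3) F

/-- The order of the central quotient. -/
theorem Core.charTwo_card (hP : Core P) (h2 : (2 : F) = 0) (hs : Small2 P) :
    Nat.card (P ⧸ (scalars (Fin 3) F).subgroupOf P) = 168 ∨
      Nat.card (P ⧸ (scalars (Fin 3) F).subgroupOf P) = 360 := by
  obtain ⟨X, Y, hX, hY, hc, hne⟩ := hP.exists_comm_pair h2
  -- a pair with the same centre
  have left : ∀ (P : Subgroup G3), Core P → Small2 P → ∀ v α β : Fin 3 → F, v ≠ 0 → α ≠ 0 → α ⬝ᵥ v = 0 →
      β ⬝ᵥ v = 0 → (∀ s : F, β ≠ s • α) → IsTv P (vecMulVec v α) → IsTv P (vecMulVec v β) →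
      Nat.card (P ⧸ (scalars (Fin 3) F).subgroupOf P) = 168 ∨
        Nat.card (P ⧸ (scalars (Fin 3) F).subgroupOf P) = 360 := by
    intro P hP hs v α β hv hα hαv hβv hind hX hY
    obtain ⟨k, hk⟩ : ∃ k, v k ≠ 0 := Function.ne_iff.1 hv
    set γ : Fin 3 → F := Pi.single k (v k)⁻¹ with hγ
    have hγv : γ ⬝ᵥ v = 1 := by rw [hγ, single_dotProduct, inv_mul_cancel₀ hk]
    set B₀ : M3 := Matrix.of ![γ, β, α] with hB₀
    have hdet : B₀.det ≠ 0 := by
      intro hd
      obtain ⟨c, hc0, hc⟩ := Matrix.exists_vecMul_eq_zero_iff.2 hd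
      have hrow : c 0 • γ + c 1 • β + c 2 • α = 0 := by
        funext j
        have := congrFun hc j
        simpa [hB₀, Matrix.vecMul, dotProduct, Fin.sum_univ_three] using this
      have h0 : c 0 = 0 := by
        have := congrArg (fun u : Fin 3 → F => u ⬝ᵥ v) hrow
        simpa [add_dotProduct, hγv, hαv, hβv] using this
      rw [h0, zero_smul, zero_add] at hrow
      by_cases h1 : c 1 = 0
      · rw [h1, zero_smul, zero_add] at hrow
        exact hc0 (funext fun i => by
          fin_cases i
          · exact h0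
          · exact h1
          · exact (smul_eq_zero.1 hrow).resolve_right hα)
      · refine hind (-(c 2) / c 1) ?_
        funext j
        have := congrFun hrow j
        simp only [Pi.add_apply, Pi.smul_apply, smul_eq_mul, Pi.zero_apply] at this
        rw [Pi.smul_apply, smul_eq_mul, div_mul_eq_mul_div, eq_div_iff h1]
        linear_combination this
    let B : G3 := ((Matrix.isUnit_iff_isUnit_det B₀).2 (isUnit_iff_ne_zero.2 hdet)).unit
    have hB : mat B = B₀ := IsUnit.unit_spec _
    have hBv : mat B *ᵥ v = Pi.single 0 1 := by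
      funext i
      fin_cases i <;> simp [hB, hB₀, Matrix.mulVec, hγv, hαv, hβv]
    have hrowB : ∀ i, (mat B i) ᵥ* mat B⁻¹ = Pi.single i 1 := fun i => by
      have e : mat B i = Pi.single i 1 ᵥ* mat B := by rw [Matrix.single_one_vecMul]; rfl
      rw [e, Matrix.vecMul_vecMul, mat_mul_inv, Matrix.vecMul_one]
    have hα' : cj B (vecMulVec v α) = !![0, 0, 1; 0, 0, 0; 0, 0, 0] := by
      rw [cj, Matrix.mul_vecMulVec, Matrix.vecMulVec_mul, hBv, show α = mat B 2 by rw [hB]; rfl, hrowB]
      ext i j; fin_cases i <;> fin_cases j <;> simp [vecMulVec_apply]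
    have hβ' : cj B (vecMulVec v β) = !![0, 1, 0; 0, 0, 0; 0, 0, 0] := by
      rw [cj, Matrix.mul_vecMulVec, Matrix.vecMulVec_mul, hBv, show β = mat B 1 by rw [hB]; rfl, hrowB]
      ext i j; fin_cases i <;> fin_cases j <;> simp [vecMulVec_apply]
    have hE := isTv_conjGrp (B := B) hX
    have hA := isTv_conjGrp (B := B) hY
    rw [hα'] at hE
    rw [hβ'] at hA
    obtain ⟨t, ht, het⟩ := hE.2.2
    obtain ⟨a, ha, hea⟩ := hA.2.2
    have std : Std (PrimeDim.conjGrp B P) := ⟨h2, hs.conjGrp B, hP.conjGrp B,
      ⟨t, ht, by rw [het]; ext i j; fin_cases i <;> fin_cases j <;> simp [uni]⟩,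
      ⟨a, ha, by rw [hea]; ext i j; fin_cases i <;> fin_cases j <;> simp [uni]⟩⟩
    rw [← quot_card_conj B]
    by_cases hnd : ∀ p r : F, p ≠ 0 → ¬ HasUni (PrimeDim.conjGrp B P) 0 p r
    · exact (std.not_row hnd).elim
    push Not at hnd
    obtain ⟨p, r, hp, hb⟩ := hnd
    have hp1 : p = 1 := by
      have h3 := (std.side.mul hb).mul (std.side.mul hb)
      simp only [zero_add, add_zero, one_mul] at h3
      rw [show (1 : F) + 1 = 0 by linear_combination h2, show p + p = 0 by linear_combination p * h2,
        show r + p + p + (r + p) = p by linear_combination (r + p) * h2] at h3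
      exact (std.top_param h3).resolve_left hp
    subst hp1
    set C₀ : M3 := uni r 0 0 with hC₀
    have hC2 : C₀ * C₀ = 1 := by
      rw [hC₀, uni_mul, ← uni_zero]; congr 1 <;> first | linear_combination r * h2 | linear_combination -r * h2 | ring
    let C : G3 := ⟨C₀, C₀, hC2, hC2⟩
    have hinv : mat C⁻¹ = uni r 0 0 := rfl
    have hCm : mat C = uni r 0 0 := rfl
    have key : ∀ x y z : F, HasUni (PrimeDim.conjGrp B P) x y z →
        HasUni (PrimeDim.conjGrp C (PrimeDim.conjGrp B P)) x y (r * y + z) := by
      rintro x y z ⟨g, hg, hge⟩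
      refine ⟨C * g * C⁻¹, mem_conjGrp.2 (by simpa [mul_assoc] using hg), ?_⟩
      rw [mat_mul, mat_mul, hCm, hinv, hge, uni_mul, uni_mul]
      congr 1 <;> first | linear_combination r * h2 | linear_combination -r * h2 | ring
    have std' : Std (PrimeDim.conjGrp C (PrimeDim.conjGrp B P)) := ⟨h2, (hs.conjGrp B).conjGrp C,
      (hP.conjGrp B).conjGrp C, by simpa using key _ _ _ std.top, by simpa using key _ _ _ std.side⟩
    rw [← quot_card_conj C]
    refine std'.card_of_both ?_
    have := key _ _ _ hb
    rwa [mul_one, show r + r = 0 by linear_combination r * h2] at this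
  rcases companion h2 hs hX hY hc hne with ⟨v, α, β, hv, hα, hαv, hβv, hind, rfl, rfl⟩ |
    ⟨v, w, α, hv, hα, hαv, hαw, hind, rfl, rfl⟩
  · exact left P hP hs v α β hv hα hαv hβv hind hX hY
  · rw [← quot_card_dual]
    have hX' := isTv_dual h2 hX
    have hY' := isTv_dual h2 hY
    rw [transpose_vecMulVec] at hX' hY'
    exact left _ hP.dualGrp (hs.dual h2) α v w hα hv (by rwa [dotProduct_comm]) (by rwa [dotProduct_comm]) hind hX' hY'

/-- Elements of odd order inverted by an involution, order 168. -/
theorem cube_of_168 {G : Type*} [Group G] [Finite G] [IsSimpleGroup G] (hG : Nat.card G = 168) {t w : G}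
    (ht : t * t = 1) (hinv : t * w * t = w⁻¹) (hodd : Odd (orderOf w)) : w ^ 3 = 1 := by
  haveI : Fact (Nat.Prime 7) := ⟨by norm_num⟩
  have hd : orderOf w ∣ 168 := hG ▸ orderOf_dvd_natCard w
  have h21 : orderOf w ∣ 21 := by
    have hcop : Nat.Coprime (orderOf w) 8 := by
      rw [show 8 = 2 ^ 3 by norm_num]
      exact (Nat.coprime_two_right.2 hodd).pow_right 3
    exact hcop.dvd_of_dvd_mul_left (show orderOf w ∣ 8 * 21 from hd)
  rw [← orderOf_dvd_iff_pow_eq_one]
  by_contra h3
  -- then some power has order seven and is inverted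
  have h7 : 7 ∣ orderOf w := by
    by_contra h7
    exact h3 (((Nat.Prime.coprime_iff_not_dvd (by norm_num)).2 h7).symm.dvd_of_dvd_mul_left
      (show orderOf w ∣ 7 * 3 from h21))
  set u := w ^ (orderOf w / 7) with hu
  have hu7 : orderOf u = 7 := orderOf_pow_orderOf_div (orderOf_pos w).ne' h7
  have huinv : t * u * t = u⁻¹ := by
    have hti : t⁻¹ = t := inv_eq_of_mul_eq_one_right ht
    rw [hu, ← inv_pow, ← hinv]
    conv_rhs => rw [show t * w * t = t * w * t⁻¹ by rw [hti]]
    rw [conj_pow, hti]
  have hp : IsPGroup 7 (Subgroup.zpowers u) :=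
    IsPGroup.of_card (n := 1) (by rw [Nat.card_zpowers, hu7, pow_one])
  obtain ⟨Q, hQ⟩ := hp.exists_le_sylow
  have hQc : Nat.card Q = 7 := by
    rw [Q.card_eq_multiplicity, hG]
    norm_num [Nat.factorization_def _ (by norm_num : Nat.Prime 7), padicValNat.eq_zero_iff]
    rw [show (168 : ℕ) = 7 * 24 by norm_num, padicValNat.mul (by norm_num) (by norm_num), padicValNat_self,
      padicValNat.eq_zero_of_not_dvd (by norm_num)]
    norm_num
  have hQeq : Subgroup.zpowers u = (Q : Subgroup G) :=
    Subgroup.eq_of_le_of_card_ge hQ (by rw [hQc, Nat.card_zpowers, hu7])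
  have hn := card_sylow_modEq_one 7 G
  have hdvd : Nat.card (Sylow 7 G) ∣ 24 := by
    have := Q.card_dvd_index
    have hi : (Q : Subgroup G).index * 7 = 168 := by
      have e := Subgroup.index_mul_card (Q : Subgroup G)
      rw [hQc, hG] at e
      exact e
    rwa [show (Q : Subgroup G).index = 24 by omega] at this
  have hn8 : Nat.card (Sylow 7 G) = 8 := by
    have hle := Nat.le_of_dvd (by norm_num) hdvd
    unfold Nat.ModEq at hn
    interval_cases h : Nat.card (Sylow 7 G) <;> try omega
    all_goals try (exfalso; omega)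
    haveI : Subsingleton (Sylow 7 G) := (Nat.card_eq_one_iff_unique.1 h).1
    haveI := Sylow.normal_of_subsingleton Q
    rcases IsSimpleGroup.eq_bot_or_eq_top_of_normal (Q : Subgroup G) inferInstance with e | e
    · rw [e, Subgroup.card_bot] at hQc; omega
    · rw [e, Subgroup.card_top, hG] at hQc; omega
  have hidx := Q.card_eq_index_normalizer
  rw [hn8] at hidx
  have hN : Nat.card (Subgroup.normalizer ((Q : Subgroup G) : Set G)) = 21 := by
    have := Subgroup.index_mul_card (Subgroup.normalizer ((Q : Subgroup G) : Set G))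
    rw [hG, show (Subgroup.normalizer ((Q : Subgroup G) : Set G)).index = 8 from hidx.symm] at this
    omega
  have hmem : t ∈ Subgroup.normalizer ((Q : Subgroup G) : Set G) := by
    rw [Subgroup.mem_normalizer_iff, ← hQeq]
    have hti : t⁻¹ = t := inv_eq_of_mul_eq_one_right ht
    have key : ∀ x ∈ Subgroup.zpowers u, t * x * t⁻¹ ∈ Subgroup.zpowers u := by
      intro x hx
      obtain ⟨k, rfl⟩ := Subgroup.mem_zpowers_iff.1 hx
      rw [← conj_zpow, hti, huinv]
      exact zpow_mem (inv_mem (Subgroup.mem_zpowers u)) k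
    refine fun x => ⟨key x, fun h => ?_⟩
    have := key _ h
    simpa [hti, mul_assoc, ← mul_assoc t t, ht] using this
  have ht1 : t = 1 := by
    have h2 : orderOf t ∣ 2 := orderOf_dvd_of_pow_eq_one (by rw [pow_two, ht])
    have h21' : orderOf t ∣ 21 := by
      rw [← hN, ← Subgroup.orderOf_mk t hmem]; exact orderOf_dvd_natCard _
    exact orderOf_eq_one_iff.1 (Nat.dvd_one.1 ((Nat.dvd_gcd h2 h21').trans (by norm_num)))
  rw [ht1, one_mul, mul_one] at huinv
  have : orderOf u ∣ 2 := orderOf_dvd_of_pow_eq_one (by rw [pow_two]; exact eq_inv_iff_mul_eq_one.1 huinv)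
  rw [hu7] at this
  norm_num at this

/-- Elements of odd order in a simple group of order 360. -/
theorem odd_of_360 {G : Type*} [Group G] [Finite G] [IsSimpleGroup G] (hG : Nat.card G = 360) {w : G}
    (hodd : Odd (orderOf w)) : w ^ 3 = 1 ∨ w ^ 5 = 1 := by
  obtain ⟨e⟩ := Cfsg.Agent.S0497.result hG
  set σ : Equiv.Perm (Fin 6) := (e w : Equiv.Perm (Fin 6)) with hσ
  have ho : orderOf w = σ.cycleType.lcm := by
    rw [← MulEquiv.orderOf_eq e w, ← Subgroup.orderOf_coe, Equiv.Perm.lcm_cycleType]
  have hsum : σ.cycleType.sum ≤ 6 := by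
    rw [Equiv.Perm.sum_cycleType]; simpa using σ.support.card_le_univ
  have hpart : ∀ c ∈ σ.cycleType, c = 3 ∨ c = 5 := by
    intro c hc
    have h2 := Equiv.Perm.two_le_of_mem_cycleType hc
    have h6 : c ≤ 6 := (Multiset.le_sum_of_mem hc).trans hsum
    obtain ⟨k, hk⟩ := hodd.of_dvd_nat (ho ▸ Multiset.dvd_lcm hc)
    omega
  by_cases h5 : 5 ∈ σ.cycleType
  · right
    rw [← orderOf_dvd_iff_pow_eq_one, ho, Multiset.lcm_dvd]
    intro c hc
    rcases hpart c hc with rfl | rfl
    · obtain ⟨s, hs⟩ := Multiset.exists_cons_of_mem h5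
      rw [hs] at hc hsum
      rw [Multiset.sum_cons] at hsum
      rcases Multiset.mem_cons.1 hc with h | h
      · omega
      · have := Multiset.le_sum_of_mem h; omega
    · exact dvd_refl 5
  · left
    rw [← orderOf_dvd_iff_pow_eq_one, ho, Multiset.lcm_dvd]
    intro c hc
    rcases hpart c hc with rfl | rfl
    · exact dvd_refl 3
    · exact absurd hc h5

/-- The case of root groups of order two when the traces generate the field. -/
theorem Core.charTwo (hP : Core P) (h2 : (2 : F) = 0) (hs : Small2 P) (hK : lamField P = ⊤) :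
    (Nat.card (P ⧸ (scalars (Fin 3) F).subgroupOf P) = 360 ∧ Nat.card F = 4) ∨
      P = specialLinear (Fin 3) F := by
  classical
  set S := (scalars (Fin 3) F).subgroupOf P with hS
  haveI := hP.simple
  haveI : Fintype F := Fintype.ofFinite F
  have hcard := hP.charTwo_card h2 hs
  -- the possible traces
  have htr : ∀ X Y : M3, IsTv P X → IsTv P Y → (X * Y).trace ≠ 0 →
      ((Nat.card (P ⧸ S) = 168 → (X * Y).trace = 1) ∧
        ((X * Y).trace = 1 ∨ (X * Y).trace ^ 2 + (X * Y).trace + 1 = 0)) := by
    intro X Y hX hY hl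
    set t := (X * Y).trace with ht
    obtain ⟨g, hg, hgX⟩ := hX.2.2
    obtain ⟨k, hk, hkY⟩ := hY.2.2
    set M : SL(2, F) := upR 1 * lowR t with hM
    set N : Matrix (Fin 2) (Fin 2) F := (M : Matrix (Fin 2) (Fin 2) F) with hN
    have hgk : mat (g * k) = pairHom hX.2.1 hY.2.1 hl M := by
      rw [hM, map_mul, pairHom_upR, pairHom_lowR, one_smul, ← ht, div_self hl, one_smul, mat_mul, hgX, hkY]
    have hpow : ∀ n : ℕ, mat ((g * k) ^ n) = pairHom hX.2.1 hY.2.1 hl (M ^ n) := fun n => by
      rw [map_pow, ← hgk]; exact Units.val_pow_eq_pow_val _ _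
    -- the two by two matrix
    have hsq : N * N = t • N + 1 := by
      rw [hN, hM]
      ext i j
      fin_cases i <;> fin_cases j <;>
        simp [Matrix.SpecialLinearGroup.coe_mul, coe_upR, coe_lowR, Matrix.mul_apply, Fin.sum_univ_two] <;>
        first
          | ring1
          | linear_combination t * h2
          | linear_combination (t + 1) * h2
          | linear_combination (2 : F) * h2
          | linear_combination h2
          | linear_combination -h2
          | linear_combination (-t) * h2
    have hN01 : N 0 1 = 1 := by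
      simp [hN, hM, Matrix.SpecialLinearGroup.coe_mul, coe_upR, coe_lowR, Matrix.mul_apply, Fin.sum_univ_two]
    have lin : ∀ n : ℕ, ∃ a b : F, N ^ n = a • 1 + b • N := by
      intro n
      induction n with
      | zero => exact ⟨1, 0, by simp⟩
      | succ n ih =>
        obtain ⟨a, b, e⟩ := ih
        exact ⟨b, a + b * t, by rw [pow_succ, e, add_mul, Matrix.smul_mul, Matrix.smul_mul, hsq, one_mul]; module⟩
    have hhalf : ∀ n : ℕ, M ^ (2 * n) = 1 → M ^ n = 1 := by
      intro n hn
      obtain ⟨a, b, e⟩ := lin n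
      have h1 : (a • (1 : Matrix (Fin 2) (Fin 2) F) + b • N) * (a • 1 + b • N) = 1 := by
        rw [← e, ← pow_add, ← two_mul, hN, ← Matrix.SpecialLinearGroup.coe_pow, hn,
          Matrix.SpecialLinearGroup.coe_one]
      have h1' : (a * a + b * b) • (1 : Matrix (Fin 2) (Fin 2) F) + (b * b * t + 2 * (a * b)) • N = 1 := by
        refine Eq.trans ?_ h1
        simp only [add_mul, mul_add, Matrix.smul_mul, Matrix.mul_smul, one_mul, mul_one, hsq]
        module
      have h01 := congrFun (congrFun h1' 0) 1
      simp [hN01] at h01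
      have hb : b = 0 := by
        have : b * b * t = 0 := by linear_combination h01 - (a * b) * h2
        simpa [hl] using this
      subst hb
      have h00 := congrFun (congrFun h1' 0) 0
      simp at h00
      have ha : a = 1 := two_sq_injective h2 (by linear_combination h00)
      refine Subtype.ext ?_
      rw [Matrix.SpecialLinearGroup.coe_pow, Matrix.SpecialLinearGroup.coe_one, ← hN, e, ha, one_smul, zero_smul,
        add_zero]
    have hMo : Odd (orderOf M) := by
      by_contra hev
      rw [Nat.not_odd_iff_even, even_iff_two_dvd] at hev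
      obtain ⟨n, hn⟩ := hev
      have := Nat.le_of_dvd (by have := orderOf_pos M; omega)
        (orderOf_dvd_of_pow_eq_one (hhalf n (hn ▸ pow_orderOf_eq_one M)))
      have := orderOf_pos M
      omega
    -- a scalar value forces the identity
    have hscal : ∀ (A : SL(2, F)) (c : F), pairHom hX.2.1 hY.2.1 hl A = c • (1 : M3) → A = 1 := by
      intro A c hA
      have hXYX := sandwich hX.2.1 Y
      have hYXY : Y * X * Y = t • Y := by rw [sandwich hY.2.1 X, Matrix.trace_mul_comm]
      have he : emb2 X Y (A.1 - 1) = (c - 1) • (1 : M3) := by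
        rw [sub_smul, one_smul, ← hA]; exact (add_sub_cancel_left _ _).symm
      set B := A.1 - 1 with hB
      have hX' : ∀ a : F, a • X = 0 → a = 0 := fun a h => (smul_eq_zero.1 h).resolve_right hX.1
      have hY' : ∀ a : F, a • Y = 0 → a = 0 := fun a h => (smul_eq_zero.1 h).resolve_right hY.1
      have a9 : X * (Y * X) = t • X := by rw [← mul_assoc]; exact hXYX
      have a10 : Y * (X * Y) = t • Y := by rw [← mul_assoc]; exact hYXY
      have exp : emb2 X Y B = (B 0 0 * t⁻¹) • (X * Y) + B 0 1 • X + (B 1 0 * t⁻¹) • Y +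
          (B 1 1 * t⁻¹) • (Y * X) := by
        simp [emb2, unitM, Fin.sum_univ_two, smul_smul, ← ht]; abel
      have e10 : B 1 0 = 0 := hX' _ (by
        have := congrArg (fun Z => X * Z * X) he
        simp only [exp, mul_add, add_mul, Matrix.mul_smul, Matrix.smul_mul, mul_one, hX.2.1, zero_mul, smul_zero,
          ← mul_assoc, mul_assoc _ X X, mul_zero, add_zero, zero_add, hXYX, smul_smul] at this
        simpa [mul_assoc, hl, show (X * Y).trace ≠ 0 from hl] using this)
      have e01 : B 0 1 = 0 := hY' _ (by
        have := congrArg (fun Z => t⁻¹ • (Y * Z * Y)) he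
        simp only [exp, mul_add, add_mul, Matrix.mul_smul, Matrix.smul_mul, mul_one, hY.2.1, zero_mul, smul_zero,
          ← mul_assoc, mul_assoc _ Y Y, mul_zero, add_zero, zero_add, hYXY, smul_smul] at this
        simpa [mul_assoc, hl, mul_comm] using this)
      have e11 : B 1 1 = c - 1 := sub_eq_zero.1 (hX' _ (by
        have := congrArg (fun Z => X * Z) he
        simp only [exp, e10, e01, zero_mul, zero_smul, add_zero, mul_add, Matrix.mul_smul, mul_one] at this
        simp only [← mul_assoc, hX.2.1, zero_mul, smul_zero, zero_add, add_zero, hXYX, smul_smul] at this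
        rw [inv_mul_cancel_right₀ hl] at this
        rw [sub_smul, this, sub_self]))
      have e00 : B 0 0 = c - 1 := sub_eq_zero.1 (hY' _ (by
        have := congrArg (fun Z => Y * Z) he
        simp only [exp, e10, e01, zero_mul, zero_smul, add_zero, mul_add, Matrix.mul_smul, mul_one] at this
        simp only [← mul_assoc, hY.2.1, zero_mul, smul_zero, zero_add, add_zero, hYXY, smul_smul] at this
        rw [inv_mul_cancel_right₀ hl] at this
        rw [sub_smul, this, sub_self]))
      have hd := A.2
      have h00 : A.1 0 0 = c := by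
        have := e00; simp [hB] at this; exact this
      have h11 : A.1 1 1 = c := by
        have := e11; simp [hB] at this; exact this
      have h01 : A.1 0 1 = 0 := by simpa [hB] using e01
      have h10 : A.1 1 0 = 0 := by simpa [hB] using e10
      rw [Matrix.det_fin_two, h00, h11, h01, h10] at hd
      have hc : c = 1 := two_sq_injective h2 (by linear_combination hd)
      refine Subtype.ext ?_
      ext i j
      fin_cases i <;> fin_cases j <;> simp [h00, h01, h10, h11, hc]
    set w : P := ⟨g * k, mul_mem hg hk⟩ with hw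
    set T : P := ⟨g, hg⟩
    have hgg : g * g = 1 := Units.ext (by
      show mat g * mat g = 1
      rw [hgX]
      simp only [mul_add, add_mul, mul_one, one_mul, hX.2.1, add_zero]
      have e2 : X + X = 0 := by nth_rewrite 2 [← two_neg h2 X]; exact add_neg_cancel X
      rw [add_assoc, e2, add_zero])
    have hkk : k * k = 1 := Units.ext (by
      show mat k * mat k = 1
      rw [hkY]
      simp only [mul_add, add_mul, mul_one, one_mul, hY.2.1, add_zero]
      have e2 : Y + Y = 0 := by nth_rewrite 2 [← two_neg h2 Y]; exact add_neg_cancel Y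
      rw [add_assoc, e2, add_zero])
    set π := QuotientGroup.mk' S with hπ
    have hinv : π T * π w * π T = (π w)⁻¹ := by
      rw [← map_mul, ← map_mul, ← map_inv]
      congr 1
      refine Subtype.ext ?_
      show g * (g * k) * g = (g * k)⁻¹
      rw [← mul_assoc, hgg, one_mul, _root_.mul_inv_rev, inv_eq_of_mul_eq_one_right hgg,
        inv_eq_of_mul_eq_one_right hkk]
    have hback : ∀ n : ℕ, π w ^ n = 1 → M ^ n = 1 := fun n hn => by
      rw [← map_pow] at hn
      obtain ⟨c, hc⟩ := (mem_scalars_iff _).1 (show ((w ^ n : P) : G3) ∈ scalars (Fin 3) F from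
        (QuotientGroup.eq_one_iff (N := S) _).1 hn)
      exact hscal _ (c : F) ((hpow n).symm.trans hc)
    have hodd : Odd (orderOf (π w)) := by
      refine hMo.of_dvd_nat (orderOf_dvd_of_pow_eq_one ?_)
      rw [← map_pow, show w ^ orderOf M = 1 from Subtype.ext (Units.ext (by
        rw [Subgroup.coe_pow]
        show mat ((g * k) ^ orderOf M) = _
        rw [hpow, pow_orderOf_eq_one, map_one]
        exact Units.val_one.symm)), map_one]
    have hTT : π T * π T = 1 := by rw [← map_mul, show T * T = 1 from Subtype.ext hgg, map_one]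
    have h3 : π w ^ 3 = 1 → t = 1 := fun h => by
      have e := congrArg (fun A : SL(2, F) => A.1 0 1) (hback 3 h)
      have e' : (N ^ 3) 0 1 = 0 := by simpa [← Matrix.SpecialLinearGroup.coe_pow, hN] using e
      rw [pow_succ, pow_two, hsq, add_mul, Matrix.smul_mul, hsq, one_mul] at e'
      simp [hN01] at e'
      exact two_sq_injective h2 (by linear_combination e' - h2)
    have h5 : π w ^ 5 = 1 → t ^ 2 + t + 1 = 0 := fun h => by
      have e := congrArg (fun A : SL(2, F) => A.1 0 1) (hback 5 h)
      have e' : (N ^ 5) 0 1 = 0 := by simpa [← Matrix.SpecialLinearGroup.coe_pow, hN] using e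
      rw [show N ^ 5 = (N * N) * (N * N) * N by rw [pow_succ, pow_succ, pow_succ, pow_succ, pow_one]; noncomm_ring,
        hsq] at e'
      simp only [add_mul, mul_add, Matrix.smul_mul, Matrix.mul_smul, one_mul, mul_one, hsq, smul_add, smul_smul] at e'
      simp [hN01] at e'
      exact two_sq_injective h2 (by linear_combination e' + (t ^ 3 + t + t ^ 2) * h2 - (t ^ 2 * h2))
    refine ⟨fun h168 => h3 (cube_of_168 h168 hTT hinv hodd), ?_⟩
    rcases hcard with h | h
    · exact Or.inl (h3 (cube_of_168 h hTT hinv hodd))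
    · exact (odd_of_360 h hodd).imp h3 h5
  -- subfields
  have hfour : ∀ x : F, x ^ 4 = x := by
    have h22 : ∀ a b : F, (a + b) ^ 4 = a ^ 4 + b ^ 4 := fun a b => by
      linear_combination (2 * a ^ 3 * b + 3 * a ^ 2 * b ^ 2 + 2 * a * b ^ 3) * h2
    let R : Subfield F :=
      { carrier := {x | x ^ 4 = x}
        zero_mem' := zero_pow four_ne_zero
        one_mem' := one_pow 4
        add_mem' := fun {a b} ha hb => by show (a + b) ^ 4 = a + b; rw [h22, ha, hb]
        mul_mem' := fun {a b} ha hb => by show (a * b) ^ 4 = a * b; rw [mul_pow, ha, hb]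
        neg_mem' := fun {a} ha => by show (-a) ^ 4 = -a; rw [show -a = a by linear_combination (-a) * h2, ha]
        inv_mem' := fun a ha => by show a⁻¹ ^ 4 = a⁻¹; rw [inv_pow, show a ^ 4 = a from ha] }
    have hle : lamField P ≤ R := Subfield.closure_le.2 fun x hx => by
      obtain ⟨X, Y, hX, hY, rfl⟩ := hx
      by_cases h0 : (X * Y).trace = 0
      · show (X * Y).trace ^ 4 = _; rw [h0, zero_pow four_ne_zero]
      rcases (htr X Y hX hY h0).2 with h | h
      · show (X * Y).trace ^ 4 = _; rw [h, one_pow]
      · show (X * Y).trace ^ 4 = _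
        linear_combination ((X * Y).trace ^ 2 - (X * Y).trace) * h
    exact fun x => hle (hK ▸ Subfield.mem_top x)
  have hF4 : Fintype.card F ≤ 4 := by
    have hd : ((Polynomial.X : Polynomial F) ^ 4 - Polynomial.X).natDegree = 4 :=
      FiniteField.X_pow_card_sub_X_natDegree_eq F (by norm_num)
    have h0 : ((Polynomial.X : Polynomial F) ^ 4 - Polynomial.X) ≠ 0 := fun e => by simp [e] at hd
    calc Fintype.card F ≤ ((Polynomial.X : Polynomial F) ^ 4 - Polynomial.X).roots.toFinset.card := by
          refine Finset.card_le_card fun x _ => ?_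
          rw [Multiset.mem_toFinset, Polynomial.mem_roots h0, Polynomial.IsRoot.def, Polynomial.eval_sub,
            Polynomial.eval_pow, Polynomial.eval_X, hfour, sub_self]
      _ ≤ _ := (Multiset.toFinset_card_le _).trans ((Polynomial.card_roots' _).trans hd.le)
  haveI : CharP F 2 := (CharP.charP_iff_prime_eq_zero Nat.prime_two).2 (by exact_mod_cast h2)
  have hdvd : 2 ∣ Fintype.card F := by
    obtain ⟨n, -, hn⟩ := FiniteField.card F 2
    exact hn ▸ dvd_pow_self 2 n.2.ne'
  have hF2 : Fintype.card F = 2 ∨ Fintype.card F = 4 := by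
    have := Fintype.one_lt_card (α := F); omega
  rcases hF2 with hF | hF
  · right
    have hGL : Nat.card G3 = 168 := by
      rw [Matrix.card_GL_field, Fin.prod_univ_three, hF]; norm_num
    have hle : 168 ≤ Nat.card (P ⧸ S) := by rcases hcard with h | h <;> exact le_trans (by norm_num) h.ge
    have hPtop : P = ⊤ := Subgroup.eq_top_of_le_card P (by
      rw [hGL]; exact hle.trans (Nat.card_le_card_of_surjective _ (QuotientGroup.mk'_surjective S)))
    have hu : Fintype.card Fˣ = 1 := by rw [Fintype.card_units, hF]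
    haveI : Subsingleton Fˣ := Fintype.card_le_one_iff_subsingleton.1 hu.le
    rw [hPtop, eq_comm, eq_top_iff]
    exact fun g _ => MonoidHom.mem_ker.2 (Subsingleton.elim _ _)
  · rcases hcard with h | h
    · exfalso
      have hR : ∀ x : F, x ^ 2 = x := by
        let R : Subfield F :=
          { carrier := {x | x ^ 2 = x}
            zero_mem' := zero_pow two_ne_zero
            one_mem' := one_pow 2
            add_mem' := fun {a b} ha hb => by
              show (a + b) ^ 2 = a + b
              have ha' : a ^ 2 = a := ha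
              have hb' : b ^ 2 = b := hb
              linear_combination ha' + hb' + a * b * h2
            mul_mem' := fun {a b} ha hb => by show (a * b) ^ 2 = a * b; rw [mul_pow, ha, hb]
            neg_mem' := fun {a} ha => by show (-a) ^ 2 = -a; rw [show -a = a by linear_combination (-a) * h2, ha]
            inv_mem' := fun a ha => by show a⁻¹ ^ 2 = a⁻¹; rw [inv_pow, show a ^ 2 = a from ha] }
        have hle : lamField P ≤ R := Subfield.closure_le.2 fun x hx => by
          obtain ⟨X, Y, hX, hY, rfl⟩ := hx
          by_cases h0 : (X * Y).trace = 0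
          · show (X * Y).trace ^ 2 = _; rw [h0, zero_pow two_ne_zero]
          · show (X * Y).trace ^ 2 = _; rw [(htr X Y hX hY h0).1 h, one_pow]
        exact fun x => hle (hK ▸ Subfield.mem_top x)
      have : Fintype.card F ≤ 2 := by
        refine le_trans (Finset.card_le_card (t := ({0, 1} : Finset F)) fun x _ => ?_) Finset.card_le_two
        have : x * (x - 1) = 0 := by linear_combination hR x
        rcases mul_eq_zero.1 this with e | e
        · simp [e]
        · simp [sub_eq_zero.1 e]
      omega
    · exact Or.inl ⟨h, by rw [Nat.card_eq_fintype_card, hF]⟩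

end Cfsg.Agent.ResidualThree
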