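import Cfsg.Agent.ResidualThree.Basic

/-!
Upper unitriangular three by three matrices.
-/

set_option autoImplicit false

namespace Cfsg.Agent.ResidualThree

open Matrix Cfsg.Geo Cfsg.Agent.PrimeDim
open scoped MatrixGroups

variable {F : Type*} [Field F] {P : Subgroup (GL (Fin 3) F)}

local notation "G3" => GL (Fin 3) F
local notation "M3" => Matrix (Fin 3) (Fin 3) F

/-- Upper unitriangular matrices. -/
def uni (x y z : F) : M3 := !![1, x, z; 0, 1, y; 0, 0, 1]

/-- A parameter triple occurs in the group. -/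
def HasUni (P : Subgroup G3) (x y z : F) : Prop := ∃ g ∈ P, mat g = uni x y z

theorem uni_mul (x y z x' y' z' : F) : uni x y z * uni x' y' z' = uni (x + x') (y + y') (z' + x * y' + z) := by
  ext i j
  fin_cases i <;> fin_cases j <;> simp [uni, Matrix.mul_apply, Fin.sum_univ_three] <;> ring

theorem HasUni.mul {x y z x' y' z' : F} (h : HasUni P x y z) (h' : HasUni P x' y' z') :
    HasUni P (x + x') (y + y') (z' + x * y' + z) := by
  obtain ⟨g, hg, e⟩ := h
  obtain ⟨k, hk, e'⟩ := h'
  exact ⟨g * k, mul_mem hg hk, by rw [mat_mul, e, e', uni_mul]⟩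

theorem uni_zero : uni (0 : F) 0 0 = 1 := by
  ext i j
  fin_cases i <;> fin_cases j <;> simp [uni]

theorem uni_sub_one (x y z : F) : uni x y z - 1 = !![0, x, z; 0, 0, y; 0, 0, 0] := by
  ext i j
  fin_cases i <;> fin_cases j <;> simp [uni]

end Cfsg.Agent.ResidualThree
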