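import Cfsg.Agent.ResidualThree.CharTwoBase
import Cfsg.Agent.ResidualThree.Uni

/-!
The centraliser of a transvection in the standard frame, root groups of order two.
-/

set_option autoImplicit false

namespace Cfsg.Agent.ResidualThree

open Matrix Cfsg.Geo Cfsg.Agent.PrimeDim
open scoped MatrixGroups

variable {F : Type*} [Field F] {P : Subgroup (GL (Fin 3) F)}

local notation "G3" => GL (Fin 3) F
local notation "M3" => Matrix (Fin 3) (Fin 3) F

theorem hasUni_scale (hs : Small2 P) {x y z l : F} (hxy : x * y = 0) (hne : x ≠ 0 ∨ y ≠ 0 ∨ z ≠ 0) (hl : l ≠ 0)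
    (h : HasUni P x y z) (h' : HasUni P (l * x) (l * y) (l * z)) : l = 1 := by
  obtain ⟨g, hg, e⟩ := h
  obtain ⟨k, hk, e'⟩ := h'
  have hN : (!![0, x, z; 0, 0, y; 0, 0, 0] : M3) * !![0, x, z; 0, 0, y; 0, 0, 0] = 0 := by
    ext i j
    fin_cases i <;> fin_cases j <;> simp [Matrix.mul_apply, Fin.sum_univ_three, hxy]
  have hne' : (!![0, x, z; 0, 0, y; 0, 0, 0] : M3) ≠ 0 := fun e0 => by
    have h1 := congrFun (congrFun e0 0) 1
    have h2 := congrFun (congrFun e0 1) 2
    have h3 := congrFun (congrFun e0 0) 2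
    simp at h1 h2 h3
    rcases hne with h | h | h <;> contradiction
  have hX : IsTv P (!![0, x, z; 0, 0, y; 0, 0, 0] : M3) :=
    ⟨hne', hN, g, hg, by rw [e, ← uni_sub_one, add_sub_cancel]⟩
  refine (hs _ hX l ⟨k, hk, ?_⟩).resolve_left hl
  rw [e', ← sub_eq_iff_eq_add', uni_sub_one]
  ext i j
  fin_cases i <;> fin_cases j <;> simp

/-- The standard pair: the transvection and a companion with the same centre. -/
structure Std (P : Subgroup G3) : Prop where
  two : (2 : F) = 0
  small : Small2 P
  core : Core P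
  top : HasUni P 0 0 1
  side : HasUni P 1 0 0

theorem Std.top_param (h : Std P) {z : F} (hz : HasUni P 0 0 z) : z = 0 ∨ z = 1 := by
  by_cases hz0 : z = 0
  · exact Or.inl hz0
  · exact Or.inr (hasUni_scale h.small (by ring) (Or.inr (Or.inr one_ne_zero)) hz0 h.top (by simpa using hz))

/-- The shape of an element centralising the transvection. -/
theorem Std.shape (h : Std P) {g : G3} (hg : g ∈ P)
    (hc : mat g * uni (0 : F) 0 1 = uni (0 : F) 0 1 * mat g) :
    ∃ u ∈ P, u⁻¹ * g ∈ scalars (Fin 3) F ∧ ∃ x y z : F, mat u = uni x y z ∧ (y = 0 ∨ y = 1) ∧ (x * y = 0 ∨ x * y = 1) := by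
  have h2 := h.two
  have c00 := congrFun (congrFun hc 0) 0
  have c01 := congrFun (congrFun hc 0) 1
  have c02 := congrFun (congrFun hc 0) 2
  have c12 := congrFun (congrFun hc 1) 2
  simp [uni, Matrix.mul_apply, Fin.sum_univ_three] at c00 c01 c02 c12
  set μ := mat g 0 0 with hμ
  set ν := mat g 1 1 with hν
  set x := mat g 0 1
  set y := mat g 1 2
  set z := mat g 0 2
  have hg' : mat g = !![μ, x, z; 0, ν, y; 0, 0, μ] := by
    ext i j
    fin_cases i <;> fin_cases j <;> simp [c00, c01, c12, hμ, hν]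
    all_goals first
      | rfl
      | linear_combination c02
      | linear_combination -c02
  have hdet : μ * ν * μ = 1 := by
    have := h.core.det_eq_one hg
    rw [hg', Matrix.det_fin_three] at this
    simpa using this
  have hμ0 : μ ≠ 0 := fun e => by simp [e] at hdet
  have hν0 : ν ≠ 0 := fun e => by simp [e] at hdet
  set d := μ / ν with hd
  set e := y / ν with he
  have hd0 : d ≠ 0 := div_ne_zero hμ0 hν0
  have hd' : d * ν = μ := div_mul_cancel₀ μ hν0
  have he' : e * ν = y := div_mul_cancel₀ y hν0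
  -- the action on the companions
  have act : ∀ p r : F, HasUni P p 0 r → HasUni P (d * p) 0 (r + e * p) := by
    rintro p r ⟨k, hk, hke⟩
    refine ⟨g * k * g⁻¹, mul_mem (mul_mem hg hk) (inv_mem hg), ?_⟩
    have h1 : uni (d * p) 0 (r + e * p) * mat g = mat g * mat k := by
      rw [hke, hg']
      ext i j
      fin_cases i <;> fin_cases j <;> simp [uni, Matrix.mul_apply, Fin.sum_univ_three]
      · linear_combination p * hd'
      · rw [← he']
        linear_combination (e * p) * hd' + (μ * e * p) * h2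
    calc mat (g * k * g⁻¹) = uni (d * p) 0 (r + e * p) * mat g * mat g⁻¹ := by rw [mat_mul, mat_mul, h1]
      _ = _ := by rw [mul_assoc, mat_mul_inv, mul_one]
  have hd1 : d = 1 := by
    by_contra hne
    have h1 := (act 1 0 h.side).mul h.side
    simp only [mul_one, zero_add, add_zero, mul_zero] at h1
    have h3 := act _ _ h1
    refine hne (hasUni_scale h.small (x := d + 1) (y := 0) (z := e) (l := d) (mul_zero _) (Or.inl fun e0 => hne ?_)
      hd0 h1 ?_)
    · linear_combination e0 - h2
    · rwa [mul_zero, show d * e = e + e * (d + 1) by linear_combination (-e) * h2]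
  have hμν : μ = ν := by rw [← hd', hd1, one_mul]
  have hμ3 : μ ^ 3 = 1 := by rw [← hdet, ← hμν]; ring
  have hg2 : mat g * mat g = !![μ * μ, 0, x * y; 0, μ * μ, 0; 0, 0, μ * μ] := by
    rw [hg', ← hμν]
    ext i j
    fin_cases i <;> fin_cases j <;> simp [Matrix.mul_apply, Fin.sum_univ_three] <;>
      first
        | linear_combination (μ * x) * h2
        | linear_combination (μ * y) * h2
        | linear_combination (μ * z) * h2
  have hg4 : mat (g ^ 4) = μ • (1 : M3) := by
    rw [show g ^ 4 = (g * g) * (g * g) by rw [show (4 : ℕ) = 2 + 2 from rfl, pow_add, pow_two], mat_mul, mat_mul, hg2]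
    ext i j
    fin_cases i <;> fin_cases j <;> simp [Matrix.mul_apply, Fin.sum_univ_three] <;>
      first
        | linear_combination μ * hμ3
        | linear_combination (μ * μ * (x * y)) * h2
  have hsc : g ^ 4 ∈ scalars (Fin 3) F := mem_scalars_of_smul hg4
  refine ⟨g * (g ^ 4)⁻¹, mul_mem hg (inv_mem (pow_mem hg 4)), ?_, x / μ, y / μ, z / μ, ?_, ?_⟩
  · rw [show (g * (g ^ 4)⁻¹)⁻¹ * g = g ^ 4 by group]
    exact hsc
  · have h1 : uni (x / μ) (y / μ) (z / μ) * mat (g ^ 4) = mat g := by
      rw [hg4, hg', ← hμν, Matrix.mul_smul, mul_one]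
      ext i j
      fin_cases i <;> fin_cases j <;> simp [uni] <;> field_simp
    rw [mat_mul, ← h1, mul_assoc, mat_mul_inv, mul_one]
  · have hy : e = y / μ := by rw [he, hμν]
    have h1 := (act 1 0 h.side).mul h.side
    simp only [mul_one, zero_add, add_zero, mul_zero, hd1] at h1
    rw [show (1 : F) + 1 = 0 by linear_combination h2, hy] at h1
    refine ⟨h.top_param h1, ?_⟩
    have hu : HasUni P (x / μ) (y / μ) (z / μ) := by
      refine ⟨g * (g ^ 4)⁻¹, mul_mem hg (inv_mem (pow_mem hg 4)), ?_⟩
      have h1 : uni (x / μ) (y / μ) (z / μ) * mat (g ^ 4) = mat g := by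
        rw [hg4, hg', ← hμν, Matrix.mul_smul, mul_one]
        ext i j
        fin_cases i <;> fin_cases j <;> simp [uni] <;> field_simp
      rw [mat_mul, ← h1, mul_assoc, mat_mul_inv, mul_one]
    have h3 := hu.mul hu
    rw [show x / μ + x / μ = 0 by linear_combination (x / μ) * h2,
      show y / μ + y / μ = 0 by linear_combination (y / μ) * h2,
      show z / μ + x / μ * (y / μ) + z / μ = x / μ * (y / μ) by linear_combination (z / μ) * h2] at h3
    exact h.top_param h3

/-- With a companion on each side the centraliser consists of eight elements up to scalars. -/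
theorem Std.cent_eight (h : Std P) (hb : HasUni P 0 1 0) {g : G3} (hg : g ∈ P)
    (hc : mat g * uni (0 : F) 0 1 = uni (0 : F) 0 1 * mat g) :
    ∃ u ∈ P, u⁻¹ * g ∈ scalars (Fin 3) F ∧
      ∃ x y z : F, mat u = uni x y z ∧ (x = 0 ∨ x = 1) ∧ (y = 0 ∨ y = 1) ∧ (z = 0 ∨ z = 1) := by
  have h2 := h.two
  obtain ⟨u, hu, hs, x, y, z, hux, hy, -⟩ := h.shape hg hc
  refine ⟨u, hu, hs, x, y, z, hux, ?_⟩
  have hU : HasUni P x y z := ⟨u, hu, hux⟩
  -- conjugate the other companion
  have hx : x = 0 ∨ x = 1 := by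
    obtain ⟨k, hk, hke⟩ := hb
    have h1 : HasUni P 0 1 x := by
      refine ⟨u * k * u⁻¹, mul_mem (mul_mem hu hk) (inv_mem hu), ?_⟩
      have h3 : uni 0 1 x * mat u = mat u * mat k := by
        rw [hke, hux, uni_mul, uni_mul, zero_add, add_zero, add_comm y]
        congr 1
        ring
      calc mat (u * k * u⁻¹) = uni 0 1 x * mat u * mat u⁻¹ := by rw [mat_mul, mat_mul, h3]
        _ = _ := by rw [mul_assoc, mat_mul_inv, mul_one]
    have h4 := h1.mul ⟨k, hk, hke⟩
    rw [add_zero, show (1 : F) + 1 = 0 by linear_combination h2, zero_add, zero_mul, zero_add] at h4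
    exact h.top_param h4
  refine ⟨hx, hy, ?_⟩
  have h00 : HasUni P 0 0 0 := ⟨1, one_mem P, by rw [uni_zero]; exact Units.val_one⟩
  have hxr : HasUni P x 0 0 := by
    rcases hx with rfl | rfl
    · exact h00
    · exact h.side
  have hyr : HasUni P 0 y 0 := by
    rcases hy with rfl | rfl
    · exact h00
    · exact hb
  have h5 := (hxr.mul hU).mul hyr
  rw [show x + x + 0 = (0 : F) by linear_combination x * h2,
    show 0 + y + y = (0 : F) by linear_combination y * h2,
    show 0 + (x + x) * y + (z + x * y + 0) = z + x * y by linear_combination (x * y) * h2] at h5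
  rcases h.top_param h5 with e | e <;> rcases hx with rfl | rfl <;> rcases hy with rfl | rfl <;>
    simp at e <;>
    first
      | exact Or.inl e
      | exact Or.inr e
      | exact Or.inr (by linear_combination e - h2)
      | exact Or.inl (by linear_combination e - h2)

/-- Without companions on the other side the centraliser is abelian up to scalars. -/
theorem Std.cent_row (h : Std P) (hnd : ∀ p r : F, p ≠ 0 → ¬ HasUni P 0 p r) {g : G3} (hg : g ∈ P)
    (hc : mat g * uni (0 : F) 0 1 = uni (0 : F) 0 1 * mat g) :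
    ∃ u ∈ P, u⁻¹ * g ∈ scalars (Fin 3) F ∧ ∃ x z : F, mat u = uni x 0 z := by
  obtain ⟨u, hu, hs, x, y, z, hux, hy, hxy⟩ := h.shape hg hc
  refine ⟨u, hu, hs, x, z, ?_⟩
  rcases hy with rfl | rfl
  · exact hux
  exfalso
  rw [mul_one] at hxy
  rcases hxy with rfl | rfl
  · exact hnd 1 z one_ne_zero ⟨u, hu, hux⟩
  · have h1 := h.side.mul ⟨u, hu, hux⟩
    rw [show (1 : F) + 1 = 0 by linear_combination h.two, zero_add] at h1
    exact hnd 1 _ one_ne_zero h1

end Cfsg.Agent.ResidualThree
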