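import Cfsg.Agent.ResidualThree.CharTwo

/-!
Characteristic two, root groups of order two: the case with a single kind of companion does not occur.
-/

set_option autoImplicit false

namespace Cfsg.Agent.ResidualThree

open Matrix Cfsg.Geo Cfsg.Agent.PrimeDim Cfsg.Agent.RootSub.Dickson
open scoped MatrixGroups

variable {F : Type*} [Field F] [Finite F] {P : Subgroup (GL (Fin 3) F)}

local notation "G3" => GL (Fin 3) F
local notation "M3" => Matrix (Fin 3) (Fin 3) F

theorem sl2_up_low {K : Type*} [Field K] :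
    Subgroup.closure (Set.range (upR : K → SL(2, K)) ∪ Set.range lowR) = ⊤ := by
  set H := Subgroup.closure (Set.range (upR : K → SL(2, K)) ∪ Set.range lowR)
  have hu : ∀ x : K, upR x ∈ H := fun x => Subgroup.subset_closure (Or.inl ⟨x, rfl⟩)
  have hl : ∀ x : K, lowR x ∈ H := fun x => Subgroup.subset_closure (Or.inr ⟨x, rfl⟩)
  have main : ∀ g : SL(2, K), g.1 1 0 ≠ 0 → g ∈ H := fun g hc => by
    have hdet := g.2
    rw [Matrix.det_fin_two] at hdet
    have e : g = upR ((g.1 0 0 - 1) / g.1 1 0) * lowR (g.1 1 0) * upR ((g.1 1 1 - 1) / g.1 1 0) := by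
      refine Subtype.ext ?_
      ext i j
      fin_cases i <;> fin_cases j <;>
        simp [coe_upR, coe_lowR, Matrix.SpecialLinearGroup.coe_mul, Matrix.mul_apply, Fin.sum_univ_two] <;>
        field_simp <;>
        first
          | ring1
          | linear_combination -hdet
          | linear_combination hdet
    rw [e]
    exact mul_mem (mul_mem (hu _) (hl _)) (hu _)
  refine eq_top_iff.2 fun g _ => ?_
  by_cases hc : g.1 1 0 = 0
  · have h1 : lowR 1 * g ∈ H := main _ (by
      have hdet := g.2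
      rw [Matrix.det_fin_two, hc, mul_zero, sub_zero] at hdet
      simp only [Matrix.SpecialLinearGroup.coe_mul, coe_lowR, Matrix.mul_apply, Fin.sum_univ_two]
      simp only [Matrix.of_apply, Matrix.cons_val', Matrix.cons_val_zero, Matrix.cons_val_one,
        Matrix.empty_val', Matrix.cons_val_fin_one]
      rw [hc, mul_zero, add_zero, one_mul]
      exact left_ne_zero_of_mul_eq_one hdet)
    have := mul_mem (inv_mem (hl 1)) h1
    rwa [inv_mul_cancel_left] at this
  · exact main g hc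

theorem cj_one_add (g : G3) (X : M3) : cj g (1 + X) = 1 + cj g X := by
  rw [cj, mul_add, add_mul, mul_one, mat_mul_inv]
  rfl

/-- Only companions on one side: impossible. -/
theorem Std.not_row (h : Std P) (hnd : ∀ p r : F, p ≠ 0 → ¬ HasUni P 0 p r) : False := by
  set S := (scalars (Fin 3) F).subgroupOf P with hS
  haveI := h.core.simple
  have h2 := h.two
  obtain ⟨t, htP, het⟩ := h.top
  set T : P := ⟨t, htP⟩
  set π := QuotientGroup.mk' S with hπ
  have htt : (T : G3) * T = 1 := Units.ext (by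
    show mat t * mat t = 1
    rw [het, uni_mul, ← uni_zero]; congr 1 <;> first | linear_combination h2 | linear_combination -h2 | ring)
  set E : M3 := !![0, 0, 1; 0, 0, 0; 0, 0, 0] with hE
  have heE : mat t = 1 + E := by
    rw [het]; ext i j; fin_cases i <;> fin_cases j <;> simp [uni, hE]
  have hEtv : IsTv P E := by
    refine ⟨fun e => one_ne_zero (α := F) (by simpa [hE] using congrFun (congrFun e 0) 2), ?_, t, htP, heE⟩
    ext i j; fin_cases i <;> fin_cases j <;> simp [hE, Matrix.mul_apply, Fin.sum_univ_three]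
  -- involution lifts are conjugate to `t`
  have conjT : ∀ y : P, (y : G3) * y = 1 → (y : G3) ≠ 1 → ∃ g : P, g * T * g⁻¹ = y := by
    intro y hy hy1
    obtain ⟨g, hg, he⟩ := h.core.all_conj h2 hEtv (isTv_of_invol h2 y.2 hy hy1)
    refine ⟨⟨g, hg⟩, Subtype.ext (Units.ext ?_)⟩
    show mat (g * t * g⁻¹) = mat (y : G3)
    rw [← cj_mat, heE, cj_one_add, he, add_sub_cancel]
  -- centralisers of involutions are abelian
  have habT : ∀ c₁ c₂, c₁ ∈ Subgroup.centralizer ({π T} : Set (P ⧸ S)) →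
      c₂ ∈ Subgroup.centralizer ({π T} : Set (P ⧸ S)) → c₁ * c₂ = c₂ * c₁ := by
    intro c₁ c₂ hc₁ hc₂
    have rep : ∀ c, c ∈ Subgroup.centralizer ({π T} : Set (P ⧸ S)) → ∃ u : P, π u = c ∧
        ∃ x z : F, mat (u : G3) = uni x 0 z := by
      intro c hc
      obtain ⟨g, rfl, hgt⟩ := h.core.cent_lift (t := T) htt hc
      have hgt' := congrArg mat hgt
      rw [mat_mul, mat_mul, show mat (T : G3) = _ from het] at hgt'
      obtain ⟨u, hu, hus, hx⟩ := h.cent_row hnd g.2 hgt'
      exact ⟨⟨u, hu⟩, QuotientGroup.eq.2 (show (⟨u, hu⟩ : P)⁻¹ * g ∈ S from hus), hx⟩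
    obtain ⟨u₁, rfl, x₁, z₁, e₁⟩ := rep c₁ hc₁
    obtain ⟨u₂, rfl, x₂, z₂, e₂⟩ := rep c₂ hc₂
    rw [← map_mul, ← map_mul]
    congr 1
    refine Subtype.ext (Units.ext ?_)
    show mat (u₁ : G3) * mat (u₂ : G3) = mat (u₂ : G3) * mat (u₁ : G3)
    rw [e₁, e₂, uni_mul, uni_mul]; congr 1 <;> ring
  have lift : ∀ x : P ⧸ S, x * x = 1 → x ≠ 1 → ∃ y : P, π y = x ∧ (y : G3) * y = 1 ∧ (y : G3) ≠ 1 := by
    intro x hx hx1
    obtain ⟨x₀, rfl⟩ := QuotientGroup.mk'_surjective S x
    obtain ⟨y, hy, hy2⟩ := h.core.lift_invol (x := x₀) (by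
      rw [← hS, ← QuotientGroup.eq_one_iff]
      exact hx)
    have e : π y = π x₀ := (QuotientGroup.eq.2 hy).symm
    exact ⟨y, e, hy2, fun e1 => hx1 (by rw [← e, show y = 1 from Subtype.ext e1, map_one])⟩
  have hab : ∀ x : P ⧸ S, orderOf x = 2 → IsMulCommutative (Subgroup.centralizer ({x} : Set (P ⧸ S))) := by
    intro x hx
    have hxx : x * x = 1 := by rw [← pow_two, ← hx]; exact pow_orderOf_eq_one x
    obtain ⟨y, rfl, hy2, hy1⟩ := lift x hxx fun e => by rw [e, orderOf_one] at hx; norm_num at hx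
    obtain ⟨g, rfl⟩ := conjT y hy2 hy1
    refine ⟨⟨fun a b => Subtype.ext ?_⟩⟩
    have tr : ∀ c ∈ Subgroup.centralizer ({π (g * T * g⁻¹)} : Set (P ⧸ S)),
        (π g)⁻¹ * c * π g ∈ Subgroup.centralizer ({π T} : Set (P ⧸ S)) := by
      intro c hc
      rw [Subgroup.mem_centralizer_singleton_iff] at hc ⊢
      simp only [map_mul, map_inv] at hc
      calc (π g)⁻¹ * c * π g * π T = (π g)⁻¹ * (c * (π g * π T * (π g)⁻¹)) * π g := by group
        _ = π T * ((π g)⁻¹ * c * π g) := by rw [hc]; group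
    have h1 := habT _ _ (tr a a.2) (tr b b.2)
    calc (a : P ⧸ S) * b = π g * (((π g)⁻¹ * a * π g) * ((π g)⁻¹ * b * π g)) * (π g)⁻¹ := by group
      _ = (b : P ⧸ S) * a := by rw [h1]; group
  have hT2 : orderOf (π T) = 2 := by
    refine orderOf_eq_prime (by rw [pow_two, ← map_mul, show T * T = 1 from Subtype.ext htt, map_one]) fun e => ?_
    exact one_ne_zero (α := F) (uni_scalar het ((QuotientGroup.eq_one_iff T).1 e)).2.2
  have heven : Even (Nat.card (P ⧸ S)) := even_iff_two_dvd.2 (hT2 ▸ orderOf_dvd_natCard _)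
  have hncomm : ¬ ∀ a b : P ⧸ S, a * b = b * a := fun hc => h.core.nonab ⟨⟨hc⟩⟩
  rcases Cfsg.Agent.S2202.result heven hab with hcyc | hnorm | ⟨K, iK, iKf, A, iA, iAf, hK2, hAodd, ⟨φ⟩⟩
  · obtain ⟨E', hE'⟩ := Cfsg.Agent.S0204.result (G := P ⧸ S) fun hc => hncomm fun a b => by
      letI := hc.commGroup
      exact mul_comm a b
    haveI := hE'
    have hp : IsPGroup 2 E' := IsPGroup.of_card (n := 2) (by rw [IsKleinFour.card_four]; norm_num)
    obtain ⟨Q, hQ⟩ := hp.exists_le_sylow
    haveI := hcyc Q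
    exact IsKleinFour.not_isCyclic (G := E') (Subgroup.isCyclic_of_le hQ)
  · obtain ⟨Q⟩ : Nonempty (Sylow 2 (P ⧸ S)) := inferInstance
    haveI := hnorm Q
    rcases IsSimpleGroup.eq_bot_or_eq_top_of_normal (Q : Subgroup (P ⧸ S)) inferInstance with hb | ht'
    · have := Q.not_dvd_index
      rw [hb, Subgroup.index_bot] at this
      exact this (even_iff_two_dvd.1 heven)
    · haveI : Fact (Nat.Prime 2) := ⟨Nat.prime_two⟩
      have hp : IsPGroup 2 (P ⧸ S) := by
        have h1 : IsPGroup 2 (⊤ : Subgroup (P ⧸ S)) := ht' ▸ Q.2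
        exact h1.of_equiv Subgroup.topEquiv
      haveI : Nontrivial (P ⧸ S) := IsSimpleGroup.toNontrivial
      haveI := hp.center_nontrivial
      rcases IsSimpleGroup.eq_bot_or_eq_top_of_normal (Subgroup.center (P ⧸ S)) inferInstance with hb | hc
      · exact (Subgroup.nontrivial_iff_ne_bot _).1 inferInstance hb
      · exact hncomm fun a b => (Subgroup.mem_center_iff.1 (hc ▸ Subgroup.mem_top a : a ∈ Subgroup.center (P ⧸ S)) b).symm
  letI := iK; letI := iA
  haveI := iKf; haveI := iAf; haveI := hK2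
  have h2K : (2 : K) = 0 := by exact_mod_cast CharP.cast_eq_zero K 2
  have hA1 : ∀ a : A, a = 1 := by
    intro a
    have hc : φ.symm (1, a) ∈ Subgroup.center (P ⧸ S) := Subgroup.mem_center_iff.2 fun x => φ.injective (by
      rw [map_mul, map_mul, φ.apply_symm_apply]
      exact Prod.ext (by simp) (mul_comm _ _))
    rcases IsSimpleGroup.eq_bot_or_eq_top_of_normal (Subgroup.center (P ⧸ S)) inferInstance with hb | hb
    · rw [hb, Subgroup.mem_bot] at hc
      have := congrArg φ hc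
      rw [φ.apply_symm_apply, map_one] at this
      exact congrArg Prod.snd this
    · exact absurd (fun x y => (Subgroup.mem_center_iff.1 (hb ▸ Subgroup.mem_top x : x ∈ Subgroup.center (P ⧸ S)) y).symm) hncomm
  -- commuting transvections share the centre
  have hrange : ∀ v α : Fin 3 → F, α ≠ 0 →
      LinearMap.range (Matrix.mulVecLin (vecMulVec v α)) = Submodule.span F {v} := by
    intro v α hα
    obtain ⟨l, hl⟩ : ∃ l, α l ≠ 0 := Function.ne_iff.1 hα
    refine le_antisymm ?_ (Submodule.span_le.2 (Set.singleton_subset_iff.2 ⟨Pi.single l (α l)⁻¹, ?_⟩))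
    · rintro _ ⟨x, rfl⟩
      refine Submodule.mem_span_singleton.2 ⟨α ⬝ᵥ x, ?_⟩
      ext i
      simp [Matrix.mulVecLin_apply, vecMulVec_mulVec, mul_comm]
    · ext i
      simp [Matrix.mulVecLin_apply, vecMulVec_mulVec, vecMulVec_apply, hl, mul_assoc]
  have share : ∀ X Y : M3, IsTv P X → IsTv P Y → X * Y = Y * X →
      LinearMap.range (Matrix.mulVecLin X) = LinearMap.range (Matrix.mulVecLin Y) := by
    intro X Y hX hY hc
    by_cases hne : X = Y
    · rw [hne]
    rcases companion h2 h.small hX hY hc hne with ⟨v, α, β, -, hα, -, -, hind, rfl, rfl⟩ |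
      ⟨v, w, α, hv, hα, -, hαw, hind, rfl, rfl⟩
    · rw [hrange v α hα, hrange v β fun e => hind 0 (by rw [e, zero_smul])]
    · exfalso
      obtain ⟨g, hg, he⟩ := h.core.all_conj h2 hX hEtv
      have hcv : ∀ w : Fin 3 → F, cj g (vecMulVec w α) = vecMulVec (mat g *ᵥ w) (α ᵥ* mat g⁻¹) := fun w => by
        rw [cj, Matrix.mul_vecMulVec, Matrix.vecMulVec_mul]
      rw [hcv] at he
      set v' := mat g *ᵥ v with hv'
      set w' := mat g *ᵥ w with hw'
      set α' := α ᵥ* mat g⁻¹ with hα'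
      have e02 : v' 0 * α' 2 = 1 := by simpa [hE, vecMulVec_apply] using congrFun (congrFun he 0) 2
      have e00 : v' 0 * α' 0 = 0 := by simpa [hE, vecMulVec_apply] using congrFun (congrFun he 0) 0
      have e01 : v' 0 * α' 1 = 0 := by simpa [hE, vecMulVec_apply] using congrFun (congrFun he 0) 1
      have e12 : v' 1 * α' 2 = 0 := by simpa [hE, vecMulVec_apply] using congrFun (congrFun he 1) 2
      have e22 : v' 2 * α' 2 = 0 := by simpa [hE, vecMulVec_apply] using congrFun (congrFun he 2) 2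
      have hv0 : v' 0 ≠ 0 := left_ne_zero_of_mul_eq_one e02
      have hα2 : α' 2 ≠ 0 := right_ne_zero_of_mul_eq_one e02
      have a0 := (mul_eq_zero.1 e00).resolve_left hv0
      have a1 := (mul_eq_zero.1 e01).resolve_left hv0
      have v1 := (mul_eq_zero.1 e12).resolve_right hα2
      have v2 := (mul_eq_zero.1 e22).resolve_right hα2
      have hdot : α' ⬝ᵥ w' = 0 := by
        rw [hα', hw', Matrix.dotProduct_mulVec, Matrix.vecMul_vecMul, mat_inv_mul, Matrix.vecMul_one]
        exact hαw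
      have w2 : w' 2 = 0 := by
        simp [dotProduct, Fin.sum_univ_three, a0, a1, hα2] at hdot
        exact hdot
      have hY' := hY.conj hg
      rw [hcv] at hY'
      obtain ⟨k, hk, hke⟩ := hY'.2.2
      refine hnd (w' 1 * α' 2) (w' 0 * α' 2) (mul_ne_zero (fun w1 => ?_) hα2) ⟨k, hk, ?_⟩
      · refine hind (w' 0 / v' 0) (Matrix.mulVec_injective_iff_isUnit.2 g.isUnit ?_)
        show mat g *ᵥ w = mat g *ᵥ ((w' 0 / v' 0) • v)
        rw [Matrix.mulVec_smul, ← hv', ← hw']
        funext i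
        fin_cases i <;> simp [v1, v2, w1, w2, hv0]
      · rw [hke]
        ext i j
        fin_cases i <;> fin_cases j <;> simp [uni, ← hw', ← hα', vecMulVec_apply, a0, a1, w2]
  -- two families of pairwise commuting transvections
  have h1K : (1 : K) ≠ 0 := one_ne_zero
  have hup2 : ∀ r : K, upR r * upR r = (1 : SL(2, K)) := fun r => by
    rw [← upR_add, show r + r = 0 by linear_combination r * h2K, upR_zero]
  have hlo2 : ∀ r : K, lowR r * lowR r = (1 : SL(2, K)) := fun r => by
    rw [← lowR_add, show r + r = 0 by linear_combination r * h2K, lowR_zero]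
  have hupne : ∀ r : K, r ≠ 0 → (upR r : SL(2, K)) ≠ 1 := fun r hr e => hr (by
    simpa [coe_upR] using congrArg (fun A : SL(2, K) => A.1 0 1) e)
  have hlone : ∀ r : K, r ≠ 0 → (lowR r : SL(2, K)) ≠ 1 := fun r hr e => hr (by
    simpa [coe_lowR] using congrArg (fun A : SL(2, K) => A.1 1 0) e)
  have liftM : ∀ M : SL(2, K), M * M = 1 → M ≠ 1 →
      ∃ y : P, π y = φ.symm (M, 1) ∧ (y : G3) * y = 1 ∧ (y : G3) ≠ 1 := fun M hM hM1 =>
    lift _ (by rw [← map_mul, Prod.mk_mul_mk, hM, one_mul, Prod.mk_one_one, map_one]) fun e => hM1 (by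
      have := congrArg φ e
      rw [φ.apply_symm_apply, map_one] at this
      exact congrArg Prod.fst this)
  obtain ⟨y₁, hy₁, hy₁2, hy₁1⟩ := liftM (upR 1) (hup2 1) (hupne 1 h1K)
  obtain ⟨y₂, hy₂, hy₂2, hy₂1⟩ := liftM (lowR 1) (hlo2 1) (hlone 1 h1K)
  set W := LinearMap.range (Matrix.mulVecLin (mat (y₁ : G3) - 1)) ⊔
    LinearMap.range (Matrix.mulVecLin (mat (y₂ : G3) - 1)) with hW
  let K₀ : Subgroup G3 :=
    { carrier := {g | ∀ v ∈ W, mat g *ᵥ v ∈ W}
      one_mem' := fun v hv => by rwa [mat_one', Matrix.one_mulVec]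
      mul_mem' := fun {a b} ha hb v hv => by rw [mat_mul, ← Matrix.mulVec_mulVec]; exact ha _ (hb v hv)
      inv_mem' := fun {a} ha => by
        have hpow : ∀ n : ℕ, ∀ v ∈ W, mat (a ^ n) *ᵥ v ∈ W := by
          intro n
          induction n with
          | zero => intro v hv; rwa [pow_zero, mat_one', Matrix.one_mulVec]
          | succ n ih => intro v hv; rw [pow_succ, mat_mul, ← Matrix.mulVec_mulVec]; exact ih _ (ha v hv)
        have hpos := orderOf_pos a
        have e : a⁻¹ = a ^ (orderOf a - 1) := inv_eq_of_mul_eq_one_right (by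
          rw [← pow_succ', show orderOf a - 1 + 1 = orderOf a by omega, pow_orderOf_eq_one])
        show ∀ v ∈ W, mat a⁻¹ *ᵥ v ∈ W
        rw [e]
        exact hpow _ }
  have hscal : ∀ g : G3, g ∈ scalars (Fin 3) F → g ∈ K₀ := fun g hg v hv => by
    obtain ⟨c, hc⟩ := (mem_scalars_iff g).1 hg
    rw [show mat g = _ from hc, Matrix.smul_mulVec, Matrix.one_mulVec]
    exact Submodule.smul_mem _ _ hv
  -- members of either family preserve the span of the two centres
  have hfam : ∀ (y₀ : P), (y₀ : G3) * y₀ = 1 → (y₀ : G3) ≠ 1 →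
      LinearMap.range (Matrix.mulVecLin (mat (y₀ : G3) - 1)) ≤ W → ∀ y : P, (y : G3) * y = 1 → (y : G3) ≠ 1 →
      π y₀ * π y = π y * π y₀ → (y : G3) ∈ K₀ := by
    intro y₀ h₀ h₀1 hle y hy hy1 hcomm v hv
    obtain ⟨g, hg, hgc⟩ := h.core.cent_lift (t := y₀) h₀ (c := π y)
      (Subgroup.mem_centralizer_singleton_iff.2 hcomm.symm)
    have hs : (g⁻¹ * y : P) ∈ S := QuotientGroup.eq.1 hg
    have hc2 : (y : G3) * y₀ = y₀ * y := by
      have e : (y : G3) = g * (g⁻¹ * y : P) := by simp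
      rw [e, mul_assoc, scalar_commute (show ((g⁻¹ * y : P) : G3) ∈ scalars (Fin 3) F from hs), ← mul_assoc, hgc,
        mul_assoc]
    have := congrArg mat hc2
    rw [mat_mul, mat_mul] at this
    have hr := share _ _ (isTv_of_invol h2 y₀.2 h₀ h₀1) (isTv_of_invol h2 y.2 hy hy1) (by
      rw [sub_mul, sub_mul, one_mul, one_mul, mul_sub, mul_sub, mul_one, mul_one, this]; abel)
    rw [show mat (y : G3) = 1 + (mat (y : G3) - 1) by rw [add_sub_cancel], Matrix.add_mulVec, Matrix.one_mulVec]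
    exact add_mem hv (hle (hr ▸ LinearMap.mem_range_self (Matrix.mulVecLin (mat (y : G3) - 1)) v))
  have hK₀ : P ≤ K₀ := by
    have htop : ((K₀.subgroupOf P).map π).comap φ.symm.toMonoidHom = ⊤ := by
      rw [eq_top_iff]
      rintro ⟨M, a⟩ -
      rw [hA1 a]
      have : M ∈ ((((K₀.subgroupOf P).map π).comap φ.symm.toMonoidHom).comap
          (MonoidHom.inl SL(2, K) A)) := by
        revert M
        rw [← Subgroup.eq_top_iff' ]
        rw [eq_top_iff, ← sl2_up_low, Subgroup.closure_le]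
        rintro _ (⟨r, rfl⟩ | ⟨r, rfl⟩)
        · by_cases hr : r = 0
          · rw [hr, upR_zero]; exact one_mem _
          obtain ⟨y, hy, hy2, hy1⟩ := liftM _ (hup2 r) (hupne r hr)
          refine ⟨y, hfam y₁ hy₁2 hy₁1 le_sup_left y hy2 hy1 ?_, hy⟩
          rw [hy, hy₁, ← map_mul, ← map_mul, Prod.mk_mul_mk, Prod.mk_mul_mk, ← upR_add, ← upR_add, add_comm]
        · by_cases hr : r = 0
          · rw [hr, lowR_zero]; exact one_mem _
          obtain ⟨y, hy, hy2, hy1⟩ := liftM _ (hlo2 r) (hlone r hr)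
          refine ⟨y, hfam y₂ hy₂2 hy₂1 le_sup_right y hy2 hy1 ?_, hy⟩
          rw [hy, hy₂, ← map_mul, ← map_mul, Prod.mk_mul_mk, Prod.mk_mul_mk, ← lowR_add, ← lowR_add, add_comm]
      exact this
    intro g hg
    obtain ⟨k, hk, hkg⟩ : π ⟨g, hg⟩ ∈ (K₀.subgroupOf P).map π := by
      have h3 : φ (π ⟨g, hg⟩) ∈ ((K₀.subgroupOf P).map π).comap φ.symm.toMonoidHom := htop ▸ Subgroup.mem_top _
      simpa using h3
    have := mul_mem (show (k : G3) ∈ K₀ from hk)
      (hscal _ (show ((k⁻¹ * ⟨g, hg⟩ : P) : G3) ∈ scalars (Fin 3) F from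
        (QuotientGroup.eq (s := S)).1 hkg))
    simpa using this
  have hne1 : mat (y₁ : G3) - 1 ≠ 0 := (isTv_of_invol h2 y₁.2 hy₁2 hy₁1).1
  obtain ⟨v, α, hv, hα, -, hvα⟩ := (isTv_of_invol h2 y₁.2 hy₁2 hy₁1).rep
  obtain ⟨w, β, hw, hβ, -, hwβ⟩ := (isTv_of_invol h2 y₂.2 hy₂2 hy₂1).rep
  have hWtop := h.core.not_inv (W := W) (fun g hg => hK₀ hg) (v := v)
    (Submodule.mem_sup_left (by rw [hvα, hrange v α hα]; exact Submodule.mem_span_singleton_self v)) hv
  have hle : Module.finrank F W ≤ 2 := by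
    rw [hW, hvα, hwβ, hrange v α hα, hrange w β hβ]
    refine (Submodule.finrank_add_le_finrank_add_finrank _ _).trans ?_
    rw [finrank_span_singleton hv, finrank_span_singleton hw]
  rw [hWtop, finrank_top, Module.finrank_fintype_fun_eq_card, Fintype.card_fin] at hle
  omega

end Cfsg.Agent.ResidualThree
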