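import Cfsg.Agent.ResidualThree.FieldR

/-!
In characteristic three the very small root groups do not occur.
-/

set_option autoImplicit false

namespace Cfsg.Agent.ResidualThree

open Matrix Cfsg.Geo Cfsg.Agent.PrimeDim
open scoped MatrixGroups

namespace Nine

/-- Multiplication of pairs modelling the field of nine elements. -/
def pmul (x y : ZMod 3 × ZMod 3) : ZMod 3 × ZMod 3 := (x.1 * y.1 - x.2 * y.2, x.1 * y.2 + x.2 * y.1)

/-- The five admissible values. -/
def five : Finset (ZMod 3 × ZMod 3) := {(0, 0), (1, 0), (2, 0), (0, 1), (0, 2)}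

theorem table : ∀ a ∈ five, ∀ b ∈ five, ∀ e ∈ five,
    -pmul (0, 1) a + b + (a - pmul (0, 1) b - e) ∈ five →
    -pmul (0, 1) a - pmul (0, 1) b - (a - pmul (0, 1) b - e) - pmul (0, 1) (a - pmul (0, 1) b - e) ∈ five →
    a - pmul (0, 1) b + (a - pmul (0, 1) b - e) ∈ five →
      pmul (a - pmul (0, 1) b - e) (a - pmul (0, 1) b - e) + pmul (0, 1) (pmul a b) = 0 := by decide

theorem mem_zero : ((0, 0) : ZMod 3 × ZMod 3) ∈ five := by decide
theorem mem_one : ((1, 0) : ZMod 3 × ZMod 3) ∈ five := by decide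
theorem mem_neg_one : ((-1, 0) : ZMod 3 × ZMod 3) ∈ five := by decide
theorem mem_i : ((0, 1) : ZMod 3 × ZMod 3) ∈ five := by decide
theorem mem_neg_i : ((0, -1) : ZMod 3 × ZMod 3) ∈ five := by decide

theorem sq_ne : ∀ w : ZMod 3, w ^ 2 ≠ -1 := by decide

end Nine

variable {F : Type*} [Field F] {P : Subgroup (GL (Fin 3) F)}

local notation "M3" => Matrix (Fin 3) (Fin 3) F

theorem cycle_mul {X₁ X₂ X₃ : M3} (h₁ : X₁ * X₁ = 0) (h₂ : X₂ * X₂ = 0) (h₃ : X₃ * X₃ = 0) :
    (X₁ * X₂ * X₃).trace * (X₁ * X₃ * X₂).trace = (X₁ * X₂).trace * ((X₃ * X₁).trace * (X₃ * X₂).trace) := by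
  by_cases e₁ : X₁ = 0
  · simp [e₁]
  by_cases e₂ : X₂ = 0
  · simp [e₂]
  by_cases e₃ : X₃ = 0
  · simp [e₃]
  obtain ⟨u, a, -, -, -, rfl⟩ := exists_vecMulVec h₁ e₁
  obtain ⟨v, b, -, -, -, rfl⟩ := exists_vecMulVec h₂ e₂
  obtain ⟨w, c, -, -, -, rfl⟩ := exists_vecMulVec h₃ e₃
  simp only [trace_triple, trace_pair]
  ring

variable [Finite F]

/-- In characteristic three no pair of transvections has a parameter of square minus one when the root groups
are small. -/
theorem Core.not_small (hP : Core P) (h3 : (3 : F) = 0)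
    (hs : ∀ (X : M3) (hX : IsTv P X), SmallRoot P X hX.2.1) {X₁ X₂ : M3} (h₁ : IsTv P X₁) (h₂ : IsTv P X₂)
    (hl : (X₁ * X₂).trace ^ 2 = -1) : False := by
  classical
  set i := (X₁ * X₂).trace with hi
  have hi0 : i ≠ 0 := fun e => one_ne_zero (α := F) (by linear_combination hl - i * e)
  have h2 : (2 : F) ≠ 0 := fun e => one_ne_zero (α := F) (by linear_combination h3 - e)
  -- the possible parameters
  have hfive : ∀ A B : M3, IsTv P A → IsTv P B → (A * B).trace = 0 ∨ (A * B).trace = 1 ∨ (A * B).trace = -1 ∨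
      (A * B).trace = i ∨ (A * B).trace = -i := by
    intro A B hA hB
    by_cases h0 : (A * B).trace = 0
    · exact Or.inl h0
    rcases pair_cases hA hB h0 with ⟨-, -, h | ⟨h, -⟩⟩ | ⟨-, h, -, -⟩
    · rcases hs A hA _ h with e | e | e
      · exact Or.inl e
      · exact Or.inr (Or.inl e)
      · exact Or.inr (Or.inr (Or.inl e))
    · exact absurd h h2
    · have : ((A * B).trace - i) * ((A * B).trace + i) = 0 := by linear_combination h - hl
      rcases mul_eq_zero.1 this with e | e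
      · exact Or.inr (Or.inr (Or.inr (Or.inl (sub_eq_zero.1 e))))
      · exact Or.inr (Or.inr (Or.inr (Or.inr (eq_neg_of_add_eq_zero_left e))))
  haveI : CharP F 3 := (CharP.charP_iff_prime_eq_zero Nat.prime_three).2 (by exact_mod_cast h3)
  haveI : Fact (Nat.Prime 3) := ⟨Nat.prime_three⟩
  set κ : ZMod 3 →+* F := ZMod.castHom (dvd_refl 3) F with hκ
  set f : ZMod 3 × ZMod 3 → F := fun x => κ x.1 + κ x.2 * i with hf
  have fadd : ∀ x y, f (x + y) = f x + f y := fun x y => by simp only [hf, Prod.fst_add, Prod.snd_add, map_add]; ring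
  have fsub : ∀ x y, f (x - y) = f x - f y := fun x y => by simp only [hf, Prod.fst_sub, Prod.snd_sub, map_sub]; ring
  have fneg : ∀ x, f (-x) = -f x := fun x => by simp only [hf, Prod.fst_neg, Prod.snd_neg, map_neg]; ring
  have fmul : ∀ x y, f (Nine.pmul x y) = f x * f y := fun x y => by
    simp only [hf, Nine.pmul, map_sub, map_add, map_mul]
    linear_combination (-(κ x.2 * κ y.2)) * hl
  have fi : f (0, 1) = i := by simp [hf]
  have finj : Function.Injective f := by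
    intro x y hxy
    have e : f (x - y) = 0 := by rw [fsub, hxy, sub_self]
    have key : ∀ z : ZMod 3 × ZMod 3, f z = 0 → z = 0 := by
      intro z hz
      by_cases hz2 : z.2 = 0
      · have : κ z.1 = 0 := by simpa [hf, hz2] using hz
        exact Prod.ext ((map_eq_zero κ).1 this) hz2
      · have h' : i = κ (-z.1 / z.2) := by
          rw [map_div₀, map_neg, eq_div_iff ((map_ne_zero κ).2 hz2)]
          simp only [hf] at hz
          linear_combination hz
        have h'' : κ ((-z.1 / z.2) ^ 2) = κ (-1) := by rw [map_pow, ← h', hl, map_neg, map_one]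
        exact absurd (κ.injective h'') (Nine.sq_ne _)
    exact sub_eq_zero.1 (key _ e)
  have hS : ∀ t : F, t = 0 ∨ t = 1 ∨ t = -1 ∨ t = i ∨ t = -i → ∃ x ∈ Nine.five, f x = t := by
    rintro t (rfl | rfl | rfl | rfl | rfl)
    · exact ⟨(0, 0), Nine.mem_zero, by simp [hf]⟩
    · exact ⟨(1, 0), Nine.mem_one, by simp [hf]⟩
    · exact ⟨(-1, 0), Nine.mem_neg_one, by simp [hf]⟩
    · exact ⟨(0, 1), Nine.mem_i, fi⟩
    · exact ⟨(0, -1), Nine.mem_neg_i, by simp [hf]⟩
  have back : ∀ (x : ZMod 3 × ZMod 3) (t : F), f x = t →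
      (t = 0 ∨ t = 1 ∨ t = -1 ∨ t = i ∨ t = -i) → x ∈ Nine.five := fun x t hx ht => by
    obtain ⟨y, hy, hyt⟩ := hS t ht
    rwa [finj (hx.trans hyt.symm)]
  obtain ⟨X₃, h₃, hsum⟩ := hP.exists_third h₁ h₂ hi0
  set a := (X₃ * X₁).trace with ha
  set b := (X₃ * X₂).trace with hb
  set γ := (X₃ * (X₁ * X₂ - X₂ * X₁)).trace with hγ
  have hi' : (X₂ * X₁).trace = i := Matrix.trace_mul_comm X₂ X₁
  -- four conjugates
  have e₁ := hfive _ _ h₃ (h₂.move h₁)
  have e₂ := hfive _ _ h₃ (h₁.move h₂)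
  have e₃ := hfive _ _ h₃ (h₁.move (h₂.move h₁))
  have e₄ := hfive _ _ h₃ (h₂.neg.move h₁)
  rw [hi', show (X₃ * (X₁ + (X₂ * X₁ - X₁ * X₂) - i • X₂)).trace = a - i * b - γ by
    simp only [ha, hb, hγ, mul_sub, mul_add, Matrix.mul_smul, Matrix.trace_sub, Matrix.trace_add,
      Matrix.trace_smul, smul_eq_mul]; ring] at e₁
  rw [← hi, show (X₃ * (X₂ + (X₁ * X₂ - X₂ * X₁) - i • X₁)).trace = -(i * a) + b + γ by
    simp only [ha, hb, hγ, mul_sub, mul_add, Matrix.mul_smul, Matrix.trace_sub, Matrix.trace_add,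
      Matrix.trace_smul, smul_eq_mul]; ring] at e₂
  rw [neg_mul, Matrix.trace_neg, hi', show (X₃ * (X₁ + (-(X₂ * X₁) - X₁ * -X₂) - -i • -X₂)).trace =
      a - i * b + γ by
    simp only [ha, hb, hγ, mul_sub, mul_add, mul_neg, Matrix.mul_smul, smul_neg, neg_smul, neg_neg,
      sub_neg_eq_add, Matrix.trace_sub, Matrix.trace_add, Matrix.trace_neg, Matrix.trace_smul,
      smul_eq_mul]; ring] at e₄
  have hW1 : X₁ * (X₁ + (X₂ * X₁ - X₁ * X₂) - i • X₂) = i • X₁ - i • (X₁ * X₂) := by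
    rw [mul_sub, mul_add, mul_sub, Matrix.mul_smul, ← mul_assoc, ← mul_assoc, h₁.2.1, zero_mul, sub_zero,
      zero_add, sandwich h₁.2.1, ← hi]
  have hW2 : (X₁ + (X₂ * X₁ - X₁ * X₂) - i • X₂) * X₁ = -(i • X₁) - i • (X₂ * X₁) := by
    rw [sub_mul, add_mul, sub_mul, Matrix.smul_mul, mul_assoc X₂, h₁.2.1, mul_zero, zero_sub, zero_add,
      sandwich h₁.2.1, ← hi]
  have htX : X₁.trace = 0 := by
    obtain ⟨u, al, -, -, h0, hX⟩ := h₁.rep
    rw [hX, trace_vecMulVec, dotProduct_comm, h0]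
  rw [hi', hW1, hW2, show (i • X₁ - i • (X₁ * X₂)).trace = 1 by
    rw [Matrix.trace_sub, Matrix.trace_smul, Matrix.trace_smul, htX, ← hi, smul_zero, zero_sub, smul_eq_mul]
    linear_combination (-1 : F) * hl,
    show (X₃ * (X₁ + (X₂ * X₁ - X₁ * X₂) - i • X₂ + (i • X₁ - i • (X₁ * X₂) - (-(i • X₁) - i • (X₂ * X₁))) -
        (1 : F) • X₁)).trace = -(i * a) - i * b - γ - i * γ by
      simp only [ha, hb, hγ, one_smul, mul_sub, mul_add, mul_neg, Matrix.mul_smul, Matrix.trace_sub,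
        Matrix.trace_add, Matrix.trace_neg, Matrix.trace_smul, smul_eq_mul]
      linear_combination i * (X₃ * X₁).trace * h3] at e₃
  obtain ⟨a', ha', haf⟩ := hS a (hfive _ _ h₃ h₁)
  obtain ⟨b', hb', hbf⟩ := hS b (hfive _ _ h₃ h₂)
  obtain ⟨e', he', hef⟩ := hS _ e₁
  set g := a' - Nine.pmul (0, 1) b' - e' with hg
  have hgf : f g = γ := by rw [hg, fsub, fsub, fmul, fi, haf, hbf, hef]; ring
  have hzero := Nine.table a' ha' b' hb' e' he'
    (back _ _ (by rw [fadd, fadd, fneg, fmul, fi, ← hg, hgf, haf, hbf]) e₂)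
    (back _ _ (by rw [fsub, fsub, fsub, fneg, fmul, fmul, fmul, fi, ← hg, hgf, haf, hbf]) e₃)
    (back _ _ (by rw [fadd, fsub, fmul, fi, ← hg, hgf, haf, hbf]) e₄)
  rw [← hg] at hzero
  have hz : γ * γ + i * (a * b) = 0 := by
    have := congrArg f hzero
    rw [fadd, fmul, fmul, fmul, fi, hgf, haf, hbf] at this
    simpa [hf] using this
  -- the cycles
  have hc := cycle_mul h₁.2.1 h₂.2.1 h₃.2.1
  set c := (X₁ * X₂ * X₃).trace with hc'
  set d := (X₁ * X₃ * X₂).trace with hd'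
  have hγ' : γ = c - d := by
    rw [hγ, mul_sub, Matrix.trace_sub, hc', hd', ← mul_assoc X₃ X₂ X₁, Matrix.trace_mul_comm (X₃ * X₂) X₁,
      ← mul_assoc X₁, Matrix.trace_mul_comm X₃ (X₁ * X₂)]
  apply hsum
  have : (c + d) ^ 2 = 0 := by
    rw [← hi, ← ha, ← hb] at hc
    rw [hγ'] at hz
    linear_combination hz + 4 * hc + (i * (a * b)) * h3
  simpa using this

end Cfsg.Agent.ResidualThree

namespace Cfsg.Agent.ResidualThree

open Matrix Cfsg.Geo Cfsg.Agent.PrimeDim
open scoped MatrixGroups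

variable {F : Type*} [Field F] [Finite F] {P : Subgroup (GL (Fin 3) F)}

/-- The root groups are the whole trace field, or have two elements. -/
theorem Core.rset_cases' (hP : Core P) :
    (∀ (X : Matrix (Fin 3) (Fin 3) F) (hX : IsTv P X), ∀ s ∈ lamField P, s ∈ rset P X hX.2.1) ∨
      ((2 : F) = 0 ∧ ∀ (X : Matrix (Fin 3) (Fin 3) F) (hX : IsTv P X), ∀ a ∈ rset P X hX.2.1, a = 0 ∨ a = 1) := by
  rcases hP.rset_cases with h | h | ⟨h3, hs, X, Y, hX, hY, he⟩
  · exact Or.inl h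
  · exact Or.inr h
  · exact (hP.not_small h3 hs hX hY he).elim

end Cfsg.Agent.ResidualThree
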