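import Cfsg.Agent.ResidualThree.Pairs

/-!
A frame of three transvections: the group is defined over the field of the pairwise traces, or it fixes a
hermitian form for the involutory automorphism over that field.
-/

set_option autoImplicit false

namespace Cfsg.Agent.ResidualThree

open Matrix Cfsg.Geo Cfsg.Agent.PrimeDim
open scoped MatrixGroups

variable {F : Type*} [Field F] {P : Subgroup (GL (Fin 3) F)}

local notation "M3" => Matrix (Fin 3) (Fin 3) F

/-- The transvections generate. -/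
theorem Core.closure_tv (hP : Core P) {X : M3} (hX : IsTv P X) :
    Subgroup.closure {g : GL (Fin 3) F | g ∈ P ∧ IsTv P (mat g - 1)} = P := by
  refine (hP.normal_cases ((Subgroup.closure_le P).2 fun g hg => hg.1) ?_).resolve_left fun hle => ?_
  · intro k hk x hx
    induction hx using Subgroup.closure_induction with
    | mem y hy =>
      refine Subgroup.subset_closure ⟨mul_mem (mul_mem hk hy.1) (inv_mem hk), ?_⟩
      have h := hy.2.conj hk
      rwa [cj, mul_sub, sub_mul, mul_one, mat_mul_inv, show mat k * mat y * mat k⁻¹ = mat (k * y * k⁻¹) by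
        simp [mat]] at h
    | one => simp
    | mul a b _ _ h1 h2 =>
      rw [show k * (a * b) * k⁻¹ = (k * a * k⁻¹) * (k * b * k⁻¹) by group]
      exact mul_mem h1 h2
    | inv a _ h1 =>
      rw [show k * a⁻¹ * k⁻¹ = (k * a * k⁻¹)⁻¹ by group]
      exact inv_mem h1
  · obtain ⟨g, hg, hgX⟩ := hX.2.2
    have he : mat g - 1 = X := by rw [hgX, add_sub_cancel_left]
    obtain ⟨c, hc⟩ := (mem_scalars_iff g).1 (hle (Subgroup.subset_closure ⟨hg, he ▸ hX⟩))
    have hXs : X = ((c : F) - 1) • (1 : M3) := by rw [← he, sub_smul, one_smul]; exact congrArg (· - 1) hc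
    have h2 := hX.2.1
    rw [hXs, smul_mul_smul_comm, one_mul, smul_eq_zero] at h2
    exact hX.1 (by rw [hXs, mul_self_eq_zero.1 (h2.resolve_right one_ne_zero), zero_smul])

/-- The field generated by the traces of products of two transvections. -/
def lamField (P : Subgroup (GL (Fin 3) F)) : Subfield F :=
  Subfield.closure {x : F | ∃ X Y : M3, IsTv P X ∧ IsTv P Y ∧ x = (X * Y).trace}

theorem trace_mem {X Y : M3} (hX : IsTv P X) (hY : IsTv P Y) : (X * Y).trace ∈ lamField P :=
  Subfield.subset_closure ⟨X, Y, hX, hY, rfl⟩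

theorem trace_bracket_mem {X T Y : M3} (hX : IsTv P X) (hT : IsTv P T) (hY : IsTv P Y) :
    (X * (T * Y - Y * T)).trace ∈ lamField P := by
  have h := trace_mem hX (hT.move hY)
  rw [mul_sub, mul_add, Matrix.mul_smul, Matrix.trace_sub, Matrix.trace_add, Matrix.trace_smul, smul_eq_mul] at h
  have h1 : (X * (T * Y - Y * T)).trace = ((X * Y).trace + (X * (T * Y - Y * T)).trace -
      (T * Y).trace * (X * T).trace) - (X * Y).trace + (T * Y).trace * (X * T).trace := by ring
  rw [h1]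
  exact add_mem (sub_mem h (trace_mem hX hY)) (mul_mem (trace_mem hT hY) (trace_mem hX hT))

theorem trace_bracket_two_mem {X S T Y : M3} (hX : IsTv P X) (hS : IsTv P S) (hT : IsTv P T) (hY : IsTv P Y) :
    (X * (S * (T * Y - Y * T) - (T * Y - Y * T) * S)).trace ∈ lamField P := by
  have h := trace_bracket_mem hX hS (hT.move hY)
  have h1 : (X * (S * (T * Y - Y * T) - (T * Y - Y * T) * S)).trace =
      (X * (S * (Y + (T * Y - Y * T) - (T * Y).trace • T) - (Y + (T * Y - Y * T) - (T * Y).trace • T) * S)).trace -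
        (X * (S * Y - Y * S)).trace + (T * Y).trace * (X * (S * T - T * S)).trace := by
    simp only [mul_sub, mul_add, sub_mul, add_mul, Matrix.mul_smul, Matrix.smul_mul, Matrix.trace_sub,
      Matrix.trace_add, Matrix.trace_smul, smul_eq_mul]
    ring
  rw [h1]
  exact add_mem (sub_mem h (trace_bracket_mem hX hS hY)) (mul_mem (trace_mem hT hY) (trace_bracket_mem hX hS hT))

/-- Three rank-one nilpotent matrices in general position with their two cycles. -/
structure IsFrame (X : Fin 3 → M3) : Prop where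
  rankOne : ∀ i, X i ≠ 0 ∧ X i * X i = 0
  cycle : (X 0 * X 1 * X 2).trace ≠ 0
  det : (X 0 * X 1 * X 2).trace + (X 0 * X 2 * X 1).trace ≠ 0

/-- Coordinates for a frame. -/
theorem IsFrame.exists_coord {X : Fin 3 → M3} (hX : IsFrame X) :
    ∃ (B : GL (Fin 3) F) (Mx : M3), Mx.det ≠ 0 ∧ (∀ i, Mx i i = 0) ∧ Mx 0 1 = 1 ∧ Mx 1 2 = 1 ∧
      Mx 2 0 = (X 0 * X 1 * X 2).trace ∧ Mx 1 0 = (X 0 * X 1).trace ∧ Mx 2 1 = (X 1 * X 2).trace ∧
      Mx 0 2 * Mx 2 0 = (X 0 * X 2).trace ∧ Mx 0 2 * Mx 2 1 * Mx 1 0 = (X 0 * X 2 * X 1).trace ∧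
      ∀ i, cj B (X i) = vecMulVec (Pi.single i 1) (Mx i) := by
  choose v α hv hα hαv hX' using fun i => exists_vecMulVec (hX.rankOne i).2 (hX.rankOne i).1
  have hc := hX.cycle
  have hd := hX.det
  rw [hX' 0, hX' 1, hX' 2, trace_triple] at hc hd
  rw [trace_triple] at hd
  obtain ⟨⟨h01, h12⟩, h20⟩ : ((α 0 ⬝ᵥ v 1 ≠ 0) ∧ (α 1 ⬝ᵥ v 2 ≠ 0)) ∧ α 2 ⬝ᵥ v 0 ≠ 0 := by
    simpa [mul_eq_zero, not_or] using hc
  -- rescale so that two of the products are one
  let s : Fin 3 → F := ![1, (α 0 ⬝ᵥ v 1)⁻¹, ((α 0 ⬝ᵥ v 1) * (α 1 ⬝ᵥ v 2))⁻¹]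
  have hs : ∀ i, s i ≠ 0 := by
    intro i; fin_cases i <;> simp [s, h01, h12]
  let w : Fin 3 → Fin 3 → F := fun i => s i • v i
  let γ : Fin 3 → Fin 3 → F := fun i => (s i)⁻¹ • α i
  have hXw : ∀ i, X i = vecMulVec (w i) (γ i) := fun i => by
    rw [hX' i, vecMulVec_smul, smul_vecMulVec, smul_smul, inv_mul_cancel₀ (hs i), one_smul]
  let V : M3 := (Matrix.of w)ᵀ
  let A : M3 := Matrix.of γ
  let Mx : M3 := A * V
  have hMx : ∀ i j, Mx i j = (s i)⁻¹ * s j * (α i ⬝ᵥ v j) := fun i j => by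
    show γ i ⬝ᵥ w j = _
    simp only [γ, w, smul_dotProduct, dotProduct_smul, smul_eq_mul]
    ring
  have hdiag : ∀ i, Mx i i = 0 := fun i => by rw [hMx, hαv, mul_zero]
  have hdetM : Mx.det ≠ 0 := by
    intro e
    apply hd
    rw [Matrix.det_fin_three] at e
    simp only [hdiag, hMx, mul_zero, zero_mul, sub_zero, zero_add, add_zero] at e
    simp [s] at e
    field_simp at e
    linear_combination e
  have hV : V.det ≠ 0 := fun e => hdetM (by rw [Matrix.det_mul, e, mul_zero])
  refine ⟨(Matrix.GeneralLinearGroup.mkOfDetNeZero V hV)⁻¹, Mx, hdetM, hdiag, ?_, ?_, ?_, ?_, ?_, ?_, ?_,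
    fun i => ?_⟩
  · rw [hMx]; simp [s] <;> field_simp <;> simp
  · rw [hMx]; simp [s] <;> field_simp <;> simp
  · rw [hMx, hX' 0, hX' 1, hX' 2, trace_triple]; simp [s] <;> field_simp <;> simp
  · rw [hMx, hX' 0, hX' 1, trace_pair]; simp [s] <;> field_simp <;> simp
  · rw [hMx, hX' 1, hX' 2, trace_pair]; simp [s] <;> field_simp <;> simp
  · rw [hMx, hMx, hX' 0, hX' 2, trace_pair]; simp [s] <;> field_simp <;> simp
  · rw [hMx, hMx, hMx, hX' 0, hX' 1, hX' 2, trace_triple]; simp [s] <;> field_simp <;> simp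
  · rw [cj, inv_inv, hXw i]
    show mat (Matrix.GeneralLinearGroup.mkOfDetNeZero V hV)⁻¹ * vecMulVec (w i) (γ i) * V = _
    rw [mul_vecMulVec, vecMulVec_mul]
    congr 1
    rw [show w i = V *ᵥ Pi.single i 1 by rw [Matrix.mulVec_single_one]; rfl]
    exact inv_mulVec_cancel (Matrix.GeneralLinearGroup.mkOfDetNeZero V hV) _

/-- Nothing but scalars is orthogonal to the brackets of a frame. -/
theorem scalar_of_orthogonal {Mx y : M3} (hd : Mx.det ≠ 0) (hdiag : ∀ i, Mx i i = 0) (h01 : Mx 0 1 = 1)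
    (h12 : Mx 1 2 = 1) (h20 : Mx 2 0 ≠ 0) (X : Fin 3 → M3) (hX : ∀ i, X i = vecMulVec (Pi.single i 1) (Mx i))
    (h1 : ∀ i, (y * X i).trace = 0) (h2 : ∀ i j, (y * (X i * X j - X j * X i)).trace = 0)
    (h3 : ∀ k i j, (y * (X k * (X i * X j - X j * X i) - (X i * X j - X j * X i) * X k)).trace = 0) :
    ∃ u : F, y = u • (1 : M3) := by
  set G := Mx * y with hG
  have hG' : ∀ i j, G i j = Mx i ⬝ᵥ (y *ᵥ Pi.single j 1) := fun i j => by
    rw [Matrix.mulVec_single_one, hG, Matrix.mul_apply]; rfl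
  have t1 : ∀ i, (y * X i).trace = G i i := fun i => by
    rw [hX, mul_vecMulVec, trace_vecMulVec, dotProduct_comm, hG']
  have t2 : ∀ i j, (y * (X i * X j)).trace = Mx i j * G j i := fun i j => by
    rw [hX, hX, tv_mul_tv, Matrix.mul_smul, Matrix.trace_smul, mul_vecMulVec, trace_vecMulVec, dotProduct_single,
      mul_one, smul_eq_mul, dotProduct_comm, hG']
  have t3 : ∀ i j k, (y * (X i * X j * X k)).trace = Mx i j * Mx j k * G k i := fun i j k => by
    rw [hX, hX, hX, tv_mul_tv, Matrix.smul_mul, tv_mul_tv, smul_smul, Matrix.mul_smul, Matrix.trace_smul,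
      mul_vecMulVec, trace_vecMulVec, dotProduct_single, dotProduct_single, mul_one, mul_one, smul_eq_mul,
      dotProduct_comm, hG']
  simp only [mul_sub, sub_mul, ← mul_assoc, Matrix.trace_sub] at h2 h3
  simp only [mul_assoc y] at h2 h3
  simp only [t1] at h1
  simp only [t2] at h2
  simp only [t3] at h3
  have e01 := h2 0 1
  have e12 := h2 1 2
  have e20 := h2 2 0
  have d1 := h3 0 1 2
  have d2 := h3 1 2 0
  rw [h01] at e01 d1 d2
  rw [h12] at e12 d1 d2
  have hdet : Mx.det = Mx 2 0 + Mx 0 2 * Mx 2 1 * Mx 1 0 := by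
    rw [Matrix.det_fin_three, hdiag 0, hdiag 1, hdiag 2, h01, h12]; ring
  obtain ⟨u3, hu3⟩ : ∃ u3, G 2 0 = Mx 2 0 * u3 := ⟨G 2 0 / Mx 2 0, (mul_div_cancel₀ _ h20).symm⟩
  have hG10 : G 1 0 = Mx 1 0 * G 0 1 := by linear_combination e01
  have hG21 : G 2 1 = Mx 2 1 * G 1 2 := by linear_combination e12
  have hG02 : G 0 2 = Mx 0 2 * u3 := by
    refine mul_left_cancel₀ h20 ?_
    linear_combination e20 + Mx 0 2 * hu3
  simp only [hG10, hG21, hG02, hu3] at d1 d2
  have u13 : u3 = G 0 1 := by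
    refine mul_left_cancel₀ hd ?_
    rw [hdet]; linear_combination d1
  have u12 : G 1 2 = G 0 1 := by
    refine mul_left_cancel₀ hd ?_
    rw [hdet]; linear_combination -d2
  refine ⟨G 0 1, ?_⟩
  have hGu : G = G 0 1 • Mx := by
    ext i j
    fin_cases i <;> fin_cases j <;>
      simp [h1, hdiag, h01, h12, u12, hG10, hG21, hG02, hu3, u13, mul_comm]
  have hinv : IsUnit Mx.det := isUnit_iff_ne_zero.2 hd
  calc y = Mx⁻¹ * G := by rw [hG, ← mul_assoc, Matrix.nonsing_inv_mul _ hinv, one_mul]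
    _ = _ := by rw [hGu, Matrix.mul_smul, Matrix.nonsing_inv_mul _ hinv]; simp [h01]

theorem cj_sub (B : GL (Fin 3) F) (X Y : M3) : cj B (X - Y) = cj B X - cj B Y := by
  simp [cj, mul_sub, sub_mul]

theorem trace_cj_mul (B : GL (Fin 3) F) (X Y : M3) : (cj B X * cj B Y).trace = (X * Y).trace := by
  rw [← cj_prod, cj_trace]

/-- A sum of two rank-one matrices is singular. -/
theorem exists_kernel (a b c d : Fin 3 → F) : ∃ x : Fin 3 → F, x ≠ 0 ∧ (vecMulVec a b + vecMulVec c d) *ᵥ x = 0 := by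
  have key : ∀ b : Fin 3 → F, 2 ≤ Module.finrank F (dker b) := fun b => by
    by_cases hb : b = 0
    · have : dker b = ⊤ := eq_top_iff.2 fun x _ => by rw [mem_dker, hb, zero_dotProduct]
      rw [this, finrank_top, Module.finrank_fintype_fun_eq_card, Fintype.card_fin]; omega
    · exact (finrank_dker hb).ge
  have h := Submodule.finrank_sup_add_finrank_inf_eq (dker b) (dker d)
  have h2 := Submodule.finrank_le (dker b ⊔ dker d)
  rw [Module.finrank_fintype_fun_eq_card, Fintype.card_fin] at h2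
  have hne : dker b ⊓ dker d ≠ ⊥ := by
    intro e
    rw [e, finrank_bot] at h
    have := key b
    have := key d
    omega
  obtain ⟨x, hx, hx0⟩ := Submodule.exists_mem_ne_zero_of_ne_bot hne
  refine ⟨x, hx0, ?_⟩
  rw [Matrix.add_mulVec, vecMulVec_mulVec, vecMulVec_mulVec, mem_dker.1 hx.1, mem_dker.1 hx.2]
  simp

variable [Finite F]

/-- The dichotomy: the trace field is everything, or a hermitian form is fixed. -/
theorem Core.field_or_hermitian (hP : Core P) (hmin : ∀ F₀ : Subfield F, F₀ ≠ ⊤ → ¬ RealisableOver F₀ (matrixSet P))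
    {X₁ : M3} (hX₁ : IsTv P X₁) :
    lamField P = ⊤ ∨ ∃ (σ : F ≃+* F) (G : M3), (∀ a, σ (σ a) = a) ∧ σ ≠ RingEquiv.refl F ∧
      (∀ x, x ∈ lamField P ↔ σ x = x) ∧ G.det ≠ 0 ∧ Gᵀ = G.map σ ∧ Fixes σ P G := by
  obtain ⟨h, hh, hl⟩ := hP.exists_linked hX₁ hX₁
  obtain ⟨X₃, hX₃, hd⟩ := hP.exists_third hX₁ (hX₁.conj hh) hl
  obtain ⟨X, htv, hX⟩ : ∃ X : Fin 3 → M3, (∀ i, IsTv P (X i)) ∧ IsFrame X := by
    by_cases hc : (X₁ * cj h X₁ * X₃).trace ≠ 0
    · refine ⟨![X₁, cj h X₁, X₃], fun i => ?_, ⟨fun i => ?_, hc, hd⟩⟩ <;>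
        fin_cases i <;> first | exact hX₁ | exact hX₁.conj hh | exact hX₃ | exact ⟨hX₁.1, hX₁.2.1⟩ |
          exact ⟨(hX₁.conj hh).1, (hX₁.conj hh).2.1⟩ | exact ⟨hX₃.1, hX₃.2.1⟩
    · push Not at hc
      refine ⟨![X₁, X₃, cj h X₁], fun i => ?_, ⟨fun i => ?_, ?_, by rwa [add_comm] at hd⟩⟩
      rotate_left 2
      · rw [hc, zero_add] at hd; exact hd
      all_goals fin_cases i <;> first | exact hX₁ | exact hX₁.conj hh | exact hX₃ | exact ⟨hX₁.1, hX₁.2.1⟩ |
          exact ⟨(hX₁.conj hh).1, (hX₁.conj hh).2.1⟩ | exact ⟨hX₃.1, hX₃.2.1⟩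
  obtain ⟨B, Mx, hMd, hdiag, h01, h12, h20, h10, h21, hd02, hcyc, hB⟩ := hX.exists_coord
  set K := lamField P with hK
  set c := (X 0 * X 1 * X 2).trace with hcdef
  set c' := (X 0 * X 2 * X 1).trace with hc'def
  have hcne : c ≠ 0 := hX.cycle
  have h20' : Mx 2 0 ≠ 0 := h20 ▸ hcne
  have hsym : ∀ Y Z : M3, (Y * Z).trace = (Z * Y).trace := fun Y Z => Matrix.trace_mul_comm Y Z
  -- the quadratic equation of the cycle
  have hsub : c - c' ∈ K := by
    have h1 := trace_bracket_mem (htv 0) (htv 1) (htv 2)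
    rw [mul_sub, Matrix.trace_sub, ← mul_assoc, ← mul_assoc] at h1
    exact h1
  have hprod : c * c' ∈ K := by
    have : c * c' = (X 0 * X 1).trace * (X 1 * X 2).trace * (X 0 * X 2).trace := by
      rw [← hcyc, ← h10, ← h21, ← hd02, ← h20]; ring
    rw [this]
    exact mul_mem (mul_mem (trace_mem (htv 0) (htv 1)) (trace_mem (htv 1) (htv 2))) (trace_mem (htv 0) (htv 2))
  let E := Subfield.closure (insert c (K : Set F))
  have hKE : K ≤ E := fun x hx => Subfield.subset_closure (Set.mem_insert_of_mem _ hx)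
  have hcE : c ∈ E := Subfield.subset_closure (Set.mem_insert _ _)
  have hc'E : c' ∈ E := by simpa using sub_mem hcE (hKE hsub)
  have h10ne : Mx 2 0 ∈ E := h20 ▸ hcE
  have hME : Entries E Mx := by
    have e02 : Mx 0 2 ∈ E := by
      have : Mx 0 2 = (X 0 * X 2).trace / c := by rw [← hd02, h20, mul_div_assoc, div_self hcne, mul_one]
      rw [this]
      exact div_mem (hKE (trace_mem (htv 0) (htv 2))) hcE
    intro i j
    fin_cases i <;> fin_cases j <;>
      simp only [Fin.zero_eta, Fin.mk_one, Fin.reduceFinMk, hdiag, h01, h12] <;>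
      first
        | exact zero_mem _ | exact one_mem _ | exact e02 | exact h10ne
        | exact h10 ▸ hKE (trace_mem (htv 0) (htv 1)) | exact h21 ▸ hKE (trace_mem (htv 1) (htv 2))
  have hXE : ∀ i, Entries E (cj B (X i)) := fun i a b => by
    rw [hB, vecMulVec_apply]
    refine mul_mem ?_ (hME i b)
    by_cases hai : a = i
    · subst hai; simp
    · simp [hai]
  -- every transvection is defined over `E`
  have hrat : ∀ Y, IsTv P Y → Entries E (cj B Y) := by
    intro Y hY
    obtain ⟨τ, hτ, -⟩ := exists_powHom E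
    have hτK : ∀ x ∈ K, τ x = x := fun x hx => (hτ x).1 (hKE hx)
    have hmap : ∀ W : M3, Entries E W → W.map τ = W := fun W hW => by
      ext i j; exact (hτ _).1 (hW i j)
    set Z := cj B Y with hZ
    have horth : ∀ W : M3, Entries E W → (Z * W).trace ∈ K → ((Z.map τ - Z) * W).trace = 0 := by
      intro W hW hZW
      rw [sub_mul, Matrix.trace_sub]
      have : (Z.map τ * W).trace = τ (Z * W).trace := by
        conv_lhs => rw [← hmap W hW, ← Matrix.map_mul]
        exact (AddMonoidHom.map_trace τ.toAddMonoidHom (Z * W)).symm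
      rw [this, hτK _ hZW, sub_self]
    obtain ⟨u, hu⟩ := scalar_of_orthogonal (y := Z.map τ - Z) hMd hdiag h01 h12 h20' (fun i => cj B (X i)) hB
      (fun i => horth _ (hXE i) (by rw [trace_cj_mul]; exact trace_mem hY (htv i)))
      (fun i j => horth _ (fun a b => sub_mem ((hXE i).mul (hXE j) a b) ((hXE j).mul (hXE i) a b))
        (by rw [← cj_prod, ← cj_prod, ← cj_sub, trace_cj_mul]; exact trace_bracket_mem hY (htv i) (htv j)))
      (fun k i j => horth _ (by
          have hij : Entries E (cj B (X i) * cj B (X j) - cj B (X j) * cj B (X i)) := fun a b =>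
            sub_mem ((hXE i).mul (hXE j) a b) ((hXE j).mul (hXE i) a b)
          exact fun a b => sub_mem ((hXE k).mul hij a b) (hij.mul (hXE k) a b))
        (by simp only [← cj_prod, ← cj_sub]; rw [trace_cj_mul]
            exact trace_bracket_two_mem hY (htv k) (htv i) (htv j)))
    obtain ⟨v, α, -, -, -, hrep⟩ := hY.rep
    have hZrep : Z = vecMulVec (mat B *ᵥ v) (α ᵥ* mat B⁻¹) := by
      rw [hZ, cj, hrep, mul_vecMulVec, vecMulVec_mul]
    obtain ⟨x, hx, hx0⟩ := exists_kernel (τ ∘ (mat B *ᵥ v)) (τ ∘ (α ᵥ* mat B⁻¹)) (-(mat B *ᵥ v)) (α ᵥ* mat B⁻¹)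
    have he : Z.map τ - Z = vecMulVec (τ ∘ (mat B *ᵥ v)) (τ ∘ (α ᵥ* mat B⁻¹)) +
        vecMulVec (-(mat B *ᵥ v)) (α ᵥ* mat B⁻¹) := by
      rw [hZrep, neg_vecMulVec, ← sub_eq_add_neg]
      congr 1
      ext i j; simp [vecMulVec_apply]
    rw [← he, hu, Matrix.smul_mulVec, Matrix.one_mulVec, smul_eq_zero] at hx0
    rw [hx0.resolve_right hx, zero_smul, sub_eq_zero] at hu
    exact fun i j => (hτ _).2 (congrFun (congrFun hu i) j)
  have hEtop : E = ⊤ := by
    by_contra hne
    refine hmin E hne (realisable_mat.2 ⟨B, fun g hg => ?_⟩)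
    rw [← cj_mat]
    rw [← hP.closure_tv hX₁] at hg
    have : Entries E (cj B (mat g)) ∧ Entries E (cj B (mat g⁻¹)) := by
      have h1 : Entries E (1 : M3) := fun i j => by
        rw [Matrix.one_apply]; split_ifs <;> first | exact one_mem _ | exact zero_mem _
      induction hg using Subgroup.closure_induction with
      | mem y hy =>
        have hy1 : mat y = 1 + (mat y - 1) := by abel
        have hcj1 : cj B (1 : M3) = 1 := by rw [cj, mul_one, mat_mul_inv]
        have hXy := hrat _ hy.2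
        refine ⟨?_, ?_⟩
        · rw [show cj B (mat y) = 1 + cj B (mat y - 1) by rw [cj_sub, hcj1]; abel]
          exact fun i j => add_mem (h1 i j) (hXy i j)
        · rw [inv_mat hy.2.2.1 hy1, cj_sub, hcj1]
          exact fun i j => sub_mem (h1 i j) (hXy i j)
      | one => simp only [inv_one, show mat (1 : GL (Fin 3) F) = 1 from Units.val_one, cj, mul_one, mat_mul_inv, h1, and_self]
      | mul a b _ _ ha hb =>
        rw [_root_.mul_inv_rev, mat_mul, mat_mul, cj_prod, cj_prod]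
        exact ⟨ha.1.mul hb.1, hb.2.mul ha.2⟩
      | inv a _ ha => rw [inv_inv]; exact ⟨ha.2, ha.1⟩
    exact this.1
  by_cases hcK : c ∈ K
  · left
    refine eq_top_iff.2 (hEtop ▸ Subfield.closure_le.2 ?_)
    exact Set.insert_subset hcK le_rfl
  right
  obtain ⟨τ, hτ, -⟩ := exists_powHom K
  have hroot : τ c = -c' := by
    have h1 : τ c - τ c' = c - c' := by rw [← map_sub]; exact (hτ _).1 hsub
    have h2 : τ c * τ c' = c * c' := by rw [← map_mul]; exact (hτ _).1 hprod
    have h3 : (τ c - c) * (τ c + c') = 0 := by linear_combination h2 + τ c * h1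
    exact eq_neg_of_add_eq_zero_left ((mul_eq_zero.1 h3).resolve_left fun e => hcK ((hτ _).2 (sub_eq_zero.1 e)))
  have hroot' : τ c' = -c := by
    have h1 : τ c - τ c' = c - c' := by rw [← map_sub]; exact (hτ _).1 hsub
    linear_combination hroot - h1
  have hinvol : ∀ x, τ (τ x) = x := by
    let L : Subfield F := RingHom.eqLocusField (τ.comp τ) (RingHom.id F)
    have : E ≤ L := Subfield.closure_le.2 <| Set.insert_subset
      (show τ (τ c) = c by rw [hroot, map_neg, hroot', neg_neg])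
      (fun x hx => show τ (τ x) = x by rw [(hτ x).1 hx, (hτ x).1 hx])
    exact fun x => (this (hEtop ▸ Subfield.mem_top x) : x ∈ L)
  let σ : F ≃+* F := RingEquiv.ofBijective τ ⟨τ.injective, Finite.surjective_of_injective τ.injective⟩
  have hσ : ∀ x, σ x = τ x := fun x => rfl
  have hc'0 : c' ≠ 0 := fun e => hcK (by have := hsub; rwa [e, sub_zero] at this)
  set a := Mx 1 0 with ha
  set b := Mx 2 1 with hb
  set d := Mx 0 2 with hd
  have hab : a ≠ 0 ∧ b ≠ 0 ∧ d ≠ 0 := by
    have := hcyc ▸ hc'0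
    simp only [mul_ne_zero_iff] at this
    exact ⟨this.2, this.1.2, this.1.1⟩
  have hσa : σ a = a := (hτ a).1 (h10 ▸ trace_mem (htv 0) (htv 1))
  have hσb : σ b = b := (hτ b).1 (h21 ▸ trace_mem (htv 1) (htv 2))
  have hσd : σ d = -(c / (a * b)) := by
    have h1 : σ (d * b * a) = -c := by rw [hcyc]; exact hroot'
    rw [map_mul, map_mul, hσa, hσb] at h1
    field_simp [hab.1, hab.2.1]
    linear_combination h1
  have hσc : σ c = -(d * b * a) := by rw [hcyc]; exact hroot
  set k := c + c' with hk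
  have hσk : σ k = -k := by rw [hk, map_add]; simp only [hσ, hroot, hroot']; ring
  have hk0 : k ≠ 0 := hX.det
  -- the form in the coordinates of the frame
  let G : M3 := k • !![0, -1, c / (a * b); 1, 0, 1 / a; d, -(1 / a), 0]
  have hGd : G.det ≠ 0 := by
    rw [Matrix.det_smul, Matrix.det_fin_three]
    refine mul_ne_zero (pow_ne_zero _ hk0) ?_
    simp only [Matrix.of_apply, Matrix.cons_val', Matrix.cons_val_zero, Matrix.cons_val_one, Matrix.cons_val,
      Matrix.empty_val', Matrix.cons_val_fin_one]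
    intro e
    apply hX.det
    show c + c' = 0
    rw [← hcyc]
    field_simp [hab.1, hab.2.1] at e
    first
      | linear_combination -e
      | linear_combination e
  have hGh : Gᵀ = G.map σ := by
    have h3 : σ (c / (a * b)) = -d := by
      rw [map_div₀, map_mul, hσa, hσb, hσc]
      field_simp [hab.1, hab.2.1]
    have h4 : σ (1 / a) = 1 / a := by rw [map_div₀, map_one, hσa]
    ext i j
    fin_cases i <;> fin_cases j <;>
      simp [G, hσk, h3, h4, hσd, map_mul, map_neg, -one_div] <;> ring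
  let B' := B
  have hsk : ∀ i, (cj B (X i))ᵀ * G + G * (cj B (X i)).map σ = 0 := by
    intro i
    rw [hB]
    ext p q
    rw [Matrix.add_apply, Matrix.mul_apply, Matrix.mul_apply, Fin.sum_univ_three, Fin.sum_univ_three]
    simp only [Matrix.transpose_apply, Matrix.map_apply, vecMulVec_apply]
    fin_cases i <;> fin_cases p <;> fin_cases q <;>
      simp [G, hdiag, h01, h12, h20, ← ha, ← hb, ← hd,
        hσa, hσb, hσd, hσc, -one_div] <;>
      field_simp [hab.1, hab.2.1] <;> ring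
  have hbr : ∀ Y Z : M3, Yᵀ * G + G * Y.map σ = 0 → Zᵀ * G + G * Z.map σ = 0 →
      (Y * Z - Z * Y)ᵀ * G + G * (Y * Z - Z * Y).map σ = 0 := by
    intro Y Z hY hZ
    have hY' := eq_neg_of_add_eq_zero_left hY
    have hZ' := eq_neg_of_add_eq_zero_left hZ
    rw [show (Y * Z - Z * Y).map σ = Y.map σ * Z.map σ - Z.map σ * Y.map σ by
      rw [← Matrix.map_mul, ← Matrix.map_mul, Matrix.map_sub σ (map_sub σ)], Matrix.transpose_sub, Matrix.transpose_mul,
      Matrix.transpose_mul, sub_mul, mul_sub, mul_assoc, hY', mul_neg, ← mul_assoc Zᵀ, hZ', mul_assoc Yᵀ, hZ',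
      mul_neg, ← mul_assoc Yᵀ, hY']
    noncomm_ring
  have hGu : IsUnit G.det := isUnit_iff_ne_zero.2 hGd
  have hσσ : (σ ∘ σ : F → F) = id := funext fun x => hinvol x
  have hskew : ∀ Y, IsTv P Y → (cj B Y)ᵀ * G + G * (cj B Y).map σ = 0 := by
    intro Y hY
    set Z := cj B Y with hZ
    set Yd := G⁻¹ * Zᵀ * G + Z.map σ with hYd
    have horth : ∀ W : M3, Wᵀ * G + G * W.map σ = 0 → (Z * W).trace ∈ K → (Yd.map σ * W).trace = 0 := by
      intro W hW hZW
      have e1 : (Yd.map σ * W).trace = σ (Yd * W.map σ).trace := by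
        rw [show σ (Yd * W.map σ).trace = ((Yd * W.map σ).map σ).trace from
            AddMonoidHom.map_trace σ.toAddMonoidHom (Yd * W.map σ), Matrix.map_mul, Matrix.map_map, hσσ,
          Matrix.map_id]
      have e2 : (Yd * W.map σ).trace = 0 := by
        rw [hYd, add_mul, Matrix.trace_add, mul_assoc, eq_neg_of_add_eq_zero_right hW, mul_neg, mul_assoc G⁻¹,
          Matrix.trace_neg, Matrix.trace_mul_comm, mul_assoc, mul_assoc Wᵀ, Matrix.mul_nonsing_inv _ hGu, mul_one,
          ← Matrix.transpose_mul, Matrix.trace_transpose, Matrix.trace_mul_comm W, ← Matrix.map_mul,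
          show ((Z * W).map σ).trace = σ (Z * W).trace from
            (AddMonoidHom.map_trace σ.toAddMonoidHom (Z * W)).symm,
          show σ (Z * W).trace = (Z * W).trace from (hτ _).1 hZW, neg_add_cancel]
      rw [e1, e2, map_zero]
    obtain ⟨u, hu⟩ := scalar_of_orthogonal (y := Yd.map σ) hMd hdiag h01 h12 h20' (fun i => cj B (X i)) hB
      (fun i => horth _ (hsk i) (by rw [trace_cj_mul]; exact trace_mem hY (htv i)))
      (fun i j => horth _ (hbr _ _ (hsk i) (hsk j))
        (by rw [← cj_prod, ← cj_prod, ← cj_sub, trace_cj_mul]; exact trace_bracket_mem hY (htv i) (htv j)))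
      (fun k i j => horth _ (hbr _ _ (hsk k) (hbr _ _ (hsk i) (hsk j)))
        (by simp only [← cj_prod, ← cj_sub]; rw [trace_cj_mul]
            exact trace_bracket_two_mem hY (htv k) (htv i) (htv j)))
    have hYds : Yd = σ u • (1 : M3) := by
      have h1 := congrArg (fun W : M3 => W.map σ) hu
      simp only [Matrix.map_map, hσσ, Matrix.map_id] at h1
      rw [h1]; ext i j; by_cases hij : i = j <;> simp [hij]
    obtain ⟨v, α, -, -, -, hrep⟩ := hY.rep
    have hZrep : Z = vecMulVec (mat B *ᵥ v) (α ᵥ* mat B⁻¹) := by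
      rw [hZ, cj, hrep, mul_vecMulVec, vecMulVec_mul]
    obtain ⟨x, hx, hx0⟩ := exists_kernel (G⁻¹ *ᵥ (α ᵥ* mat B⁻¹)) ((mat B *ᵥ v) ᵥ* G) (σ ∘ (mat B *ᵥ v))
      (σ ∘ (α ᵥ* mat B⁻¹))
    have he : Yd = vecMulVec (G⁻¹ *ᵥ (α ᵥ* mat B⁻¹)) ((mat B *ᵥ v) ᵥ* G) +
        vecMulVec (σ ∘ (mat B *ᵥ v)) (σ ∘ (α ᵥ* mat B⁻¹)) := by
      rw [hYd, hZrep, transpose_vecMulVec, mul_vecMulVec, vecMulVec_mul]
      congr 1
      ext i j; simp [vecMulVec_apply]
    rw [← he, hYds, Matrix.smul_mulVec, Matrix.one_mulVec, smul_eq_zero] at hx0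
    rw [hx0.resolve_right hx, zero_smul] at hYds
    have h2 := congrArg (fun W => G * W) hYds
    simp only [hYd, mul_add, mul_zero, ← mul_assoc, Matrix.mul_nonsing_inv _ hGu, one_mul] at h2
    exact h2
  refine ⟨σ, act σ G (mat B), hinvol, ?_, fun x => hτ x, ?_, ?_, ?_⟩
  · intro e
    apply hcK
    rw [hτ]
    exact RingEquiv.congr_fun e c
  · rw [det_act]
    exact mul_ne_zero (mul_ne_zero (det_mat_ne_zero B) hGd) ((map_ne_zero σ).2 (det_mat_ne_zero B))
  · simp only [act, Matrix.transpose_mul, Matrix.transpose_transpose, Matrix.map_mul, Matrix.map_map, hσσ,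
      Matrix.map_id, Matrix.transpose_map, hGh]
    rw [mul_assoc]
  · intro g hg
    rw [← hP.closure_tv hX₁] at hg
    induction hg using Subgroup.closure_induction with
    | mem y hy =>
      set Y := mat y - 1 with hYdef
      have hY1 : mat (B * y * B⁻¹) = 1 + cj B Y := by
        rw [← cj_mat, show mat y = 1 + Y by rw [hYdef]; abel, cj, mul_add, add_mul, mul_one, mat_mul_inv]; rfl
      have hs := hskew _ hy.2
      have hsq : (cj B Y)ᵀ * (cj B Y)ᵀ = 0 := by
        rw [← Matrix.transpose_mul, ← cj_prod, hy.2.2.1]; simp [cj]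
      have hG1 : act σ G (mat (B * y * B⁻¹)) = G := by
        rw [act, hY1, Matrix.transpose_add, Matrix.transpose_one, show (1 + cj B Y).map σ = 1 + (cj B Y).map σ by
          ext i j; by_cases hij : i = j <;> simp [hij]]
        have h2 : (cj B Y)ᵀ * G * (cj B Y).map σ = 0 := by
          rw [mul_assoc, eq_neg_of_add_eq_zero_right hs, mul_neg, ← mul_assoc, hsq, zero_mul, neg_zero]
        calc (1 + (cj B Y)ᵀ) * G * (1 + (cj B Y).map σ)
            = G + ((cj B Y)ᵀ * G + G * (cj B Y).map σ) + (cj B Y)ᵀ * G * (cj B Y).map σ := by noncomm_ring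
          _ = G := by rw [hs, h2, add_zero, add_zero]
      rw [← act_mul, show mat B * mat y = mat (B * y * B⁻¹) * mat B by
        rw [← mat_mul, ← mat_mul, inv_mul_cancel_right], act_mul, hG1]
    | one => simp [act, mat]
    | mul p q _ _ hp hq => rw [mat_mul, act_mul, hp, hq]
    | inv p _ hp =>
      conv_lhs => rw [← hp, ← act_mul, mat_mul_inv]
      simp [act]

end Cfsg.Agent.ResidualThree
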