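import Cfsg.Agent.ResidualThree.PairTwo
import Cfsg.Agent.ResidualThree.Frame

/-!
The root groups of the transvections of a group: a linked pair gives a two-dimensional group, and the root
groups are either the whole trace field or very small.
-/

set_option autoImplicit false

namespace Cfsg.Agent.ResidualThree

open Matrix Cfsg.Geo Cfsg.Agent.PrimeDim Cfsg.Agent.RootSub.Dickson
open scoped MatrixGroups

variable {F : Type*} [Field F] {P : Subgroup (GL (Fin 3) F)}

local notation "M3" => Matrix (Fin 3) (Fin 3) F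

theorem two_step {X : M3} (h : X * X = 0) (s t : F) : (1 + s • X) * (1 + t • X) = 1 + (s + t) • X := by
  simp only [add_mul, mul_add, one_mul, mul_one, smul_mul_smul_comm, h, smul_zero, add_zero, add_smul]
  abel

/-- The root group of a transvection. -/
def rset (P : Subgroup (GL (Fin 3) F)) (X : M3) (hX : X * X = 0) : AddSubgroup F where
  carrier := {s | ∃ g ∈ P, mat g = 1 + s • X}
  zero_mem' := ⟨1, one_mem P, by simp [mat]⟩
  add_mem' := fun {a b} ⟨g, hg, hgX⟩ ⟨k, hk, hkX⟩ => ⟨g * k, mul_mem hg hk, by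
    rw [mat_mul, hgX, hkX, two_step hX]⟩
  neg_mem' := fun {a} ⟨g, hg, hgX⟩ => ⟨g⁻¹, inv_mem hg, by
    rw [inv_mat (by rw [smul_mul_smul_comm, hX, smul_zero]) hgX, neg_smul, sub_eq_add_neg]⟩

theorem mem_rset {X : M3} {hX : X * X = 0} {s : F} :
    s ∈ rset P X hX ↔ ∃ g ∈ P, mat g = 1 + s • X := Iff.rfl

theorem IsTv.one_mem_rset {X : M3} (hX : IsTv P X) : (1 : F) ∈ rset P X hX.2.1 := by
  obtain ⟨g, hg, hgX⟩ := hX.2.2
  exact ⟨g, hg, by rw [one_smul]; exact hgX⟩

theorem isTv_smul {X : M3} (hX : IsTv P X) {s : F} (hs : s ∈ rset P X hX.2.1) (hs0 : s ≠ 0) :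
    IsTv P (s • X) := by
  obtain ⟨g, hg, hgX⟩ := hs
  exact ⟨smul_ne_zero hs0 hX.1, by rw [smul_mul_smul_comm, hX.2.1, smul_zero], g, hg, hgX⟩

theorem cj_smul (h : GL (Fin 3) F) (s : F) (X : M3) : cj h (s • X) = s • cj h X := by
  simp [cj, Matrix.mul_smul, Matrix.smul_mul]

theorem rset_cj {X : M3} (hX : IsTv P X) {h : GL (Fin 3) F} (hh : h ∈ P) {hX' : cj h X * cj h X = 0} :
    rset P (cj h X) hX' = rset P X hX.2.1 := by
  have key : ∀ (X : M3) (hh2 : X * X = 0) (h : GL (Fin 3) F), h ∈ P → ∀ {h' : cj h X * cj h X = 0}, ∀ s,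
      s ∈ rset P X hh2 → s ∈ rset P (cj h X) h' := by
    rintro X _ h hh _ s ⟨g, hg, hgX⟩
    refine ⟨h * g * h⁻¹, mul_mem (mul_mem hh hg) (inv_mem hh), ?_⟩
    rw [← cj_mat, hgX, ← cj_smul, cj, mul_add, add_mul, mul_one, mat_mul_inv]
    rfl
  ext s
  constructor
  · intro hs
    have e : cj h⁻¹ (cj h X) = X := by rw [← cj_mul, inv_mul_cancel, cj_one]
    have := key (cj h X) hX' h⁻¹ (inv_mem hh) (h' := by rw [e]; exact hX.2.1) s hs
    simpa only [e] using this
  · exact key X hX.2.1 h hh s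

/-- Root group elements lie in the trace field. -/
theorem Core.rset_le (hP : Core P) {X : M3} (hX : IsTv P X) {s : F} (hs : s ∈ rset P X hX.2.1) :
    s ∈ lamField P := by
  by_cases hs0 : s = 0
  · rw [hs0]; exact zero_mem _
  obtain ⟨h, hh, hl⟩ := hP.exists_linked hX hX
  have h1 := trace_mem (isTv_smul hX hs hs0) (hX.conj hh)
  rw [Matrix.smul_mul, Matrix.trace_smul, smul_eq_mul] at h1
  have h2 := div_mem h1 (trace_mem hX (hX.conj hh))
  rwa [mul_div_cancel_right₀ s hl] at h2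

/-- The matrix units of a linked pair. -/
noncomputable def unitM (X Y : M3) : Fin 2 → Fin 2 → M3 :=
  ![![((X * Y).trace)⁻¹ • (X * Y), X], ![((X * Y).trace)⁻¹ • Y, ((X * Y).trace)⁻¹ • (Y * X)]]

theorem unitM_mul {X Y : M3} (hX : X * X = 0) (hY : Y * Y = 0) (hl : (X * Y).trace ≠ 0) (i j k l : Fin 2) :
    unitM X Y i j * unitM X Y k l = if j = k then unitM X Y i l else 0 := by
  set t := (X * Y).trace with ht
  have hXYX : X * Y * X = t • X := sandwich hX Y
  have hYXY : Y * X * Y = t • Y := by rw [sandwich hY X, Matrix.trace_mul_comm]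
  have a1 : X * (X * Y) = 0 := by rw [← mul_assoc, hX, zero_mul]
  have a2 : Y * (Y * X) = 0 := by rw [← mul_assoc, hY, zero_mul]
  have a3 : X * Y * (X * Y) = t • (X * Y) := by rw [← mul_assoc, hXYX, Matrix.smul_mul]
  have a4 : Y * X * (Y * X) = t • (Y * X) := by rw [← mul_assoc, hYXY, Matrix.smul_mul]
  have a5 : X * Y * (Y * X) = 0 := by rw [mul_assoc, a2, mul_zero]
  have a6 : Y * X * (X * Y) = 0 := by rw [mul_assoc, a1, mul_zero]
  have a7 : X * Y * Y = 0 := by rw [mul_assoc, hY, mul_zero]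
  have a8 : Y * X * X = 0 := by rw [mul_assoc, hX, mul_zero]
  have a9 : X * (Y * X) = t • X := by rw [← mul_assoc, hXYX]
  have a10 : Y * (X * Y) = t • Y := by rw [← mul_assoc, hYXY]
  fin_cases i <;> fin_cases j <;> fin_cases k <;> fin_cases l <;>
    simp [unitM, Matrix.smul_mul, Matrix.mul_smul, smul_smul, hX, hY, hXYX, hYXY, a1, a2, a3, a4, a5, a6, a7, a8,
      a9, a10, ← ht, hl]

/-- The linear extension of the matrix units. -/
noncomputable def emb2 (X Y : M3) (A : Matrix (Fin 2) (Fin 2) F) : M3 := ∑ i, ∑ j, A i j • unitM X Y i j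

theorem emb2_mul {X Y : M3} (hX : X * X = 0) (hY : Y * Y = 0) (hl : (X * Y).trace ≠ 0)
    (A B : Matrix (Fin 2) (Fin 2) F) : emb2 X Y A * emb2 X Y B = emb2 X Y (A * B) := by
  simp only [emb2, Fin.sum_univ_two, mul_add, add_mul, Matrix.smul_mul, Matrix.mul_smul, unitM_mul hX hY hl,
    Matrix.mul_apply, smul_smul, Fin.isValue, one_ne_zero, zero_ne_one, if_true, if_false, smul_zero, add_zero,
    zero_add, add_smul]
  module

theorem emb2_add (X Y : M3) (A B : Matrix (Fin 2) (Fin 2) F) : emb2 X Y (A + B) = emb2 X Y A + emb2 X Y B := by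
  simp only [emb2, Matrix.add_apply, add_smul, Finset.sum_add_distrib]

/-- The two-dimensional group of a linked pair. -/
noncomputable def pairHom {X Y : M3} (hX : X * X = 0) (hY : Y * Y = 0) (hl : (X * Y).trace ≠ 0) :
    SL(2, F) →* M3 where
  toFun g := 1 + emb2 X Y (g.1 - 1)
  map_one' := by simp [emb2]
  map_mul' g h := by
    rw [show (g * h).1 - 1 = (g.1 - 1) + (h.1 - 1) + (g.1 - 1) * (h.1 - 1) by
      rw [Matrix.SpecialLinearGroup.coe_mul]; noncomm_ring, emb2_add, emb2_add, ← emb2_mul hX hY hl]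
    noncomm_ring

theorem pairHom_upR {X Y : M3} (hX : X * X = 0) (hY : Y * Y = 0) (hl : (X * Y).trace ≠ 0) (r : F) :
    pairHom hX hY hl (upR r) = 1 + r • X := by
  show 1 + emb2 X Y _ = _
  simp [emb2, coe_upR, Fin.sum_univ_two, unitM]

theorem pairHom_lowR {X Y : M3} (hX : X * X = 0) (hY : Y * Y = 0) (hl : (X * Y).trace ≠ 0) (r : F) :
    pairHom hX hY hl (lowR r) = 1 + (r / (X * Y).trace) • Y := by
  show 1 + emb2 X Y _ = _
  simp [emb2, coe_lowR, Fin.sum_univ_two, unitM, smul_smul, div_eq_mul_inv]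

/-- The pulled back group. -/
noncomputable def pairGroup (P : Subgroup (GL (Fin 3) F)) {X Y : M3} (hX : X * X = 0) (hY : Y * Y = 0)
    (hl : (X * Y).trace ≠ 0) : Subgroup SL(2, F) :=
  P.comap ((pairHom hX hY hl).toHomUnits)

theorem upSet_pair {X Y : M3} (hX : X * X = 0) (hY : Y * Y = 0) (hl : (X * Y).trace ≠ 0) {s : F} :
    s ∈ upSet (pairGroup P hX hY hl) ↔ s ∈ rset P X hX := by
  constructor
  · intro h
    exact ⟨_, h, pairHom_upR hX hY hl s⟩
  · rintro ⟨g, hg, hgX⟩
    show (pairHom hX hY hl).toHomUnits (upR s) ∈ P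
    rwa [show (pairHom hX hY hl).toHomUnits (upR s) = g from
      Units.ext ((pairHom_upR hX hY hl s).trans hgX.symm)]

theorem lowSet_pair {X Y : M3} (hX : X * X = 0) (hY : Y * Y = 0) (hl : (X * Y).trace ≠ 0) {r : F} :
    r * (X * Y).trace ∈ lowSet (pairGroup P hX hY hl) ↔ r ∈ rset P Y hY := by
  have e := pairHom_lowR hX hY hl (r * (X * Y).trace)
  rw [mul_div_cancel_right₀ r hl] at e
  constructor
  · intro h
    exact ⟨_, h, e⟩
  · rintro ⟨g, hg, hgY⟩
    show (pairHom hX hY hl).toHomUnits (lowR (r * (X * Y).trace)) ∈ P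
    rwa [show (pairHom hX hY hl).toHomUnits (lowR (r * (X * Y).trace)) = g from Units.ext (e.trans hgY.symm)]

/-- The root group is at most the prime field of three elements. -/
def SmallRoot (P : Subgroup (GL (Fin 3) F)) (X : M3) (hX : X * X = 0) : Prop :=
  ∀ a ∈ rset P X hX, a = 0 ∨ a = 1 ∨ a = -1

theorem SmallRoot.eq {X Y : M3} {hX : X * X = 0} {hY : Y * Y = 0} (h : SmallRoot P X hX)
    (he : rset P X hX = rset P Y hY) : SmallRoot P Y hY := fun a ha => h a (he ▸ ha)

variable [Finite F]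

/-- One side of a linked pair in odd characteristic: the root group is a field, and either it contains the
parameter and feeds the other root group, or it is small. -/
theorem side_cases (h2 : (2 : F) ≠ 0) {A B : M3} (hA : IsTv P A) (hB : IsTv P B) (hl : (A * B).trace ≠ 0) :
    (∀ a ∈ rset P A hA.2.1, ∀ b ∈ rset P A hA.2.1, a * b ∈ rset P A hA.2.1) ∧
      ((A * B).trace ∈ rset P A hA.2.1 ∧
          (∀ a ∈ rset P A hA.2.1, a ≠ 0 → ¬ ((3 : F) = 0 ∧ (a * (A * B).trace) ^ 2 = -1) →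
            a * (A * B).trace ∈ rset P B hB.2.1) ∨
        (3 : F) = 0 ∧ (A * B).trace ^ 2 = -1 ∧ SmallRoot P A hA.2.1) := by
  have h1 : (1 : F) ∈ upSet (pairGroup P hA.2.1 hB.2.1 hl) := (upSet_pair _ _ _).2 hA.one_mem_rset
  have hlow : (A * B).trace ∈ lowSet (pairGroup P hA.2.1 hB.2.1 hl) := by
    simpa using (lowSet_pair hA.2.1 hB.2.1 hl).2 hB.one_mem_rset
  obtain ⟨hmul, hcase⟩ := odd_field h2 _ hl h1 hlow
  refine ⟨fun a ha b hb => (upSet_pair _ _ hl).1 (hmul a ((upSet_pair _ _ hl).2 ha) b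
    ((upSet_pair _ _ hl).2 hb)), ?_⟩
  rcases hcase with ⟨ht, h⟩ | ⟨h3, hb, hs⟩
  · exact Or.inl ⟨(upSet_pair _ _ hl).1 ht, fun a ha ha0 hne =>
      (lowSet_pair hA.2.1 hB.2.1 hl).1 (h a ((upSet_pair _ _ hl).2 ha) ha0 hne)⟩
  · exact Or.inr ⟨h3, hb, fun a ha => hs a ((upSet_pair _ _ hl).2 ha)⟩

/-- A side containing the parameter cannot face a small side. -/
theorem side_not_mixed (h2 : (2 : F) ≠ 0) {A B : M3} {hA : A * A = 0} {hB : B * B = 0} {t : F}
    (h3 : (3 : F) = 0) (ht : t ^ 2 = -1) (h1 : (1 : F) ∈ rset P A hA) (htA : t ∈ rset P A hA)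
    (h : ∀ a ∈ rset P A hA, a ≠ 0 → ¬ ((3 : F) = 0 ∧ (a * t) ^ 2 = -1) → a * t ∈ rset P B hB)
    (hs : SmallRoot P B hB) : False := by
  have ht0 : t ≠ 0 := fun e => one_ne_zero (α := F) (by linear_combination ht - t * e)
  have htm : t + 1 ≠ 0 := fun e => h2 (by linear_combination ht - (t - 1) * e)
  have hne : ¬ ((3 : F) = 0 ∧ ((t + 1) * t) ^ 2 = -1) := by
    rintro ⟨-, he⟩
    exact htm (by linear_combination he - (t ^ 2 + 2 * t) * ht + t * h3)
  rcases hs _ (h _ (add_mem htA h1) htm hne) with e | e | e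
  · exact mul_ne_zero htm ht0 e
  · exact htm (by linear_combination e - ht + h3)
  · exact ht0 (by linear_combination e - ht)

/-- The parameter side contains every root group element of the side feeding it. -/
theorem side_incl {A B : M3} {hA : A * A = 0} {hB : B * B = 0} {t : F} (ht0 : t ≠ 0)
    (h1A : (1 : F) ∈ rset P A hA) (h1B : (1 : F) ∈ rset P B hB) (htB : t ∈ rset P B hB)
    (hm : ∀ a ∈ rset P B hB, ∀ b ∈ rset P B hB, a * b ∈ rset P B hB)
    (h : ∀ a ∈ rset P A hA, a ≠ 0 → ¬ ((3 : F) = 0 ∧ (a * t) ^ 2 = -1) → a * t ∈ rset P B hB) :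
    rset P A hA ≤ rset P B hB := by
  have htinv : t⁻¹ ∈ rset P B hB := by
    haveI : Fintype F := Fintype.ofFinite F
    have hpow : ∀ n : ℕ, t ^ n ∈ rset P B hB := by
      intro n
      induction n with
      | zero => rw [pow_zero]; exact h1B
      | succ n ih => rw [pow_succ]; exact hm _ ih _ htB
    have h3 := FiniteField.pow_card_sub_one_eq_one t ht0
    have hcard : 2 ≤ Fintype.card F := Fintype.one_lt_card
    have e : t⁻¹ = t ^ (Fintype.card F - 2) := by
      rw [show Fintype.card F - 1 = Fintype.card F - 2 + 1 by omega, pow_succ] at h3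
      exact inv_eq_of_mul_eq_one_left h3
    exact e ▸ hpow _
  have good : ∀ a ∈ rset P A hA, a ≠ 0 → ¬ ((3 : F) = 0 ∧ (a * t) ^ 2 = -1) → a ∈ rset P B hB :=
    fun a ha ha0 hne => by
      have := hm _ (h a ha ha0 hne) _ htinv
      rwa [mul_inv_cancel_right₀ ht0] at this
  intro a ha
  by_cases ha0 : a = 0
  · rw [ha0]; exact zero_mem _
  by_cases hexc : (3 : F) = 0 ∧ (a * t) ^ 2 = -1
  swap
  · exact good a ha ha0 hexc
  by_cases ha1 : a + 1 = 0
  · rw [eq_neg_of_add_eq_zero_left ha1]; exact neg_mem h1B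
  by_cases hexc1 : (3 : F) = 0 ∧ ((a + 1) * t) ^ 2 = -1
  · have h4 : (2 * a + 1) * t ^ 2 = 0 := by linear_combination hexc1.2 - hexc.2
    have h5 := (mul_eq_zero.1 h4).resolve_right (pow_ne_zero 2 ht0)
    rw [show a = 1 by linear_combination (-1 : F) * h5 + a * hexc.1]
    exact h1B
  · have := sub_mem (good _ (add_mem ha h1A) ha1 hexc1) h1B
    rwa [add_sub_cancel_right] at this

/-- The alternatives for a linked pair. -/
theorem pair_cases {X Y : M3} (hX : IsTv P X) (hY : IsTv P Y) (hl : (X * Y).trace ≠ 0) :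
    rset P X hX.2.1 = rset P Y hY.2.1 ∧
        (∀ a ∈ rset P X hX.2.1, ∀ b ∈ rset P X hX.2.1, a * b ∈ rset P X hX.2.1) ∧
        ((X * Y).trace ∈ rset P X hX.2.1 ∨ (2 : F) = 0 ∧ SmallRoot P X hX.2.1) ∨
      (3 : F) = 0 ∧ (X * Y).trace ^ 2 = -1 ∧ SmallRoot P X hX.2.1 ∧ SmallRoot P Y hY.2.1 := by
  set t := (X * Y).trace with ht
  have hl' : (Y * X).trace ≠ 0 := by rwa [Matrix.trace_mul_comm]
  have ht' : (Y * X).trace = t := Matrix.trace_mul_comm Y X
  by_cases h2 : (2 : F) = 0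
  · set D := pairGroup P hX.2.1 hY.2.1 hl with hD
    have h1 : (1 : F) ∈ upSet D := (upSet_pair _ _ _).2 hX.one_mem_rset
    have hlow : t ∈ lowSet D := by simpa using (lowSet_pair hX.2.1 hY.2.1 hl).2 hY.one_mem_rset
    obtain ⟨⟨d, hd, hde⟩, hmul, hcase⟩ := two_field h2 D hl h1 hlow
    refine Or.inl ⟨?_, fun a ha b hb => (upSet_pair _ _ hl).1 (hmul a ((upSet_pair _ _ hl).2 ha) b
      ((upSet_pair _ _ hl).2 hb)), ?_⟩
    · -- the conjugating element carries one transvection to the other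
      obtain ⟨g, hg, hgd⟩ : ∃ g ∈ P, mat g = pairHom hX.2.1 hY.2.1 hl d := ⟨_, hd, rfl⟩
      have hginv : mat g⁻¹ = pairHom hX.2.1 hY.2.1 hl d⁻¹ := by
        have e : mat g * pairHom hX.2.1 hY.2.1 hl d⁻¹ = 1 := by rw [hgd, ← map_mul, mul_inv_cancel, map_one]
        calc mat g⁻¹ = mat g⁻¹ * (mat g * pairHom hX.2.1 hY.2.1 hl d⁻¹) := by rw [e, mul_one]
          _ = pairHom hX.2.1 hY.2.1 hl d⁻¹ := by
            rw [← mul_assoc, ← mat_mul, inv_mul_cancel, show mat (1 : GL (Fin 3) F) = 1 from Units.val_one,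
              one_mul]
      have hcj : cj g X = Y := by
        have h3 := congrArg (pairHom hX.2.1 hY.2.1 hl) hde
        rw [map_mul, map_mul, pairHom_upR, pairHom_lowR, one_smul, ← ht, div_self hl, one_smul, ← hgd,
          ← hginv, mul_add, add_mul, mul_one, mat_mul_inv] at h3
        exact add_left_cancel h3
      subst hcj
      exact (rset_cj hX hg).symm
    · rcases hcase with h | h
      · exact Or.inr ⟨h2, fun a ha => (h a ((upSet_pair _ _ hl).2 ha)).imp id Or.inl⟩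
      · exact Or.inl ((upSet_pair _ _ hl).1 h)
  · obtain ⟨hmulX, hcX⟩ := side_cases h2 hX hY hl
    obtain ⟨hmulY, hcY⟩ := side_cases h2 hY hX hl'
    rw [ht'] at hcY
    rw [← ht] at hcX
    rcases hcX with ⟨htX, hfX⟩ | ⟨h3, hb, hsX⟩
    · rcases hcY with ⟨htY, hfY⟩ | ⟨h3, hb, hsY⟩
      · exact Or.inl ⟨le_antisymm (side_incl hl hX.one_mem_rset hY.one_mem_rset htY hmulY hfX)
          (side_incl hl hY.one_mem_rset hX.one_mem_rset htX hmulX hfY), hmulX, Or.inl htX⟩
      · exact (side_not_mixed h2 h3 hb hX.one_mem_rset htX hfX hsY).elim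
    · rcases hcY with ⟨htY, hfY⟩ | ⟨_, _, hsY⟩
      · exact (side_not_mixed h2 h3 hb hY.one_mem_rset htY hfY hsX).elim
      · exact Or.inr ⟨h3, hb, hsX, hsY⟩

/-- A multiplicatively closed root group with all traces of products contains the trace field. -/
theorem lamField_le {X : M3} (hX : IsTv P X)
    (hm : ∀ a ∈ rset P X hX.2.1, ∀ b ∈ rset P X hX.2.1, a * b ∈ rset P X hX.2.1)
    (ht : ∀ A B : M3, IsTv P A → IsTv P B → (A * B).trace ∈ rset P X hX.2.1) {s : F} (hs : s ∈ lamField P) :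
    s ∈ rset P X hX.2.1 := by
  haveI : Fintype F := Fintype.ofFinite F
  let R : Subfield F :=
    { carrier := rset P X hX.2.1
      zero_mem' := zero_mem _
      one_mem' := hX.one_mem_rset
      add_mem' := fun ha hb => add_mem ha hb
      neg_mem' := fun ha => neg_mem ha
      mul_mem' := fun ha hb => hm _ ha _ hb
      inv_mem' := fun a ha => by
        change a⁻¹ ∈ rset P X hX.2.1
        by_cases ha0 : a = 0
        · rw [ha0, _root_.inv_zero]; exact zero_mem _
        have hpow : ∀ n : ℕ, a ^ n ∈ rset P X hX.2.1 := by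
          intro n
          induction n with
          | zero => rw [pow_zero]; exact hX.one_mem_rset
          | succ n ih => rw [pow_succ]; exact hm _ ih _ ha
        have h3 := FiniteField.pow_card_sub_one_eq_one a ha0
        have hcard : 2 ≤ Fintype.card F := Fintype.one_lt_card
        rw [show Fintype.card F - 1 = Fintype.card F - 2 + 1 by omega, pow_succ] at h3
        exact inv_eq_of_mul_eq_one_left h3 ▸ hpow _ }
  have hle : lamField P ≤ R := Subfield.closure_le.2 fun x hx => by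
    obtain ⟨A, B, hA, hB, rfl⟩ := hx
    exact ht A B hA hB
  exact hle hs

/-- The root groups of all transvections are the trace field, or all of them are very small. -/
theorem Core.rset_cases (hP : Core P) :
    (∀ (X : M3) (hX : IsTv P X), ∀ s ∈ lamField P, s ∈ rset P X hX.2.1) ∨
      ((2 : F) = 0 ∧ ∀ (X : M3) (hX : IsTv P X), ∀ a ∈ rset P X hX.2.1, a = 0 ∨ a = 1) ∨
      ((3 : F) = 0 ∧ (∀ (X : M3) (hX : IsTv P X), SmallRoot P X hX.2.1) ∧
        ∃ X Y : M3, IsTv P X ∧ IsTv P Y ∧ (X * Y).trace ^ 2 = -1) := by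
  by_cases hbig : ∃ (X : M3) (hX : IsTv P X), ¬ SmallRoot P X hX.2.1
  · left
    obtain ⟨X₀, hX₀, hns⟩ := hbig
    -- every root group is the one of `X₀`
    have key : ∀ (Y : M3) (hY : IsTv P Y), (X₀ * Y).trace ≠ 0 →
        rset P Y hY.2.1 = rset P X₀ hX₀.2.1 ∧
          (∀ a ∈ rset P X₀ hX₀.2.1, ∀ b ∈ rset P X₀ hX₀.2.1, a * b ∈ rset P X₀ hX₀.2.1) := fun Y hY hl => by
      rcases pair_cases hX₀ hY hl with ⟨he, hm, -⟩ | ⟨-, -, hs, -⟩
      · exact ⟨he.symm, hm⟩
      · exact absurd hs hns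
    have hall : ∀ (Y : M3) (hY : IsTv P Y), rset P Y hY.2.1 = rset P X₀ hX₀.2.1 ∧
        (∀ a ∈ rset P X₀ hX₀.2.1, ∀ b ∈ rset P X₀ hX₀.2.1, a * b ∈ rset P X₀ hX₀.2.1) := fun Y hY => by
      obtain ⟨h, hh, hl⟩ := hP.exists_linked hY hX₀
      have := key _ (hY.conj hh) hl
      rwa [rset_cj hY hh] at this
    intro X hX s hs
    rw [(hall X hX).1]
    refine lamField_le hX₀ (hall X₀ hX₀).2 (fun A B hA hB => ?_) hs
    by_cases h0 : (A * B).trace = 0
    · rw [h0]; exact zero_mem _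
    rcases pair_cases hA hB h0 with ⟨-, -, h | ⟨-, h⟩⟩ | ⟨-, -, h, -⟩
    · rwa [(hall A hA).1] at h
    · exact absurd (h.eq (hall A hA).1) hns
    · exact absurd (h.eq (hall A hA).1) hns
  push Not at hbig
  by_cases h2 : (2 : F) = 0
  · refine Or.inr (Or.inl ⟨h2, fun X hX a ha => ?_⟩)
    rcases hbig X hX a ha with e | e | e
    · exact Or.inl e
    · exact Or.inr e
    · exact Or.inr (by linear_combination e - h2)
  by_cases hex : ∃ X Y : M3, IsTv P X ∧ IsTv P Y ∧ (X * Y).trace ^ 2 = -1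
  · obtain ⟨X, Y, hX, hY, he⟩ := hex
    refine Or.inr (Or.inr ⟨?_, hbig, X, Y, hX, hY, he⟩)
    rcases hbig X hX _ (add_mem hX.one_mem_rset hX.one_mem_rset) with e | e | e
    · exact absurd (by linear_combination e) h2
    · exact absurd (by linear_combination e) (one_ne_zero (α := F))
    · linear_combination e
  left
  push Not at hex
  have hsmall : ∀ A B : M3, IsTv P A → IsTv P B →
      (A * B).trace = 0 ∨ (A * B).trace = 1 ∨ (A * B).trace = -1 := fun A B hA hB => by
    by_cases h0 : (A * B).trace = 0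
    · exact Or.inl h0
    rcases pair_cases hA hB h0 with ⟨-, -, h | ⟨h, -⟩⟩ | ⟨-, h, -, -⟩
    · exact hbig A hA _ h
    · exact absurd h h2
    · exact absurd h (hex A B hA hB)
  intro X hX s hs
  refine lamField_le hX (fun a ha b hb => ?_) (fun A B hA hB => ?_) hs
  · rcases hbig X hX a ha with e | e | e
    · rw [e, zero_mul]; exact zero_mem _
    · rw [e, one_mul]; exact hb
    · rw [e, neg_one_mul]; exact neg_mem hb
  · rcases hsmall A B hA hB with e | e | e <;> rw [e]
    · exact zero_mem _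
    · exact hX.one_mem_rset
    · exact neg_mem hX.one_mem_rset

end Cfsg.Agent.ResidualThree
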