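import Cfsg.Agent.ResidualThree.FieldR
import Cfsg.Agent.ClassicalMax.Generic
import Cfsg.Agent.ClassicalMax.SU3.Base

/-!
Full root groups: the special linear or special unitary group, and non-commuting elements of `p`-power order.
-/

set_option autoImplicit false

namespace Cfsg.Agent.ResidualThree

open Matrix Cfsg.Geo Cfsg.Agent.PrimeDim Module
open Cfsg.Agent.ClassicalMax (glEquiv glEquiv_apply tvec tvec_apply)
open scoped MatrixGroups

variable {F : Type*} [Field F] [Finite F] {P : Subgroup (GL (Fin 3) F)}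

local notation "G3" => GL (Fin 3) F
local notation "M3" => Matrix (Fin 3) (Fin 3) F

/-- Two non-commuting elements generating an `r`-group. -/
def HasNonab (P : Subgroup G3) (r : ℕ) : Prop :=
  ∃ g ∈ P, ∃ k ∈ P, g * k ≠ k * g ∧ IsPGroup r (Subgroup.closure ({g, k} : Set G3))

theorem isPGroup_unipotent (p : ℕ) [Fact p.Prime] [CharP F p] (W L : Submodule F (Fin 3 → F)) (hLW : L ≤ W)
    (S : Set G3) (h : ∀ g ∈ S, (∀ x, mat g *ᵥ x - x ∈ W) ∧ (∀ x ∈ W, mat g *ᵥ x - x ∈ L) ∧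
      ∀ x ∈ L, mat g *ᵥ x = x) : IsPGroup p (Subgroup.closure S) := by
  let C : G3 → Prop := fun g => (∀ x, mat g *ᵥ x - x ∈ W) ∧ (∀ x ∈ W, mat g *ᵥ x - x ∈ L) ∧
    ∀ x ∈ L, mat g *ᵥ x = x
  have h1 : C 1 := by
    refine ⟨fun x => ?_, fun x _ => ?_, fun x _ => ?_⟩ <;>
      simp [mat]
  have hmul : ∀ a b, C a → C b → C (a * b) := by
    intro a b ha hb
    have e : ∀ x, mat (a * b) *ᵥ x - x = mat a *ᵥ (mat b *ᵥ x - x) + (mat a *ᵥ x - x) := fun x => by
      rw [mat_mul, ← Matrix.mulVec_mulVec, Matrix.mulVec_sub]; abel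
    have hW : ∀ y ∈ W, mat a *ᵥ y ∈ W := fun y hy => by
      have := add_mem (hLW (ha.2.1 y hy)) hy
      rwa [sub_add_cancel] at this
    refine ⟨fun x => ?_, fun x hx => ?_, fun x hx => ?_⟩
    · rw [e]; exact add_mem (hW _ (hb.1 x)) (ha.1 x)
    · rw [e, ha.2.2 _ (hb.2.1 x hx)]; exact add_mem (hb.2.1 x hx) (ha.2.1 x hx)
    · rw [mat_mul, ← Matrix.mulVec_mulVec, hb.2.2 x hx, ha.2.2 x hx]
  let U : Subgroup G3 :=
    { carrier := {g | C g}
      one_mem' := h1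
      mul_mem' := fun {a b} ha hb => hmul a b ha hb
      inv_mem' := fun {a} ha => by
        have hpow : ∀ n : ℕ, C (a ^ n) := fun n => by
          induction n with
          | zero => rw [pow_zero]; exact h1
          | succ n ih => rw [pow_succ]; exact hmul _ _ ih ha
        have hpos := orderOf_pos a
        have e : a⁻¹ = a ^ (orderOf a - 1) := inv_eq_of_mul_eq_one_right (by
          rw [← pow_succ', show orderOf a - 1 + 1 = orderOf a by omega, pow_orderOf_eq_one])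
        show C a⁻¹
        rw [e]
        exact hpow _ }
  intro g
  refine ⟨2, Subtype.ext ?_⟩
  have hg : C g.1 := (Subgroup.closure_le (K := U)).2 (fun x hx => h x hx) g.2
  set N := mat g.1 - 1 with hN
  have hNx : ∀ x, N *ᵥ x = mat g.1 *ᵥ x - x := fun x => by rw [hN, Matrix.sub_mulVec, Matrix.one_mulVec]
  have hN3 : N ^ 3 = 0 := by
    refine Matrix.ext_of_mulVec_single fun i => ?_
    rw [pow_succ, pow_two, ← Matrix.mulVec_mulVec, ← Matrix.mulVec_mulVec, hNx, hNx, hNx, Matrix.zero_mulVec,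
      hg.2.2 _ (hg.2.1 _ (hg.1 _)), sub_self]
  refine Units.ext ?_
  rw [SubgroupClass.coe_pow, OneMemClass.coe_one, Units.val_pow_eq_pow_val, Units.val_one]
  show mat g.1 ^ p ^ 2 = 1
  rw [show mat g.1 = 1 + N by rw [hN, add_sub_cancel], add_pow_char_pow_of_commute p 2 (Commute.one_left N),
    one_pow]
  have h4 : 3 ≤ p ^ 2 := le_trans (by norm_num) (Nat.pow_le_pow_left (Fact.out : p.Prime).two_le 2)
  rw [pow_eq_zero_of_le h4 hN3, add_zero]

/-- A covector flag from three transvections. -/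
theorem Core.exists_two_axes (hP : Core P) {X₁ : M3} (hX₁ : IsTv P X₁)
    (hfull : ∀ (X : M3) (hX : IsTv P X), ∀ s : F, s ∈ rset P X hX.2.1) :
    ∃ u γ δ : Fin 3 → F, u ≠ 0 ∧ γ ⬝ᵥ u = 0 ∧ δ ⬝ᵥ u = 0 ∧ LinearIndependent F ![γ, δ] ∧
      IsTv P (vecMulVec u γ) ∧ IsTv P (vecMulVec u δ) ∧
      ∃ A B : M3, IsTv P A ∧ IsTv P B ∧ A * B ≠ B * A ∧
        ∃ W L : Submodule F (Fin 3 → F), L ≤ W ∧ (∀ x, A *ᵥ x ∈ W ∧ B *ᵥ x ∈ W) ∧
          (∀ x ∈ W, A *ᵥ x ∈ L ∧ B *ᵥ x ∈ L) ∧ ∀ x ∈ L, A *ᵥ x = 0 ∧ B *ᵥ x = 0 := by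
  obtain ⟨h, hh, hl⟩ := hP.exists_linked hX₁ hX₁
  have hX₂ := hX₁.conj hh
  obtain ⟨X₃, hX₃, hd⟩ := hP.exists_third hX₁ hX₂ hl
  have hsm : ∀ (X : M3), IsTv P X → ∀ s : F, s ≠ 0 → IsTv P (s • X) := fun X hX s hs =>
    isTv_smul hX (hfull X hX s) hs
  obtain ⟨v₂, α₂, hv₂, hα₂, h22, e₂⟩ := hX₂.rep
  rw [e₂] at hl hd hX₂
  clear e₂
  obtain ⟨v₁, α₁, hv₁, hα₁, h11, rfl⟩ := hX₁.rep
  obtain ⟨v₃, α₃, hv₃, hα₃, h33, rfl⟩ := hX₃.rep
  rw [trace_pair] at hl
  rw [trace_triple, trace_triple] at hd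
  obtain ⟨h12, h21⟩ := mul_ne_zero_iff.1 hl
  set p := (α₃ ⬝ᵥ v₂) • v₁ - (α₃ ⬝ᵥ v₁) • v₂ with hp
  set γ := ((α₃ ⬝ᵥ v₂) * (α₂ ⬝ᵥ v₁)) • α₁ + ((α₃ ⬝ᵥ v₁) * (α₁ ⬝ᵥ v₂)) • α₂ with hγ
  have hαp : α₃ ⬝ᵥ p = 0 := by
    rw [hp, dotProduct_sub, dotProduct_smul, dotProduct_smul, smul_eq_mul, smul_eq_mul]; ring
  have hγp : γ ⬝ᵥ p = 0 := by
    rw [hγ, hp]
    simp only [dotProduct_sub, dotProduct_smul, add_dotProduct, smul_dotProduct, h11, h22, smul_eq_mul]
    ring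
  have hγ3 : γ ⬝ᵥ v₃ ≠ 0 := by
    intro e
    apply hd
    rw [hγ, add_dotProduct, smul_dotProduct, smul_dotProduct, smul_eq_mul, smul_eq_mul] at e
    linear_combination e
  have hp0 : p ≠ 0 := by
    intro e
    have e1 := congrArg (fun u => α₂ ⬝ᵥ u) e
    have e2 := congrArg (fun u => α₁ ⬝ᵥ u) e
    simp only [hp, dotProduct_sub, dotProduct_smul, h11, h22, dotProduct_zero, smul_eq_mul, mul_zero, sub_zero,
      zero_sub, neg_eq_zero, mul_eq_zero, h12, h21, or_false] at e1 e2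
    exact hd (by rw [e1, e2]; ring)
  have hB : IsTv P (vecMulVec p γ) := by
    by_cases h32 : α₃ ⬝ᵥ v₂ = 0
    · have h31 : α₃ ⬝ᵥ v₁ ≠ 0 := fun e => hp0 (by rw [hp, h32, e]; simp)
      have : vecMulVec p γ = (-((α₃ ⬝ᵥ v₁) * ((α₃ ⬝ᵥ v₁) * (α₁ ⬝ᵥ v₂)))) • vecMulVec v₂ α₂ := by
        rw [hp, hγ, h32]
        ext i j
        simp [vecMulVec_apply]
        ring
      rw [this]
      exact hsm _ hX₂ _ (neg_ne_zero.2 (mul_ne_zero h31 (mul_ne_zero h31 h12)))
    by_cases h31 : α₃ ⬝ᵥ v₁ = 0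
    · have : vecMulVec p γ = ((α₃ ⬝ᵥ v₂) * ((α₃ ⬝ᵥ v₂) * (α₂ ⬝ᵥ v₁))) • vecMulVec v₁ α₁ := by
        rw [hp, hγ, h31]
        ext i j
        simp [vecMulVec_apply]
        ring
      rw [this]
      exact hsm _ hX₁ _ (mul_ne_zero h32 (mul_ne_zero h32 h21))
    set s := -(α₃ ⬝ᵥ v₁) / ((α₃ ⬝ᵥ v₂) * (α₂ ⬝ᵥ v₁)) with hs
    have hs0 : s ≠ 0 := div_ne_zero (neg_ne_zero.2 h31) (mul_ne_zero h32 h21)
    have hmv := (hsm _ hX₂ s hs0).move hX₁
    have : vecMulVec p γ = ((α₃ ⬝ᵥ v₂) * ((α₃ ⬝ᵥ v₂) * (α₂ ⬝ᵥ v₁))) •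
        (vecMulVec v₁ α₁ + (s • vecMulVec v₂ α₂ * vecMulVec v₁ α₁ - vecMulVec v₁ α₁ * (s • vecMulVec v₂ α₂)) -
          (s • vecMulVec v₂ α₂ * vecMulVec v₁ α₁).trace • (s • vecMulVec v₂ α₂)) := by
      simp only [Matrix.smul_mul, Matrix.mul_smul, vecMulVec_mul_vecMulVec, Matrix.trace_smul, trace_vecMulVec,
        dotProduct_smul, smul_eq_mul]
      have hs' : s * ((α₃ ⬝ᵥ v₂) * (α₂ ⬝ᵥ v₁)) = -(α₃ ⬝ᵥ v₁) :=
        div_mul_cancel₀ _ (mul_ne_zero h32 h21)
      rw [show α₃ ⬝ᵥ v₁ = -(s * ((α₃ ⬝ᵥ v₂) * (α₂ ⬝ᵥ v₁))) by rw [hs', neg_neg]] at hp hγ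
      rw [hp, hγ, dotProduct_comm v₂ α₁]
      ext i j
      simp [vecMulVec_apply]
      ring
    rw [this]
    exact hsm _ hmv _ (mul_ne_zero h32 (mul_ne_zero h32 h21))
  -- the commutator
  have hAB : vecMulVec v₃ α₃ * vecMulVec p γ = 0 := by
    rw [vecMulVec_mul_vecMulVec, hαp, zero_smul, vecMulVec_zero]
  have hBA : vecMulVec p γ * vecMulVec v₃ α₃ = (γ ⬝ᵥ v₃) • vecMulVec p α₃ := by
    rw [vecMulVec_mul_vecMulVec, vecMulVec_smul]
  have hC : IsTv P (-((γ ⬝ᵥ v₃) • vecMulVec p α₃)) := by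
    obtain ⟨g, hg, hge⟩ := hX₃.2.2
    obtain ⟨k, hk, hke⟩ := hB.2.2
    have hne : vecMulVec p α₃ ≠ 0 := by
      obtain ⟨i, hi⟩ : ∃ i, p i ≠ 0 := Function.ne_iff.1 hp0
      obtain ⟨j, hj⟩ : ∃ j, α₃ j ≠ 0 := Function.ne_iff.1 hα₃
      intro e
      exact mul_ne_zero hi hj (by simpa [vecMulVec_apply] using congrFun (congrFun e i) j)
    refine ⟨neg_ne_zero.2 (smul_ne_zero hγ3 hne), ?_, g * k * g⁻¹ * k⁻¹,
      mul_mem (mul_mem (mul_mem hg hk) (inv_mem hg)) (inv_mem hk), ?_⟩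
    · rw [neg_mul_neg, smul_mul_smul_comm, vecMulVec_mul_self hαp, smul_zero]
    · rw [mat_mul, mat_mul, mat_mul, hge, hke, inv_mat hX₃.2.1 hge, inv_mat hB.2.1 hke]
      set A := vecMulVec v₃ α₃
      set B := vecMulVec p γ
      rw [← hBA]
      have hA2 : A * A = 0 := hX₃.2.1
      have hB2 : B * B = 0 := hB.2.1
      have e : (1 + A) * (1 + B) * (1 - A) * (1 - B) =
          1 - B * A - A * A - B * B + A * B - A * B * A - A * B * B + A * A * B + B * A * B + A * B * A * B := by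
        noncomm_ring
      rw [e, hA2, hB2, hAB, zero_mul, zero_mul, sub_zero, sub_zero, add_zero, sub_zero, sub_zero, add_zero,
        mul_assoc B A B, hAB, mul_zero, add_zero]
      simp [sub_eq_add_neg]
  have hD : IsTv P (vecMulVec p α₃) := by
    have := hsm _ hC (-(γ ⬝ᵥ v₃)⁻¹) (neg_ne_zero.2 (inv_ne_zero hγ3))
    rwa [neg_smul, smul_neg, neg_neg, smul_smul, inv_mul_cancel₀ hγ3, one_smul] at this
  have hli : LinearIndependent F ![γ, α₃] := by
    rw [LinearIndependent.pair_iff]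
    intro s t hst
    have e1 := congrArg (fun u : Fin 3 → F => u ⬝ᵥ v₃) hst
    simp [add_dotProduct, h33, hγ3] at e1
    refine ⟨e1, ?_⟩
    rw [e1, zero_smul, zero_add, smul_eq_zero] at hst
    exact hst.resolve_right hα₃
  refine ⟨p, γ, α₃, hp0, hγp, hαp, hli, hB, hD, vecMulVec v₃ α₃, vecMulVec p γ, hX₃, hB, ?_, dker α₃,
    Submodule.span F {p}, Submodule.span_le.2 (Set.singleton_subset_iff.2 (mem_dker.2 hαp)), fun x => ⟨?_, ?_⟩,
    fun x hx => ⟨?_, ?_⟩, fun x hx => ?_⟩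
  · intro e
    rw [hAB, hBA] at e
    exact hC.1 (by rw [← e, neg_zero])
  · rw [mem_dker, vecMulVec_mulVec]; simp [dotProduct_smul, h33]
  · rw [mem_dker, vecMulVec_mulVec]; simp [dotProduct_smul, hαp]
  · rw [vecMulVec_mulVec, mem_dker.1 hx]; simp
  · rw [vecMulVec_mulVec]
    exact Submodule.mem_span_singleton.2 ⟨γ ⬝ᵥ x, by ext i; simp [mul_comm]⟩
  · obtain ⟨c, rfl⟩ := Submodule.mem_span_singleton.1 hx
    rw [vecMulVec_mulVec, vecMulVec_mulVec, dotProduct_smul, dotProduct_smul, hαp, hγp]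
    simp

/-- All root groups full over the whole field: the special linear group. -/
theorem Core.full_linear (hP : Core P) (p : ℕ) [Fact p.Prime] [CharP F p] {X₁ : M3} (hX₁ : IsTv P X₁)
    (hfull : ∀ (X : M3) (hX : IsTv P X), ∀ s : F, s ∈ rset P X hX.2.1) :
    P = specialLinear (Fin 3) F ∧ HasNonab P p := by
  obtain ⟨u, γ, δ, hu, hγu, hδu, hli, hγt, hδt, A, B, hA, hB, hne, W, L, hLW, hW, hL, h0⟩ :=
    hP.exists_two_axes hX₁ hfull
  refine ⟨le_antisymm (fun g hg => MonoidHom.mem_ker.2 (Units.ext (hP.det_eq_one hg))) ?_, ?_⟩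
  · refine ClassicalMax.specialLinear_le P fun φ v hφ => ?_
    have key := ClassicalMax.all_of_one (P.map (glEquiv (Fin 3) F).toMonoidHom) (v := u) ?_ hu ?_ φ v hφ
    · obtain ⟨g, hg, e⟩ := key
      rw [← e, MulEquiv.coe_toMonoidHom, MulEquiv.symm_apply_apply]
      exact hg
    · intro U hU
      exact hP.irr U fun g hg x hx => by
        have := hU _ (Subgroup.mem_map_of_mem _ hg) x hx
        rwa [MulEquiv.coe_toMonoidHom, glEquiv_apply] at this
    · intro ψ hψ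
      set a : Fin 3 → F := fun i => ψ (Pi.single i 1) with ha
      have hax : ∀ x, ψ x = a ⬝ᵥ x := fun x => by
        conv_lhs => rw [pi_eq_sum_univ' x]
        simp [map_sum, map_smul, dotProduct, ha, mul_comm]
      -- the covector is a combination of the two axes
      have hspan : Submodule.span F (Set.range ![γ, δ]) = dker u := by
        refine Submodule.eq_of_le_of_finrank_le (Submodule.span_le.2 ?_) ?_
        · rintro _ ⟨i, rfl⟩
          fin_cases i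
          · exact mem_dker.2 (by rw [dotProduct_comm]; exact hγu)
          · exact mem_dker.2 (by rw [dotProduct_comm]; exact hδu)
        · rw [finrank_dker hu, finrank_span_eq_card hli, Fintype.card_fin]
      have hmem : a ∈ Submodule.span F (Set.range ![γ, δ]) := by
        rw [hspan, mem_dker, dotProduct_comm, ← hax]; exact hψ
      obtain ⟨c, hc⟩ := Submodule.mem_span_range_iff_exists_fun F |>.1 hmem
      rw [Fin.sum_univ_two] at hc
      simp only [Matrix.cons_val_zero, Matrix.cons_val_one] at hc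
      obtain ⟨g, hg, hge⟩ := hfull _ hγt (c 0)
      obtain ⟨k, hk, hke⟩ := hfull _ hδt (c 1)
      refine ⟨g * k, mul_mem hg hk, LinearEquiv.ext fun x => ?_⟩
      rw [MulEquiv.coe_toMonoidHom, glEquiv_apply, tvec_apply hψ, hax, ← hc]
      show mat (g * k) *ᵥ x = _
      rw [mat_mul, hge, hke, ← Matrix.mulVec_mulVec]
      simp only [Matrix.add_mulVec, Matrix.one_mulVec, Matrix.smul_mulVec, vecMulVec_mulVec, add_dotProduct,
        smul_dotProduct, Matrix.mulVec_add, Matrix.mulVec_smul, dotProduct_add, dotProduct_smul, hγu,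
        op_smul_eq_smul, smul_zero, zero_smul, add_zero, smul_eq_mul, mul_zero, add_smul, smul_smul]
      abel
  · obtain ⟨g, hg, hge⟩ := hA.2.2
    obtain ⟨k, hk, hke⟩ := hB.2.2
    refine ⟨g, hg, k, hk, fun e => hne ?_, isPGroup_unipotent p W L hLW _ ?_⟩
    · have := congrArg mat e
      rw [mat_mul, mat_mul, hge, hke] at this
      simp only [mul_add, add_mul, one_mul, mul_one] at this
      exact add_left_cancel (a := 1 + (A + B)) (by
        calc 1 + (A + B) + A * B = 1 + A + (B + A * B) := by abel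
          _ = 1 + B + (A + B * A) := this
          _ = 1 + (A + B) + B * A := by abel)
    · rintro x (rfl | rfl)
      · exact ⟨fun y => by rw [hge, Matrix.add_mulVec, Matrix.one_mulVec, add_sub_cancel_left]; exact (hW y).1,
          fun y hy => by rw [hge, Matrix.add_mulVec, Matrix.one_mulVec, add_sub_cancel_left]; exact (hL y hy).1,
          fun y hy => by rw [hge, Matrix.add_mulVec, Matrix.one_mulVec, (h0 y hy).1, add_zero]⟩
      · exact ⟨fun y => by rw [hke, Matrix.add_mulVec, Matrix.one_mulVec, add_sub_cancel_left]; exact (hW y).2,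
          fun y hy => by rw [hke, Matrix.add_mulVec, Matrix.one_mulVec, add_sub_cancel_left]; exact (hL y hy).2,
          fun y hy => by rw [hke, Matrix.add_mulVec, Matrix.one_mulVec, (h0 y hy).2, add_zero]⟩

end Cfsg.Agent.ResidualThree
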