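import Cfsg.Agent.ResidualThree.Full

/-!
Full root groups over the fixed field of a hermitian form: the special unitary group.
-/

set_option autoImplicit false

namespace Cfsg.Agent.ResidualThree

open Matrix Cfsg.Geo Cfsg.Agent.PrimeDim Module
open Cfsg.Agent.ClassicalMax (glEquiv glEquiv_apply)
open Cfsg.Agent.Classical
open scoped MatrixGroups

variable {F : Type*} [Field F] [Finite F] {P : Subgroup (GL (Fin 3) F)}

local notation "G3" => GL (Fin 3) F
local notation "M3" => Matrix (Fin 3) (Fin 3) F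

/-- The sesquilinear map of a Gram matrix, semilinear in the first variable. -/
def sesqG (σ : F ≃+* F) (G : M3) : (Fin 3 → F) →ₛₗ[σ.toRingHom] (Fin 3 → F) →ₗ[F] F :=
  LinearMap.mk₂'ₛₗ σ.toRingHom (RingHom.id F) (fun x y => formG σ G y x)
    (fun x x' y => by
      simp only [formG]
      rw [show (fun i => σ ((x + x') i)) = (fun i => σ (x i)) + fun i => σ (x' i) from funext fun i => map_add σ _ _,
        Matrix.mulVec_add, dotProduct_add])
    (fun c x y => by
      simp only [formG]
      rw [show (fun i => σ ((c • x) i)) = σ c • fun i => σ (x i) from funext fun i => map_mul σ _ _,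
        Matrix.mulVec_smul, dotProduct_smul]
      rfl)
    (fun x y y' => by simp only [formG, add_dotProduct])
    (fun c x y => by simp only [formG, smul_dotProduct, RingHom.id_apply])

theorem sesqG_apply (σ : F ≃+* F) (G : M3) (x y : Fin 3 → F) : sesqG σ G x y = formG σ G y x := rfl

/-- Full root groups over the fixed field: every determinant-one isometry. -/
theorem Core.full_herm (hP : Core P) (p : ℕ) [Fact p.Prime] [CharP F p] {σ : F ≃+* F}
    (hinv : ∀ a, σ (σ a) = a) (hne : σ ≠ RingEquiv.refl F) {G : M3} (hG : G.det ≠ 0) (hsym : Gᵀ = G.map σ)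
    (hfix : Fixes σ P G) (hr : ∃ r : F, σ r = r ∧ r ≠ 0 ∧ r ≠ 1) {X : M3} (hX : IsTv P X)
    (hfull : ∀ s : F, σ s = s → s ∈ rset P X hX.2.1) :
    (∀ g : G3, (mat g).det = 1 → act σ G (mat g) = G → g ∈ P) ∧ HasNonab P p := by
  have hUG := PrimeDim.isUnit_of_det hG
  set B := sesqG σ G with hBdef
  have hB : Herm.IsHerm B := by
    refine ⟨⟨fun e => hne (RingEquiv.ext fun a => ?_), hinv⟩, fun x y => ?_, fun x hx => ?_⟩
    · simpa using RingHom.congr_fun e a
    · show σ (formG σ G y x) = formG σ G x y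
      rw [formG, formG]
      have e1 : σ (y ⬝ᵥ G *ᵥ fun i => σ (x i)) = (fun i => σ (y i)) ⬝ᵥ (G.map σ *ᵥ x) := by
        simp only [dotProduct, Matrix.mulVec, map_sum, map_mul, hinv, Matrix.map_apply]
      rw [e1, ← hsym, Matrix.mulVec_transpose, dotProduct_comm, ← Matrix.dotProduct_mulVec]
    · by_contra hx0
      apply hx0
      have hz : G *ᵥ (fun i => σ (x i)) = 0 := funext fun i => by
        have := hx (Pi.single i 1)
        rw [hBdef, sesqG_apply, formG, single_dotProduct, one_mul] at this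
        exact this
      have := Matrix.mulVec_injective_iff_isUnit.2 hUG (hz.trans (Matrix.mulVec_zero G).symm)
      funext i
      exact (map_eq_zero σ).1 (congrFun this i)
  obtain ⟨v, α, hv, hα, hαv, hXe⟩ := hX.rep
  set a := G *ᵥ (fun i => σ (v i)) with ha
  have ha0 : a ≠ 0 := fun e => hv <| by
    have := Matrix.mulVec_injective_iff_isUnit.2 hUG (e.trans (Matrix.mulVec_zero G).symm)
    funext i
    exact (map_eq_zero σ).1 (congrFun this i)
  have hBv : ∀ x, B v x = a ⬝ᵥ x := fun x => by rw [hBdef, sesqG_apply, formG, dotProduct_comm]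
  -- the covector is a multiple of the polar of the centre
  have hu : v ᵥ* G = fun i => σ (a i) := by
    funext i
    rw [← Matrix.mulVec_transpose, hsym, ha]
    simp only [Matrix.mulVec, dotProduct, map_sum, map_mul, Matrix.map_apply, hinv]
  obtain ⟨lam, hlam, hσlam⟩ : ∃ lam : F, α = lam • a ∧ σ lam = -lam := by
    obtain ⟨g, hg, hgX⟩ := hX.2.2
    have h1 := hfix g hg
    rw [act, hgX, Matrix.map_add σ (map_add σ), Matrix.map_one σ (map_zero σ) (map_one σ), Matrix.transpose_add,
      Matrix.transpose_one] at h1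
    have h4 : (1 - Xᵀ) * ((1 + Xᵀ) * G * (1 + X.map σ)) = G * (1 + X.map σ) := by
      have e : (1 - Xᵀ) * (1 + Xᵀ) = 1 := by
        rw [sub_mul, mul_add, mul_add, one_mul, mul_one, one_mul, ← Matrix.transpose_mul, hX.2.1,
          Matrix.transpose_zero]
        abel
      rw [← mul_assoc, ← mul_assoc, e, one_mul]
    rw [h1, mul_add, mul_one, sub_mul, one_mul, sub_eq_add_neg] at h4
    have key := (add_left_cancel h4).symm
    have e1 : (vecMulVec v α).map σ = vecMulVec (fun i => σ (v i)) (fun i => σ (α i)) := by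
      ext i j; simp [vecMulVec_apply]
    rw [hXe, e1, Matrix.mul_vecMulVec, transpose_vecMulVec, Matrix.vecMulVec_mul, ← ha, hu] at key
    have hkl : ∀ k l, a k * σ (α l) = -(α k * σ (a l)) := fun k l => by
      simpa [vecMulVec_apply] using congrFun (congrFun key k) l
    obtain ⟨l, hl⟩ : ∃ l, a l ≠ 0 := Function.ne_iff.1 ha0
    refine ⟨-(σ (α l) / σ (a l)), funext fun k => ?_, ?_⟩
    · rw [Pi.smul_apply, smul_eq_mul, neg_mul, div_mul_eq_mul_div, ← neg_div,
        eq_div_iff ((map_ne_zero σ).2 hl)]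
      linear_combination hkl k l
    · rw [map_neg, map_div₀, hinv, hinv, neg_neg, ← neg_div, div_eq_div_iff hl ((map_ne_zero σ).2 hl)]
      linear_combination -(hkl l l)
  have hlam0 : lam ≠ 0 := fun e => hα (by rw [hlam, e, zero_smul])
  have hvv : B v v = 0 := by
    rw [hBv]
    rw [hlam, smul_dotProduct, smul_eq_mul] at hαv
    exact (mul_eq_zero.1 hαv).resolve_left hlam0
  set Mg := P.map (glEquiv (Fin 3) F).toMonoidHom with hMg
  have hiso : ∀ g ∈ Mg, ∀ x y, B (g x) (g y) = B x y := by
    rintro _ ⟨g, hg, rfl⟩ x y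
    rw [hBdef, sesqG_apply, sesqG_apply, MulEquiv.coe_toMonoidHom, glEquiv_apply, glEquiv_apply]
    show formG σ G (mat g *ᵥ y) (mat g *ᵥ x) = _
    rw [formG_mulVec, hfix g hg]
  have hcen : v ∈ ClassicalMax.Unitary.centres B Mg := by
    refine ⟨hvv, fun hv' c hc => ?_⟩
    have hs : σ (c / lam) = c / lam := by
      rw [map_div₀, hσlam, show σ c = -c from eq_neg_of_add_eq_zero_right hc, neg_div_neg_eq]
    obtain ⟨g, hg, hgs⟩ := hfull _ hs
    refine ⟨g, hg, LinearEquiv.ext fun x => ?_⟩
    rw [MulEquiv.coe_toMonoidHom, glEquiv_apply, Herm.tvU_apply, hBv]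
    show mat g *ᵥ x = _
    rw [hgs, hXe, hlam, vecMulVec_smul, smul_smul, div_mul_cancel₀ _ hlam0, Matrix.add_mulVec, Matrix.one_mulVec,
      Matrix.smul_mulVec, vecMulVec_mulVec, op_smul_eq_smul, smul_smul]
  have h3 : finrank F (Fin 3 → F) = 3 := Module.finrank_fin_fun F
  have hall := ClassicalMax.SU3.centres_of_irreducible hB h3 hiso (fun U hU => hP.irr U fun g hg x hx => by
    have := hU _ (Subgroup.mem_map_of_mem _ hg) x hx
    rwa [MulEquiv.coe_toMonoidHom, glEquiv_apply] at this) hcen hv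
  have hr' : ∃ r : F, σ.toRingHom r = r ∧ r ≠ 0 ∧ r ≠ 1 := hr
  have hle := ClassicalMax.SU3.suG_le hB (by omega) hr' hall
  have hmem : ∀ e : (Fin 3 → F) ≃ₗ[F] (Fin 3 → F), e ∈ Herm.suG B →
      ∃ g ∈ P, ∀ x, mat g *ᵥ x = e x := fun e he => by
    obtain ⟨g, hg, hge⟩ := hle he
    exact ⟨g, hg, fun x => by rw [← hge]; rfl⟩
  refine ⟨fun g hdet hact => ?_, ?_⟩
  · have hsu : glEquiv (Fin 3) F g ∈ Herm.suG B := by
      refine ⟨fun x y => ?_, Units.ext ?_⟩
      · rw [hBdef, sesqG_apply, sesqG_apply, glEquiv_apply, glEquiv_apply]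
        show formG σ G (mat g *ᵥ y) (mat g *ᵥ x) = _
        rw [formG_mulVec, hact]
      · rw [LinearEquiv.coe_det]
        exact (ClassicalMax.mem_specialLinear_iff g).1 (MonoidHom.mem_ker.2 (Units.ext hdet))
    obtain ⟨k, hk, hke⟩ := hle hsu
    rwa [← (glEquiv (Fin 3) F).injective hke]
  · -- two Eichler elements
    have hne' : B v ≠ 0 := fun e => ha0 <| funext fun i => by
      have := LinearMap.congr_fun e (Pi.single i 1)
      rw [hBv] at this
      simpa using this
    set W := LinearMap.ker (B v) with hW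
    have hW2 : finrank F W = 2 := by
      have := Module.Dual.finrank_ker_add_one_of_ne_zero hne'
      rw [h3] at this
      change finrank F W + 1 = 3 at this
      omega
    have hLW : Submodule.span F {v} ≤ W :=
      Submodule.span_le.2 (Set.singleton_subset_iff.2 (LinearMap.mem_ker.2 hvv))
    obtain ⟨b, hbW, hbv⟩ : ∃ b ∈ W, b ∉ Submodule.span F {v} := by
      by_contra! hc
      have := Submodule.finrank_mono (show W ≤ Submodule.span F {v} from hc)
      rw [finrank_span_singleton hv, hW2] at this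
      omega
    have hbv0 : B b v = 0 := (Herm.eq_zero_comm hB).1 (LinearMap.mem_ker.1 hbW)
    have hvb : B v b = 0 := LinearMap.mem_ker.1 hbW
    have hbb : B b b ≠ 0 := fun e => hbv <| by
      obtain ⟨c, rfl⟩ := ClassicalMax.SU3.orth_dep hB h3.le hv hvv e hvb
      exact Submodule.smul_mem _ _ (Submodule.mem_span_singleton_self v)
    obtain ⟨μ, hμ⟩ : ∃ μ, σ μ ≠ μ := by
      by_contra! hc
      exact hne (RingEquiv.ext hc)
    have hcv : B (μ • b) v = 0 := by rw [map_smulₛₗ, LinearMap.smul_apply, hbv0, smul_zero]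
    obtain ⟨d₁, hd₁⟩ := Herm.exists_trace hB.toIsInvol (a := -B b b) (by rw [map_neg, Herm.fix_self hB])
    obtain ⟨d₂, hd₂⟩ := Herm.exists_trace hB.toIsInvol (a := -B (μ • b) (μ • b)) (by rw [map_neg, Herm.fix_self hB])
    obtain ⟨g, hg, hgx⟩ := hmem _ (Herm.eichler_mem hB hvv hbv0 hd₁)
    obtain ⟨k, hk, hkx⟩ := hmem _ (Herm.eichler_mem hB hvv hcv hd₂)
    refine ⟨g, hg, k, hk, fun e => ?_, isPGroup_unipotent p W (Submodule.span F {v}) hLW _ ?_⟩
    · obtain ⟨x, hx⟩ : ∃ x, B v x ≠ 0 := by
        by_contra! hc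
        exact hne' (LinearMap.ext hc)
      have e1 := congrArg (fun A => mat A *ᵥ x) e
      simp only [mat_mul, ← Matrix.mulVec_mulVec, hgx, hkx] at e1
      rw [Herm.eichler_apply, Herm.eichler_apply, Herm.eichler_apply, Herm.eichler_apply] at e1
      have hsm : ∀ y, B (μ • b) y = σ μ * B b y := fun y => by
        rw [map_smulₛₗ, LinearMap.smul_apply]; rfl
      simp only [map_add, map_smul, smul_eq_mul, hsm] at e1
      rw [hvv, hbv0, hvb] at e1
      have h0 : ((σ μ - μ) * B b b * B v x) • v = 0 := by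
        rw [← sub_eq_zero] at e1
        rw [← e1]
        module
      exact mul_ne_zero (mul_ne_zero (sub_ne_zero.2 hμ) hbb) hx ((smul_eq_zero.1 h0).resolve_right hv)
    · have hvW : v ∈ W := LinearMap.mem_ker.2 hvv
      rintro y (rfl | rfl)
      · refine ⟨fun x => ?_, fun x hx => ?_, fun x hx => ?_⟩
        · rw [hgx, Herm.eichler_apply, add_assoc, add_sub_cancel_left]
          exact add_mem (W.smul_mem _ hbW) (W.smul_mem _ hvW)
        · rw [hgx, Herm.eichler_apply, LinearMap.mem_ker.1 hx, zero_smul, add_zero, add_sub_cancel_left]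
          exact Submodule.smul_mem _ _ (Submodule.mem_span_singleton_self v)
        · obtain ⟨c, rfl⟩ := Submodule.mem_span_singleton.1 hx
          rw [hgx, map_smul, Herm.eichler_apply, hvv, hbv0]; simp
      · refine ⟨fun x => ?_, fun x hx => ?_, fun x hx => ?_⟩
        · rw [hkx, Herm.eichler_apply, add_assoc, add_sub_cancel_left]
          exact add_mem (W.smul_mem _ (W.smul_mem _ hbW)) (W.smul_mem _ hvW)
        · rw [hkx, Herm.eichler_apply, LinearMap.mem_ker.1 hx, zero_smul, add_zero, add_sub_cancel_left]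
          exact Submodule.smul_mem _ _ (Submodule.mem_span_singleton_self v)
        · obtain ⟨c, rfl⟩ := Submodule.mem_span_singleton.1 hx
          rw [hkx, map_smul, Herm.eichler_apply, hvv, hcv]; simp

end Cfsg.Agent.ResidualThree
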