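import Cfsg.Agent.ResidualThree.Trace

/-!
Realisation over the field of traces, uniqueness from traces, and forms read off from traces.
-/

set_option autoImplicit false

namespace Cfsg.Agent.ResidualThree

open Matrix Cfsg.Geo Cfsg.Agent.PrimeDim
open scoped MatrixGroups

variable {ι : Type} [Fintype ι] [DecidableEq ι] {F : Type*} [Field F]

local notation "M" => Matrix ι ι F

/-- A spanning set contains a basis, as an invertible matrix of rows. -/
theorem exists_rows {s : Set (ι → F)} (hs : Submodule.span F s = ⊤) :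
    ∃ f : ι → ι → F, (∀ i, f i ∈ s) ∧ (Matrix.of f : M).det ≠ 0 := by
  classical
  obtain ⟨b, hbs, hspan, hli⟩ := exists_linearIndependent F s
  rw [hs] at hspan
  let B := Module.Basis.mk hli (by rw [Subtype.range_coe_subtype, Set.setOf_mem_eq, hspan])
  haveI : Fintype b := Module.Basis.fintypeIndexOfRankLtAleph0 B (Module.rank_lt_aleph0 F _)
  have hc : Fintype.card b = Fintype.card ι := by
    rw [← Module.finrank_eq_card_basis B, Module.finrank_fintype_fun_eq_card]
  let e := Fintype.equivOfCardEq hc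
  refine ⟨fun i => (e.symm i : ι → F), fun i => hbs (e.symm i).2, ?_⟩
  intro hdet
  obtain ⟨v, hv, hv0⟩ := Matrix.exists_vecMul_eq_zero_iff.2 hdet
  have hli' : LinearIndependent F fun i => (e.symm i : ι → F) := hli.comp _ e.symm.injective
  refine hv (funext fun i => Fintype.linearIndependent_iff.1 hli' v ?_ i)
  rw [← hv0]
  funext k
  simp [Matrix.vecMul, dotProduct, Finset.sum_apply]

theorem Entries.inv {F₀ : Subfield F} {A : M} (hA : Entries F₀ A) : Entries F₀ A⁻¹ := by
  by_cases hd : IsUnit A.det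
  swap
  · rw [Matrix.nonsing_inv_apply_not_isUnit A hd]
    exact fun _ _ => zero_mem _
  let A₀ : Matrix ι ι F₀ := Matrix.of fun i j => ⟨A i j, hA i j⟩
  have hmap : A₀.map (F₀.subtype) = A := by ext i j; rfl
  have hd0 : A₀.det ≠ 0 := fun e => hd.ne_zero (by
    rw [← hmap]
    exact (F₀.subtype.map_det A₀).symm.trans (by rw [e, map_zero]))
  have : A * (A₀⁻¹).map F₀.subtype = 1 := by
    conv_lhs => rw [← hmap, ← Matrix.map_mul, Matrix.mul_nonsing_inv _ (isUnit_iff_ne_zero.2 hd0)]
    simp
  rw [Matrix.inv_eq_right_inv this]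
  exact fun i j => (A₀⁻¹ i j).2

/-- Realisation over a subfield containing the traces against a rank-one matrix. -/
theorem realisable_of_rankOne {P : Subgroup (GL ι F)} (hirr : Irr P) (F₀ : Subfield F) {a α : ι → F}
    (ha : a ≠ 0) (hα : α ≠ 0) (htr : ∀ g ∈ P, (vecMulVec a α * mat g).trace ∈ F₀) :
    RealisableOver F₀ (matrixSet P) := by
  obtain ⟨f, hf, hfdet⟩ := exists_rows (exists_translates hirr ha)
  have hspan' : Submodule.span F ((fun g : GL ι F => α ᵥ* mat g) '' (P : Set (GL ι F))) = ⊤ := by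
    by_contra hne
    obtain ⟨φ, hφ, hker⟩ := Submodule.exists_le_ker_of_lt_top _ (lt_top_iff_ne_top.2 hne)
    let w : ι → F := fun i => φ (Pi.single i 1)
    have hw : ∀ x, φ x = x ⬝ᵥ w := fun x => by
      conv_lhs => rw [pi_eq_sum_univ' x]
      simp [map_sum, map_smul, dotProduct, w]
    have hw0 : w ≠ 0 := fun e => hφ (LinearMap.ext fun x => by rw [hw, e, dotProduct_zero]; rfl)
    apply hα
    have hz : ∀ x : ι → F, α ⬝ᵥ x = 0 := by
      intro x
      have hx : x ∈ Submodule.span F ((fun g : GL ι F => mat g *ᵥ w) '' (P : Set (GL ι F))) :=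
        exists_translates hirr hw0 ▸ Submodule.mem_top
      induction hx using Submodule.span_induction with
      | mem x hx =>
        obtain ⟨g, hg, rfl⟩ := hx
        show α ⬝ᵥ (mat g *ᵥ w) = 0
        rw [Matrix.dotProduct_mulVec, ← hw]
        exact hker (Submodule.subset_span ⟨g, hg, rfl⟩)
      | zero => exact dotProduct_zero _
      | add x y _ _ hx hy => rw [dotProduct_add, hx, hy, add_zero]
      | smul c x _ hx => rw [dotProduct_smul, hx, smul_zero]
    exact funext fun i => by simpa using hz (Pi.single i 1)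
  obtain ⟨r, hr, hrdet⟩ := exists_rows hspan'
  choose h hh hhe using hr
  choose k hk hke using hf
  let B : GL ι F := Matrix.GeneralLinearGroup.mkOfDetNeZero (Matrix.of r) hrdet
  let C : M := (Matrix.of f)ᵀ
  have hC : IsUnit C.det := by
    rw [isUnit_iff_ne_zero, Matrix.det_transpose]
    exact hfdet
  have key : ∀ g ∈ P, Entries F₀ (Matrix.of r * mat g * C) := by
    intro g hg i j
    have e : (Matrix.of r * mat g * C) i j = (vecMulVec a α * mat (h i * g * k j)).trace := by
      rw [vecMulVec_mul, trace_vecMulVec, dotProduct_comm]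
      rw [show mat (h i * g * k j) = mat (h i) * mat g * mat (k j) by simp [mat], ← Matrix.dotProduct_mulVec,
        ← Matrix.mulVec_mulVec, ← Matrix.mulVec_mulVec, Matrix.dotProduct_mulVec]
      rw [show α ᵥ* mat (h i) = r i from hhe i, show mat (k j) *ᵥ a = f j from hke j, mul_assoc]
      simp [Matrix.mul_apply, C, dotProduct, Matrix.mulVec]
    rw [e]
    exact htr _ (mul_mem (mul_mem (hh i) hg) (hk j))
  refine realisable_mat.2 ⟨B, fun g hg => ?_⟩
  have hB : (B : M) = Matrix.of r := rfl
  have h1 : mat (B * g * B⁻¹) = (Matrix.of r * mat g * C) * (Matrix.of r * mat 1 * C)⁻¹ := by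
    have e2 : mat B⁻¹ = (Matrix.of r)⁻¹ := by rw [mat, Matrix.coe_units_inv, hB]
    rw [mat, Units.val_mul, Units.val_mul]
    show Matrix.of r * mat g * mat B⁻¹ = _
    rw [e2, show (mat (1 : GL ι F)) = 1 from Units.val_one, mul_one, Matrix.mul_inv_rev]
    simp only [mul_assoc]
    rw [← mul_assoc C, Matrix.mul_nonsing_inv _ hC, one_mul]
  rw [h1]
  exact (key g hg).mul (Entries.inv (key 1 (one_mem P)))

/-- Two representations with the same traces, one spanning and one non-degenerate, are equivalent. -/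
theorem exists_intertwiner [Nonempty ι] {Γ : Type*} [Group Γ] (ρ₁ ρ₂ : Γ →* GL ι F)
    (h₁ : Submodule.span F (Set.range fun g => mat (ρ₁ g)) = ⊤)
    (h₂ : ∀ y : M, (∀ g, (y * mat (ρ₂ g)).trace = 0) → y = 0)
    (htr : ∀ g, (mat (ρ₁ g)).trace = (mat (ρ₂ g)).trace) :
    ∃ B : GL ι F, ∀ g, mat (ρ₂ g) * mat B = mat B * mat (ρ₁ g) := by
  classical
  let L₁ := Finsupp.linearCombination F fun g => mat (ρ₁ g)
  let L₂ := Finsupp.linearCombination F fun g => mat (ρ₂ g)
  have hsurj : LinearMap.range L₁ = ⊤ := by rw [Finsupp.range_linearCombination, h₁]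
  obtain ⟨sec, hsec⟩ := L₁.exists_rightInverse_of_surjective hsurj
  have hker : ∀ c, L₁ c = 0 → L₂ c = 0 := by
    intro c hc
    refine h₂ _ fun h => ?_
    have e : ∀ (ρ : Γ →* GL ι F), (Finsupp.linearCombination F (fun g => mat (ρ g)) c * mat (ρ h)).trace =
        c.sum fun g a => a * (mat (ρ (g * h))).trace := by
      intro ρ
      rw [Finsupp.linearCombination_apply, Finsupp.sum, Finset.sum_mul, Matrix.trace_sum, Finsupp.sum]
      refine Finset.sum_congr rfl fun g _ => ?_
      rw [Matrix.smul_mul, Matrix.trace_smul, map_mul, smul_eq_mul, mat, mat, mat, Units.val_mul]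
    rw [e ρ₂]
    simp only [← htr]
    rw [← e ρ₁, show Finsupp.linearCombination F (fun g => mat (ρ₁ g)) c = 0 from hc, zero_mul, Matrix.trace_zero]
  let Θ : M →ₗ[F] M := L₂.comp sec
  have hΘ : ∀ g, Θ (mat (ρ₁ g)) = mat (ρ₂ g) := by
    intro g
    have h0 : L₁ (sec (mat (ρ₁ g)) - Finsupp.single g 1) = 0 := by
      rw [map_sub, show L₁ (sec (mat (ρ₁ g))) = mat (ρ₁ g) from LinearMap.congr_fun hsec _,
        Finsupp.linearCombination_single, one_smul, sub_self]
    have := hker _ h0
    rw [map_sub, Finsupp.linearCombination_single, one_smul, sub_eq_zero] at this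
    exact this
  have hmul : ∀ X Y : M, Θ (X * Y) = Θ X * Θ Y := by
    intro X Y
    have hX : X ∈ Submodule.span F (Set.range fun g => mat (ρ₁ g)) := h₁ ▸ Submodule.mem_top
    induction hX using Submodule.span_induction with
    | mem x hx =>
      obtain ⟨g, rfl⟩ := hx
      have hY : Y ∈ Submodule.span F (Set.range fun g => mat (ρ₁ g)) := h₁ ▸ Submodule.mem_top
      induction hY using Submodule.span_induction with
      | mem y hy =>
        obtain ⟨h, rfl⟩ := hy
        rw [hΘ, hΘ, show mat (ρ₁ g) * mat (ρ₁ h) = mat (ρ₁ (g * h)) by rw [map_mul, mat, mat, mat, Units.val_mul],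
          hΘ, map_mul, mat, Units.val_mul]
      | zero => simp
      | add a b _ _ ha hb => rw [mul_add, map_add, ha, hb, map_add, mul_add]
      | smul c a _ ha => rw [Matrix.mul_smul, map_smul, ha, map_smul, Matrix.mul_smul]
    | zero => simp
    | add a b _ _ ha hb => rw [add_mul, map_add, ha, hb, map_add, add_mul]
    | smul c a _ ha => rw [Matrix.smul_mul, map_smul, ha, map_smul, Matrix.smul_mul]
  have hone : Θ 1 = 1 := by simpa [mat] using hΘ 1
  obtain ⟨j₀⟩ := ‹Nonempty ι›
  obtain ⟨u, hu⟩ : ∃ u, Θ (Matrix.single j₀ j₀ 1) *ᵥ u ≠ 0 := by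
    by_contra hcon
    push Not at hcon
    have hz : Θ (Matrix.single j₀ j₀ 1) = 0 := Matrix.ext_of_mulVec_single fun j => by
      rw [hcon, Matrix.zero_mulVec]
    have h1 : Θ 1 = 0 := by
      have e : (1 : M) = ∑ i, Matrix.single i j₀ 1 * Matrix.single j₀ j₀ 1 * Matrix.single j₀ i 1 := by
        simp [Matrix.single_mul_single_same]
        ext a b
        simp [Matrix.sum_apply, Matrix.one_apply, Matrix.single_apply, ite_and]
      rw [e, map_sum]
      exact Finset.sum_eq_zero fun i _ => by rw [hmul, hmul, hz, mul_zero, zero_mul]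
    rw [hone] at h1
    exact one_ne_zero h1
  let B₀ : M := Matrix.of fun i j => (Θ (Matrix.single j j₀ 1) *ᵥ u) i
  have hcol : ∀ x : ι → F, B₀ *ᵥ x = Θ (∑ j, x j • Matrix.single j j₀ 1) *ᵥ u := by
    intro x
    rw [map_sum, Matrix.sum_mulVec]
    funext i
    simp only [map_smul, Matrix.smul_mulVec, Finset.sum_apply, Pi.smul_apply, smul_eq_mul, Matrix.mulVec,
      dotProduct, B₀, Matrix.of_apply]
    exact Finset.sum_congr rfl fun j _ => mul_comm _ _
  have hcomm : ∀ X : M, Θ X * B₀ = B₀ * X := by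
    intro X
    refine Matrix.ext_of_mulVec_single fun j => ?_
    rw [← Matrix.mulVec_mulVec, ← Matrix.mulVec_mulVec, hcol, hcol, Matrix.mulVec_mulVec, ← hmul]
    congr 2
    ext a b
    simp [Matrix.mul_apply, Matrix.sum_apply, Matrix.single_apply, Pi.single_apply, ite_and, Finset.sum_ite_eq',
      Matrix.mulVec, dotProduct]
  have hdet : B₀.det ≠ 0 := by
    intro hd
    obtain ⟨x, hx, hx0⟩ := Matrix.exists_mulVec_eq_zero_iff.2 hd
    apply hx
    funext k
    by_contra hk
    have h1 : Θ (Matrix.single j₀ k 1 * ∑ j, x j • Matrix.single j j₀ 1) *ᵥ u = 0 := by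
      rw [hmul, ← Matrix.mulVec_mulVec, ← hcol, hx0, Matrix.mulVec_zero]
    have e : Matrix.single j₀ k 1 * ∑ j, x j • Matrix.single j j₀ 1 = x k • (Matrix.single j₀ j₀ 1 : M) := by
      rw [Finset.mul_sum, Finset.sum_eq_single k]
      · rw [Matrix.mul_smul, Matrix.single_mul_single_same, one_mul]
      · intro j _ hj
        rw [Matrix.mul_smul, Matrix.single_mul_single_of_ne _ _ _ _ (Ne.symm hj), smul_zero]
      · simp
    rw [e, map_smul, Matrix.smul_mulVec, smul_eq_zero] at h1
    exact h1.elim hk hu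
  exact ⟨Matrix.GeneralLinearGroup.mkOfDetNeZero B₀ hdet, fun g => by rw [← hΘ]; exact hcomm _⟩

/-- A group whose inverses have the twisted traces fixes a sesquilinear form. -/
theorem exists_fixes_of_trace [Nonempty ι] {P : Subgroup (GL ι F)} (hP : ActsAbsolutelyIrreducibly (matrixSet P))
    (σ : F ≃+* F) (htr : ∀ g ∈ P, (mat g⁻¹).trace = σ (mat g).trace) :
    ∃ G : M, G.det ≠ 0 ∧ Fixes σ P G := by
  let contra : P →* GL ι F :=
    { toFun := fun g =>
        ⟨((mat (g : GL ι F)⁻¹)ᵀ).map σ.symm, ((mat (g : GL ι F))ᵀ).map σ.symm,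
          by rw [← Matrix.map_mul, ← Matrix.transpose_mul, mat_mul_inv, Matrix.transpose_one]; simp,
          by rw [← Matrix.map_mul, ← Matrix.transpose_mul, mat_inv_mul, Matrix.transpose_one]; simp⟩
      map_one' := Units.ext (by simp [mat])
      map_mul' := fun a b => Units.ext (by
        show ((mat ((a * b : P) : GL ι F)⁻¹)ᵀ).map σ.symm = _
        rw [Subgroup.coe_mul, _root_.mul_inv_rev, mat, Units.val_mul, Matrix.transpose_mul, Matrix.map_mul]
        rfl) }
  obtain ⟨B, hB⟩ := exists_intertwiner P.subtype contra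
    (by
      rw [← span_eq_top hP]
      congr 1
      ext X
      exact ⟨fun ⟨g, hg⟩ => ⟨g, g.2, hg⟩, fun ⟨g, hg, he⟩ => ⟨⟨g, hg⟩, he⟩⟩)
    (fun y hy => by
      have h0 : (y.map σ)ᵀ = 0 := eq_zero_of_trace hP fun g hg => by
        have h1 := congrArg σ (hy ⟨g⁻¹, inv_mem hg⟩)
        have h2 : mat (contra ⟨g⁻¹, inv_mem hg⟩) = ((mat g)ᵀ).map σ.symm := by
          show ((mat (g⁻¹)⁻¹)ᵀ).map σ.symm = _
          rw [inv_inv]
        rw [h2, map_zero] at h1
        have h4 : ((y * ((mat g)ᵀ).map σ.symm).map σ).trace = 0 :=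
          (AddMonoidHom.map_trace σ.toAddMonoidHom (y * ((mat g)ᵀ).map σ.symm)).symm.trans h1
        rw [Matrix.trace_mul_comm, ← h4, ← Matrix.trace_transpose, Matrix.transpose_mul, Matrix.transpose_transpose]
        congr 1
        show y.map σ * (mat g)ᵀ = (y * ((mat g)ᵀ).map σ.symm).map σ
        rw [Matrix.map_mul, Matrix.map_map, show (σ ∘ σ.symm : F → F) = id from funext σ.apply_symm_apply,
          Matrix.map_id]
      have h3 : y.map σ = 0 := by rw [← Matrix.transpose_transpose (y.map σ), h0, Matrix.transpose_zero]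
      ext i j
      have := congrFun (congrFun h3 i) j
      simpa using this)
    (fun g => by
      show (mat (g : GL ι F)).trace = (((mat (g : GL ι F)⁻¹)ᵀ).map σ.symm).trace
      refine Eq.trans ?_ (AddMonoidHom.map_trace σ.symm.toAddMonoidHom ((mat (g : GL ι F)⁻¹)ᵀ))
      show _ = σ.symm _
      rw [Matrix.trace_transpose, htr g g.2, σ.symm_apply_apply])
  refine ⟨(mat B).map σ, ?_, fun g hg => ?_⟩
  · show (σ.toRingHom.mapMatrix (mat B)).det ≠ 0
    rw [← RingHom.map_det]
    exact (map_ne_zero _).2 ((Matrix.isUnit_iff_isUnit_det _).1 B.isUnit).ne_zero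
  · have h1 := congrArg (fun X : M => X.map σ) (hB ⟨g, hg⟩)
    simp only [Matrix.map_mul] at h1
    have h2 : (mat (contra ⟨g, hg⟩)).map σ = (mat g⁻¹)ᵀ := by
      show (((mat g⁻¹)ᵀ).map σ.symm).map σ = _
      rw [Matrix.map_map, show (σ ∘ σ.symm : F → F) = id from funext σ.apply_symm_apply, Matrix.map_id]
    rw [h2] at h1
    rw [act, mul_assoc, ← show (mat g⁻¹)ᵀ * (mat B).map σ = (mat B).map σ * (mat g).map σ from h1, ← mul_assoc,
      ← Matrix.transpose_mul, mat_inv_mul, Matrix.transpose_one, one_mul]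

/-- A fixed form for an involutory automorphism gives a hermitian one. -/
theorem exists_hermitian [Nonempty ι] {P : Subgroup (GL ι F)} (hP : ActsAbsolutelyIrreducibly (matrixSet P)) {σ : F ≃+* F}
    (hσ : ∀ a, σ (σ a) = a) (hne : σ ≠ RingEquiv.refl F) {G : M} (hG : G.det ≠ 0) (h : Fixes σ P G) :
    ∃ G' : M, G'.det ≠ 0 ∧ G'ᵀ = G'.map σ ∧ Fixes σ P G' := by
  have hσσ : (σ ∘ σ : F → F) = id := funext hσ
  have h' : Fixes σ P ((G.map σ)ᵀ) := by
    intro g hg
    have h1 := congrArg (fun X : M => (X.map σ)ᵀ) (h g hg)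
    simp only [act, Matrix.map_mul, Matrix.map_map, hσσ, Matrix.map_id, Matrix.transpose_mul,
      Matrix.transpose_map, Matrix.transpose_transpose] at h1
    rw [act, mul_assoc]
    simpa [Matrix.transpose_map] using h1
  obtain ⟨c, hc⟩ := unique_form hP hG h h'
  obtain ⟨i, j, hij⟩ : ∃ i j, G i j ≠ 0 := by
    by_contra hcon
    push Not at hcon
    exact hG (by rw [show G = 0 from Matrix.ext hcon, Matrix.det_zero])
  have hgen : ∀ a b, σ (G b a) = c * G a b := fun a b => congrFun (congrFun hc a) b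
  have hij' := hij
  have hcc : c * σ c = 1 := by
    have h1 := hgen i j
    have h2 := congrArg σ (hgen j i)
    rw [hσ, map_mul, h1, ← mul_assoc, mul_comm (σ c)] at h2
    exact (mul_eq_right₀ hij').1 h2.symm
  obtain ⟨θ, hθ⟩ : ∃ θ : F, θ + σ θ * c ≠ 0 := by
    by_contra hcon
    push Not at hcon
    have hc1 : c = -1 := by
      have := hcon 1
      rw [map_one, one_mul] at this
      exact eq_neg_of_add_eq_zero_right this
    refine hne (RingEquiv.ext fun a => ?_)
    have := hcon a
    rw [hc1, mul_neg, mul_one, ← sub_eq_add_neg, sub_eq_zero] at this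
    exact this.symm
  refine ⟨(θ + σ θ * c) • G, ?_, ?_, fun g hg => by rw [act_smul, h g hg]⟩
  · rw [Matrix.det_smul]
    exact mul_ne_zero (pow_ne_zero _ hθ) hG
  · ext a b
    simp only [Matrix.transpose_apply, Matrix.map_apply, Matrix.smul_apply, smul_eq_mul, map_mul, map_add, hσ]
    have h1 := hgen b a
    linear_combination -(σ θ + θ * σ c) * h1 - (θ * G b a) * hcc

/-- Self-dual traces give a symmetric fixed form in odd degree. -/
theorem exists_symmetric [Nonempty ι] (hodd : Odd (Fintype.card ι)) {P : Subgroup (GL ι F)}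
    (hP : ActsAbsolutelyIrreducibly (matrixSet P)) {G : M} (hG : G.det ≠ 0)
    (h : Fixes (RingEquiv.refl F) P G) : Gᵀ = G := by
  have h' : Fixes (RingEquiv.refl F) P Gᵀ := by
    intro g hg
    have h1 := congrArg Matrix.transpose (h g hg)
    simp only [act, Matrix.transpose_mul] at h1
    rw [act, mul_assoc]
    simpa using h1
  obtain ⟨c, hc⟩ := unique_form hP hG h h'
  have h2 : G = (c * c) • G := by
    conv_lhs => rw [← Matrix.transpose_transpose G, hc, Matrix.transpose_smul, hc, smul_smul]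
  obtain ⟨i, j, hij⟩ : ∃ i j, G i j ≠ 0 := by
    by_contra hcon
    push Not at hcon
    exact hG (by rw [show G = 0 from Matrix.ext hcon, Matrix.det_zero])
  have hcc : c * c = 1 := (mul_eq_right₀ hij).1 (congrFun (congrFun h2 i) j).symm
  rcases mul_self_eq_one_iff.1 hcc with rfl | rfl
  · rw [hc, one_smul]
  by_cases h20 : (2 : F) = 0
  · rw [hc, neg_eq_of_add_eq_zero_left (show (1 : F) + 1 = 0 by rw [one_add_one_eq_two, h20]), one_smul]
  · exfalso
    have hdiag : ∀ a, G a a = 0 := fun a => by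
      have h1 := congrFun (congrFun hc a) a
      simp only [Matrix.transpose_apply, Matrix.smul_apply, smul_eq_mul, neg_mul, one_mul] at h1
      have h3 : (2 : F) * G a a = 0 := by linear_combination h1
      exact (mul_eq_zero.1 h3).resolve_left h20
    exact hG (det_eq_zero_of_alt hodd (by rw [hc, neg_smul, one_smul]) hdiag)

end Cfsg.Agent.ResidualThree
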