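import Cfsg.Agent.ResidualThree.Exceptional
import Cfsg.Agent.ResidualThree.FullHerm
import Cfsg.Agent.ResidualThree.CharTwoField

/-!
The groups containing transvections.
-/

set_option autoImplicit false

namespace Cfsg.Agent.ResidualThree

open Matrix Cfsg.Geo Cfsg.Agent.PrimeDim
open scoped MatrixGroups

variable {F : Type*} [Field F] [Finite F] {P : Subgroup (GL (Fin 3) F)}

/-- A group with transvections is special linear, special unitary, or the exceptional group over four elements. -/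
theorem Core.tv_cases (hP : Core P) (hmin : ∀ F₀ : Subfield F, F₀ ≠ ⊤ → ¬ RealisableOver F₀ (matrixSet P))
    (p : ℕ) [Fact p.Prime] [CharP F p] {X : Matrix (Fin 3) (Fin 3) F} (hX : IsTv P X) :
    (P = specialLinear (Fin 3) F ∧ ((2 : F) ≠ 0 → HasNonab P p)) ∨
      (∃ (σ : F ≃+* F) (G : Matrix (Fin 3) (Fin 3) F), (∀ a, σ (σ a) = a) ∧ σ ≠ RingEquiv.refl F ∧ G.det ≠ 0 ∧
        Gᵀ = G.map σ ∧ Fixes σ P G ∧
        (∀ g : GL (Fin 3) F, (mat g).det = 1 → act σ G (mat g) = G → g ∈ P) ∧ HasNonab P p) ∨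
      (Nat.card (P ⧸ (scalars (Fin 3) F).subgroupOf P) = 360 ∧ Nat.card F = 4) := by
  rcases hP.field_or_hermitian hmin hX with hK | ⟨σ, G, hinv, hne, hKσ, hdet, hsym, hfix⟩
  · by_cases hA : (2 : F) = 0 ∧ Small2 P
    · rcases hP.charTwo hA.1 hA.2 hK with h | h
      · exact Or.inr (Or.inr h)
      · exact Or.inl ⟨h, fun h2 => absurd hA.1 h2⟩
    rcases hP.rset_cases' with h | ⟨h2, h⟩
    · obtain ⟨e, hn⟩ := hP.full_linear p hX fun Y hY s => h Y hY s (hK ▸ Subfield.mem_top s)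
      exact Or.inl ⟨e, fun _ => hn⟩
    · exact absurd ⟨h2, fun Y hY a ha => h Y hY a ha⟩ hA
  · by_cases hA : (2 : F) = 0 ∧ Small2 P
    · exact (hP.not_hermitian hA.1 hA.2 hdet hfix).elim
    rcases hP.rset_cases' with h | ⟨h2, h⟩
    · have hr : ∃ r : F, σ r = r ∧ r ≠ 0 ∧ r ≠ 1 := by
        by_cases h2 : (2 : F) = 0
        · obtain ⟨Y, hY, a, ha, ha01⟩ : ∃ (Y : Matrix (Fin 3) (Fin 3) F) (hY : IsTv P Y),
              ∃ a ∈ rset P Y hY.2.1, ¬ (a = 0 ∨ a = 1) := by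
            by_contra hcon
            push Not at hcon
            exact hA ⟨h2, fun Y hY a ha => hcon Y hY a ha⟩
          exact ⟨a, (hKσ a).1 (hP.rset_le hY ha), not_or.1 ha01⟩
        · refine ⟨-1, by rw [map_neg, map_one], neg_ne_zero.2 one_ne_zero, fun e => h2 ?_⟩
          linear_combination -e
      obtain ⟨hle, hn⟩ := hP.full_herm p hinv hne hdet hsym hfix hr hX fun s hs => h X hX s ((hKσ s).2 hs)
      exact Or.inr (Or.inl ⟨σ, G, hinv, hne, hdet, hsym, hfix, hle, hn⟩)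
    · exact absurd ⟨h2, fun Y hY a ha => h Y hY a ha⟩ hA

end Cfsg.Agent.ResidualThree
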