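import Cfsg.Agent.ResidualThree.TvCase
import Cfsg.Agent.ResidualThree.Regular.Main
import Cfsg.Agent.ResidualThree.Lift.Coprime
import Cfsg.Agent.ResidualThree.Small.Classify
import Cfsg.Agent.SmallOrder.Below6000

/-!
The perfect groups in dimension three that are simple modulo scalars.
-/

set_option autoImplicit false

namespace Cfsg.Agent.ResidualThree

open Matrix Cfsg.Geo Cfsg.Agent.PrimeDim
open scoped MatrixGroups

variable {F : Type*} [Field F] [Finite F] {P : Subgroup (GL (Fin 3) F)}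

local notation "Zc" => Subgroup.subgroupOf (scalars (Fin 3) F) P

/-- An absolutely irreducible perfect subgroup, simple modulo scalars and written over no smaller field. -/
theorem Core.classify (hP : Core P) (hmin : ∀ F₀ : Subfield F, F₀ ≠ ⊤ → ¬ RealisableOver F₀ (matrixSet P))
    (p : ℕ) [Fact p.Prime] [CharP F p] :
    P = specialLinear (Fin 3) F ∨
    (∃ (σ : F ≃+* F) (G : Matrix (Fin 3) (Fin 3) F), (∀ a, σ (σ a) = a) ∧ σ ≠ RingEquiv.refl F ∧ G.det ≠ 0 ∧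
      Gᵀ = G.map σ ∧ Fixes σ P G ∧ ∀ g : GL (Fin 3) F, (mat g).det = 1 → act σ G (mat g) = G → g ∈ P) ∨
    (p ≠ 2 ∧ ∃ G : Matrix (Fin 3) (Fin 3) F, G.det ≠ 0 ∧ Gᵀ = G ∧ Fixes (RingEquiv.refl F) P G) ∨
    (p ≠ 2 ∧ Nat.card (P ⧸ Zc) = 168 ∧
      ((Nat.card F = p ∧ (p % 7 = 1 ∨ p % 7 = 2 ∨ p % 7 = 4)) ∨
       (Nat.card F = p ^ 2 ∧ (p % 7 = 3 ∨ p % 7 = 5 ∨ p % 7 = 6) ∧
          ∀ g ∈ P, (mat g⁻¹).trace = (mat g).trace ^ p))) ∨
    (p ≠ 2 ∧ Nat.card (P ⧸ Zc) = 360 ∧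
      ((Nat.card F = p ∧ (p % 15 = 1 ∨ p % 15 = 4)) ∨
       (Nat.card F = p ^ 2 ∧ p ≠ 3 ∧
        (((p % 5 = 2 ∨ p % 5 = 3) ∧ ∃ g ∈ P, (mat g⁻¹).trace ≠ (mat g).trace ^ p) ∨
         ((p % 15 = 11 ∨ p % 15 = 14 ∨ p = 5) ∧ ∀ g ∈ P, (mat g⁻¹).trace = (mat g).trace ^ p))))) ∨
    (p = 2 ∧ Nat.card (P ⧸ Zc) = 360 ∧ Nat.card F = 4) ∨
    (p = 5 ∧ Nat.card F = 25 ∧ Nat.card (P ⧸ Zc) = 2520 ∧
      ∃ (σ : F ≃+* F) (G : Matrix (Fin 3) (Fin 3) F), (∀ a, σ (σ a) = a) ∧ σ ≠ RingEquiv.refl F ∧ G.det ≠ 0 ∧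
        Gᵀ = G.map σ ∧ Fixes σ P G) := by
  haveI := Small.finite_sub P
  haveI : Fintype F := Fintype.ofFinite F
  by_cases htv : ∃ X, IsTv P X
  · obtain ⟨X, hX⟩ := htv
    rcases hP.tv_cases hmin p hX with ⟨e, -⟩ | ⟨σ, G, h1, h2, h3, h4, h5, h6, -⟩ | ⟨h1, h2⟩
    · exact Or.inl e
    · exact Or.inr (Or.inl ⟨σ, G, h1, h2, h3, h4, h5, h6⟩)
    · refine Or.inr (Or.inr (Or.inr (Or.inr (Or.inr (Or.inl ⟨?_, h1, h2⟩)))))
      obtain ⟨k, -, hk⟩ := FiniteField.card F p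
      rw [← Nat.card_eq_fintype_card, h2] at hk
      exact (Nat.prime_dvd_prime_iff_eq Fact.out Nat.prime_two).1
        ((Fact.out : p.Prime).dvd_of_dvd_pow (n := 2) (show p ∣ 2 ^ 2 by
          rw [show (2 : ℕ) ^ 2 = 4 from rfl, hk]; exact dvd_pow_self p k.ne_zero))
  push Not at htv
  have hnt : NoTv P := fun X hX => htv X hX
  have hp : p ≠ 2 := by
    rintro rfl
    obtain ⟨⟨t, ht⟩, hto⟩ := hP.exists_involution
    rw [← Subgroup.orderOf_coe] at hto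
    have ht2 : t * t = 1 := by rw [← pow_two, ← hto, pow_orderOf_eq_one]
    have ht1 : t ≠ 1 := fun e => by simp [e] at hto
    refine hnt _ (isTv_of_sq ht ht1 ?_)
    have h2 : (2 : F) = 0 := CharP.ofNat_eq_zero F 2
    rw [sub_mul, mul_sub, one_mul, mul_one, ← mat_mul, ht2, show mat (1 : GL (Fin 3) F) = 1 from Units.val_one,
      show (1 : Matrix (Fin 3) (Fin 3) F) - mat t - (mat t - 1) = (2 : F) • (1 - mat t) by module, h2, zero_smul]
  have h168 : Nat.card (P ⧸ Zc) = 168 → _ := fun h => Small.case_168 (p := p) hP hmin hp h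
  have h360 : Nat.card (P ⧸ Zc) = 360 → _ := fun h => Small.case_360 (p := p) hP hmin hp h
  suffices hh : (∃ G : Matrix (Fin 3) (Fin 3) F, G.det ≠ 0 ∧ Gᵀ = G ∧ Fixes (RingEquiv.refl F) P G) ∨
      (Nat.card (P ⧸ Zc) = 60 ∨ Nat.card (P ⧸ Zc) = 168 ∨ Nat.card (P ⧸ Zc) = 360) ∨
      (p = 5 ∧ Nat.card F = 25 ∧ Nat.card (P ⧸ Zc) = 2520 ∧
        ∃ (σ : F ≃+* F) (G : Matrix (Fin 3) (Fin 3) F), (∀ a, σ (σ a) = a) ∧ σ ≠ RingEquiv.refl F ∧ G.det ≠ 0 ∧
          Gᵀ = G.map σ ∧ Fixes σ P G) by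
    rcases hh with h | h | h
    · exact Or.inr (Or.inr (Or.inl ⟨hp, h⟩))
    swap
    · exact Or.inr (Or.inr (Or.inr (Or.inr (Or.inr (Or.inr h)))))
    refine Or.inr (Or.inr ?_)
    rcases h with h | h | h
    · exact Or.inl ⟨hp, Small.sixty_orth hP h⟩
    · rcases h168 h with h' | h'
      · exact Or.inl ⟨hp, h'⟩
      · exact Or.inr (Or.inl ⟨hp, h, h'⟩)
    · rcases h360 h with h' | h'
      · exact Or.inl ⟨hp, h'⟩
      · exact Or.inr (Or.inr (Or.inl ⟨hp, h, h'⟩))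
  by_cases hdvd : p ∣ Nat.card P
  · rcases hP.regular_cases hmin hnt p hp hdvd with h | ⟨-, h⟩ | ⟨h5, hF, hherm, hd⟩
    · exact Or.inl h
    · exact Or.inr (Or.inl (h.imp_right Or.inl))
    · haveI := hP.simple
      have hle := Nat.le_of_dvd (by norm_num) hd
      have hmem := SmallOrder.card_of_lt_6000 hP.nonab (by omega)
      simp only [List.mem_cons, List.not_mem_nil, or_false] at hmem
      have h5d : 5 ∣ Nat.card (P ⧸ Zc) := by
        have h1 := hdvd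
        rw [h5, Subgroup.card_eq_card_quotient_mul_card_subgroup Zc] at h1
        rcases Small.center_card hP with e | e <;> rw [e] at h1
        · simpa using h1
        · exact (by norm_num : Nat.Coprime 5 3).dvd_of_dvd_mul_right h1
      rcases hmem with e | e | e | e | e | e | e | e | e | e | e <;> rw [e] at hd h5d <;>
        first
          | (exfalso; revert hd; norm_num; done)
          | (exfalso; revert h5d; norm_num; done)
          | exact Or.inr (Or.inl (Or.inl e))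
          | exact Or.inr (Or.inl (Or.inr (Or.inl e)))
          | exact Or.inr (Or.inl (Or.inr (Or.inr e)))
          | exact Or.inr (Or.inr ⟨h5, hF, e, hherm⟩)
  · exact Or.inr (Or.inl (hP.coprime_cases p hdvd))

end Cfsg.Agent.ResidualThree
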