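import Cfsg.Agent.Classical.TwoTrans
import Cfsg.Agent.Classical.DicksonSL
import Cfsg.Agent.Invol.Pair

/-!
Two-dimensional groups containing transvections on two sides: the field of the upper transvections.
-/

set_option autoImplicit false

namespace Cfsg.Agent.ResidualThree

open Matrix Cfsg.Agent.RootSub.Dickson Cfsg.Agent.Classical Cfsg.Agent.Classical.DicksonSL
open scoped MatrixGroups

variable {F : Type*} [Field F]

/-- The parameters of the upper transvections in a subgroup. -/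
def upSet (D : Subgroup SL(2, F)) : AddSubgroup F where
  carrier := {s | upR s ∈ D}
  zero_mem' := by
    show upR (0 : F) ∈ D
    rw [upR_zero]; exact one_mem D
  add_mem' := fun {a b} ha hb => by
    show upR (a + b) ∈ D
    rw [upR_add]; exact mul_mem ha hb
  neg_mem' := fun {a} ha => by
    show upR (-a) ∈ D
    rw [← upR_inv]; exact inv_mem ha

/-- The parameters of the lower transvections in a subgroup. -/
def lowSet (D : Subgroup SL(2, F)) : AddSubgroup F where
  carrier := {s | lowR s ∈ D}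
  zero_mem' := by
    show lowR (0 : F) ∈ D
    rw [lowR_zero]; exact one_mem D
  add_mem' := fun {a b} ha hb => by
    show lowR (a + b) ∈ D
    rw [lowR_add]; exact mul_mem ha hb
  neg_mem' := fun {a} ha => by
    show lowR (-a) ∈ D
    rw [← lowR_inv]; exact inv_mem ha

theorem mem_upSet {D : Subgroup SL(2, F)} {s : F} : s ∈ upSet D ↔ upR s ∈ D := Iff.rfl
theorem mem_lowSet {D : Subgroup SL(2, F)} {s : F} : s ∈ lowSet D ↔ lowR s ∈ D := Iff.rfl

/-- Two transvections give all parameters in the field of the product of their parameters. -/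
theorem odd_fill [Finite F] (h2 : (2 : F) ≠ 0) (D : Subgroup SL(2, F)) {s t : F} (hs : s ∈ upSet D)
    (ht : t ∈ lowSet D) (hs0 : s ≠ 0) (ht0 : t ≠ 0) (hne : ¬ ((3 : F) = 0 ∧ (s * t) ^ 2 = -1)) :
    ∀ x ∈ Subfield.closure ({s * t} : Set F), x / t ∈ upSet D ∧ x * t ∈ lowSet D := by
  classical
  set L := Subfield.closure ({s * t} : Set F) with hL
  haveI : Fintype L := Fintype.ofFinite L
  set l : L := ⟨s * t, Subfield.subset_closure rfl⟩ with hl
  have hl0 : l ≠ 0 := fun e => mul_ne_zero hs0 ht0 (congrArg Subtype.val e)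
  have h2L : (2 : L) ≠ 0 := fun e => h2 (by simpa [map_ofNat] using congrArg L.subtype e)
  have hgen : Subfield.closure ({l} : Set L) = ⊤ := by
    refine eq_top_iff.2 fun x _ => ?_
    have hmem : (x : F) ∈ (Subfield.closure ({l} : Set L)).map L.subtype := by
      rw [RingHom.map_field_closure, Set.image_singleton]
      exact x.2
    obtain ⟨y, hy, he⟩ := hmem
    rwa [← (Subtype.ext he : y = x)]
  have hnot : ¬ (Fintype.card L = 9 ∧ l ^ 2 = -1) := by
    rintro ⟨h9, he⟩
    refine hne ⟨?_, by simpa [hl] using congrArg Subtype.val he⟩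
    have h0 : ((9 : ℕ) : L) = 0 := by
      rw [← h9]
      exact Nat.cast_card_eq_zero L
    have h1 : ((9 : ℕ) : F) = 0 := by rw [← map_natCast L.subtype, h0, map_zero]
    push_cast at h1
    exact mul_self_eq_zero.1 (show (3 : F) * 3 = 0 by linear_combination h1)
  have htop := TwoTrans.top_of_not_exceptional h2L hl0 hgen hnot
  let φ : SL(2, L) →* SL(2, F) :=
    (scale (Units.mk0 t ht0)).comp (Matrix.SpecialLinearGroup.map (L.subtype : L →+* F))
  have hφ : (⊤ : Subgroup SL(2, L)).map φ ≤ D := by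
    rw [← htop, MonoidHom.map_closure, Subgroup.closure_le]
    rintro _ ⟨g, (rfl | rfl), rfl⟩
    · show scale _ (Matrix.SpecialLinearGroup.map _ (lowR 1)) ∈ D
      rw [map_lowR, map_one, scale_lowR, one_mul]
      exact ht
    · show scale _ (Matrix.SpecialLinearGroup.map _ (upR l)) ∈ D
      rw [map_upR, scale_upR]
      simpa [hl, ht0] using mem_upSet.1 hs
  intro x hx
  constructor
  · have := hφ ⟨upR ⟨x, hx⟩, Subgroup.mem_top _, rfl⟩
    change scale _ (Matrix.SpecialLinearGroup.map _ (upR _)) ∈ D at this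
    rw [map_upR, scale_upR] at this
    simpa [mem_upSet, div_eq_mul_inv] using this
  · have := hφ ⟨lowR ⟨x, hx⟩, Subgroup.mem_top _, rfl⟩
    change scale _ (Matrix.SpecialLinearGroup.map _ (lowR _)) ∈ D at this
    rw [map_lowR, scale_lowR] at this
    simpa [mem_lowSet] using this

set_option maxHeartbeats 1000000 in
/-- In odd characteristic the normalised upper parameters form a field, and contain the product parameter
outside one small exception. -/
theorem odd_field [Finite F] (h2 : (2 : F) ≠ 0) (D : Subgroup SL(2, F)) {lam : F} (hlam : lam ≠ 0)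
    (h1 : (1 : F) ∈ upSet D) (hl : lam ∈ lowSet D) :
    (∀ a ∈ upSet D, ∀ b ∈ upSet D, a * b ∈ upSet D) ∧
      (lam ∈ upSet D ∧
          (∀ a ∈ upSet D, a ≠ 0 → ¬ ((3 : F) = 0 ∧ (a * lam) ^ 2 = -1) → a * lam * lam ∈ lowSet D) ∨
        (3 : F) = 0 ∧ lam ^ 2 = -1 ∧ ∀ a ∈ upSet D, a = 0 ∨ a = 1 ∨ a = -1) := by
  -- a parameter outside the exception pairs with `lam`
  have pair : ∀ s ∈ upSet D, s ≠ 0 → ¬ ((3 : F) = 0 ∧ (s * lam) ^ 2 = -1) →
      1 / lam ∈ upSet D ∧ s * lam * lam ∈ lowSet D ∧ 1 / s ∈ lowSet D := by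
    intro s hs hs0 hne
    have h := odd_fill h2 D hs hl hs0 hlam hne
    refine ⟨(h 1 (one_mem _)).1, (h _ (Subfield.subset_closure rfl)).2, ?_⟩
    have := (h _ (inv_mem (Subfield.subset_closure rfl))).2
    have e : (s * lam)⁻¹ * lam = 1 / s := by field_simp
    rwa [e] at this
  have hsq : ∀ s ∈ upSet D, s * s ∈ upSet D := by
    intro s hs
    by_cases hs0 : s = 0
    · rw [hs0, zero_mul]; exact zero_mem _
    by_cases hexc : (3 : F) = 0 ∧ (s * lam) ^ 2 = -1
    · -- the parameter is a sign or the base pair is not exceptional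
      by_cases hbase : lam ^ 2 = -1
      · have e : s * s = 1 := by
          have h3 : (s * s - 1) * lam ^ 2 = 0 := by linear_combination hexc.2 - hbase
          exact sub_eq_zero.1 ((mul_eq_zero.1 h3).resolve_right (pow_ne_zero 2 hlam))
        rw [e]; exact h1
      · have h := odd_fill h2 D h1 hl one_ne_zero hlam (by rw [one_mul]; exact fun h => hbase h.2)
        have hx : -(1 / lam) ∈ Subfield.closure ({1 * lam} : Set F) :=
          neg_mem (div_mem (one_mem _) (Subfield.subset_closure (one_mul lam).symm))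
        have := (h _ hx).1
        have e : -(1 / lam) / lam = s * s := by
          field_simp
          linear_combination -hexc.2
        rwa [e] at this
    · obtain ⟨-, -, hr⟩ := pair s hs hs0 hexc
      by_cases hexc2 : (3 : F) = 0 ∧ (1 * (1 / s)) ^ 2 = -1
      · have e : s * s = -1 := by
          have h3 := hexc2.2
          field_simp at h3
          linear_combination h3
        rw [e]; exact neg_mem h1
      · have h := odd_fill h2 D h1 hr one_ne_zero (one_div_ne_zero hs0) hexc2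
        have hs' : s ∈ Subfield.closure ({1 * (1 / s)} : Set F) := by
          have e : (1 * (1 / s))⁻¹ = s := by rw [one_mul, one_div, inv_inv]
          have m : 1 * (1 / s) ∈ Subfield.closure ({1 * (1 / s)} : Set F) := Subfield.subset_closure rfl
          have := inv_mem m
          rwa [e] at this
        have := (h _ hs').1
        rwa [div_div_eq_mul_div, div_one] at this
  have hmul : ∀ a ∈ upSet D, ∀ b ∈ upSet D, a * b ∈ upSet D := by
    intro a ha b hb
    have h3 : (a + b) * (a + b) - a * a - b * b ∈ upSet D :=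
      sub_mem (sub_mem (hsq _ (add_mem ha hb)) (hsq a ha)) (hsq b hb)
    -- halve inside the prime field
    obtain ⟨p, hp⟩ := CharP.exists F
    haveI : Fact p.Prime := ⟨CharP.char_is_prime F p⟩
    have hp2 : p ≠ 2 := fun e => h2 (by
      have := CharP.cast_eq_zero F p
      rw [e] at this
      exact_mod_cast this)
    obtain ⟨k, hk⟩ := (Fact.out : p.Prime).odd_of_ne_two hp2
    have h4 : (k + 1) • ((a + b) * (a + b) - a * a - b * b) = a * b := by
      rw [nsmul_eq_mul]
      have hp0 : ((2 * k + 1 : ℕ) : F) = 0 := by rw [← hk]; exact CharP.cast_eq_zero F p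
      push_cast at hp0 ⊢
      linear_combination a * b * hp0
    exact h4 ▸ (upSet D).nsmul_mem h3 _
  refine ⟨hmul, ?_⟩
  by_cases hsmall : (3 : F) = 0 ∧ lam ^ 2 = -1 ∧ ∀ a ∈ upSet D, a = 0 ∨ a = 1 ∨ a = -1
  · exact Or.inr hsmall
  left
  obtain ⟨s, hs, hs0, hne⟩ : ∃ s ∈ upSet D, s ≠ 0 ∧ ¬ ((3 : F) = 0 ∧ (s * lam) ^ 2 = -1) := by
    by_contra hcon
    push Not at hcon
    obtain ⟨h30, hb⟩ := hcon 1 h1 one_ne_zero
    rw [one_mul] at hb
    refine hsmall ⟨h30, hb, fun a ha => ?_⟩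
    by_cases ha0 : a = 0
    · exact Or.inl ha0
    have h3 : (a * a - 1) * lam ^ 2 = 0 := by linear_combination (hcon a ha ha0).2 - hb
    exact Or.inr (mul_self_eq_one_iff.1 (sub_eq_zero.1 ((mul_eq_zero.1 h3).resolve_right (pow_ne_zero 2 hlam))))
  have hinv : 1 / lam ∈ upSet D := (pair s hs hs0 hne).1
  -- a finite set closed under products is closed under inverses
  have hlamU : lam ∈ upSet D := by
    have hpow : ∀ n : ℕ, (1 / lam) ^ n ∈ upSet D := by
      intro n
      induction n with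
      | zero => rw [pow_zero]; exact h1
      | succ n ih => rw [pow_succ]; exact hmul _ ih _ hinv
    haveI : Fintype F := Fintype.ofFinite F
    have h3 := FiniteField.pow_card_sub_one_eq_one (1 / lam) (one_div_ne_zero hlam)
    have hcard : 2 ≤ Fintype.card F := Fintype.one_lt_card
    have e : lam = (1 / lam) ^ (Fintype.card F - 2) := by
      rw [show Fintype.card F - 1 = Fintype.card F - 2 + 1 by omega, pow_succ] at h3
      field_simp at h3 ⊢
      linear_combination -h3
    exact e ▸ hpow _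
  exact ⟨hlamU, fun a ha ha0 hne' => (pair a ha ha0 hne').2.1⟩

section two

variable [Finite F]

theorem two_coe (g : SL(2, F)) : g.1 0 0 * g.1 1 1 - g.1 0 1 * g.1 1 0 = 1 := det2 g

theorem two_conj_upR (g : SL(2, F)) (hg : g.1 1 0 = 0) (r : F) :
    g * upR r * g⁻¹ = upR (g.1 0 0 ^ 2 * r) := by
  rw [mul_inv_eq_iff_eq_mul]
  have hd := two_coe g
  rw [hg, mul_zero, sub_zero] at hd
  refine Subtype.ext ?_
  simp only [Matrix.SpecialLinearGroup.coe_mul, coe_upR]
  rw [show g.1 = !![g.1 0 0, g.1 0 1; g.1 1 0, g.1 1 1] from Matrix.eta_fin_two g.1, Matrix.mul_fin_two,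
    Matrix.mul_fin_two]
  simp [hg]
  linear_combination (-(g.1 0 0 * r)) * hd

theorem two_sq_injective (h2 : (2 : F) = 0) {a b : F} (h : a ^ 2 = b ^ 2) : a = b := by
  have h3 : (a - b) ^ 2 = 0 := by linear_combination h + (b ^ 2 - a * b) * h2
  exact sub_eq_zero.1 (eq_zero_of_pow_eq_zero h3)

theorem conj_upR_entries (g : SL(2, F)) (r : F) :
    (g * upR r * g⁻¹).1 0 1 = g.1 0 0 ^ 2 * r ∧ (g * upR r * g⁻¹).1 1 0 = -(g.1 1 0 ^ 2 * r) ∧
      (g * upR r * g⁻¹).1 0 0 = 1 - g.1 0 0 * g.1 1 0 * r ∧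
      (g * upR r * g⁻¹).1 1 1 = 1 + g.1 0 0 * g.1 1 0 * r := by
  have hd := two_coe g
  simp only [Matrix.SpecialLinearGroup.coe_mul, Matrix.SpecialLinearGroup.coe_inv, coe_upR, Matrix.adjugate_fin_two]
  refine ⟨?_, ?_, ?_, ?_⟩ <;>
    simp [Matrix.mul_apply, Fin.sum_univ_two] <;>
    first
      | ring1
      | linear_combination hd

theorem two_field (h2 : (2 : F) = 0) (D : Subgroup SL(2, F)) {lam : F} (hlam : lam ≠ 0)
    (h1 : (1 : F) ∈ upSet D) (hl : lam ∈ lowSet D) :
    (∃ d ∈ D, d * upR 1 * d⁻¹ = lowR lam) ∧ (∀ a ∈ upSet D, ∀ b ∈ upSet D, a * b ∈ upSet D) ∧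
      ((∀ a ∈ upSet D, a = 0 ∨ a = 1) ∨ lam ∈ upSet D) := by
  classical
  haveI : Fintype F := Fintype.ofFinite F
  set S := upSet D with hS
  have hone : ∀ s : F, upR s * upR s = (1 : SL(2, F)) := fun s => by
    rw [← upR_add, show s + s = 0 by linear_combination s * h2, upR_zero]
  -- involutions with different fixed points are conjugate
  have hconj : ∀ s : F, s ≠ 0 → upR s ∈ D → ∃ d ∈ D, d * upR s * d⁻¹ = lowR lam := by
    intro s hs hsD
    have ho : ∀ g : SL(2, F), g * g = 1 → g ≠ 1 → orderOf g = 2 := fun g hg hg1 =>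
      orderOf_eq_prime (by rw [pow_two]; exact hg) hg1
    have hx : orderOf (upR s : SL(2, F)) = 2 := ho _ (hone s) fun e => hs (by
      have := congrArg (fun A : SL(2, F) => A.1 0 1) e
      simpa [coe_upR] using this)
    have hy : orderOf (lowR lam : SL(2, F)) = 2 := ho _ (by
        rw [← lowR_add, show lam + lam = 0 by linear_combination lam * h2, lowR_zero]) fun e => hlam (by
      have := congrArg (fun A : SL(2, F) => A.1 1 0) e
      simpa [coe_lowR] using this)
    have hodd : Odd (orderOf (upR s * lowR lam : SL(2, F))) := by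
      by_contra hev
      rw [Nat.not_odd_iff_even, even_iff_two_dvd] at hev
      obtain ⟨k, hk⟩ := hev
      set w := upR s * lowR lam with hw
      have hpos : 0 < orderOf w := orderOf_pos w
      set z := w ^ k with hz
      have hz2 : z * z = 1 := by rw [hz, ← pow_add, ← two_mul, ← hk, pow_orderOf_eq_one]
      have hzinv : z⁻¹ = z := inv_eq_of_mul_eq_one_right hz2
      have hcx : upR s * z * (upR s)⁻¹ = z := by
        have e : upR s * w * (upR s)⁻¹ = w⁻¹ := by
          have hyy : (lowR lam : SL(2, F))⁻¹ = lowR lam :=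
            inv_eq_of_mul_eq_one_right (by rw [← pow_two]; exact orderOf_dvd_iff_pow_eq_one.1 hy.dvd)
          rw [hw, _root_.mul_inv_rev, hyy, inv_eq_of_mul_eq_one_right (hone s), ← mul_assoc, hone, one_mul]
        rw [hz, ← conj_pow, e, inv_pow, ← hz, hzinv]
      have hcy : lowR lam * z = z * lowR lam := by
        have hw' : Commute w z := Commute.pow_right (Commute.refl w) k
        have hx' : Commute (upR s) z := mul_inv_eq_iff_eq_mul.1 hcx
        have : lowR lam = upR s * w := by rw [hw, ← mul_assoc, hone, one_mul]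
        rw [this]
        exact (hx'.mul_left hw').eq
      have hcx' : upR s * z = z * upR s := mul_inv_eq_iff_eq_mul.1 hcx
      have e1 := congrArg (fun A : SL(2, F) => A.1 0 0) hcx'
      have e2 := congrArg (fun A : SL(2, F) => A.1 1 1) hcy
      simp [Matrix.SpecialLinearGroup.coe_mul, coe_upR, coe_lowR, Matrix.mul_apply, Fin.sum_univ_two] at e1 e2
      have z10 : z.1 1 0 = 0 := e1.resolve_left hs
      have z01 : z.1 0 1 = 0 := e2.resolve_left hlam
      have e3 := congrArg (fun A : SL(2, F) => A.1 0 0) hz2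
      have e4 := congrArg (fun A : SL(2, F) => A.1 1 1) hz2
      simp [Matrix.SpecialLinearGroup.coe_mul, Matrix.mul_apply, Fin.sum_univ_two, z10, z01] at e3 e4
      have hz1 : z = 1 := by
        refine Subtype.ext ?_
        ext i j
        fin_cases i <;> fin_cases j <;>
          simp [z10, z01] <;>
          first
            | exact two_sq_injective h2 (by rw [one_pow, pow_two]; rcases e3 with rfl | rfl <;> ring)
            | exact two_sq_injective h2 (by rw [one_pow, pow_two]; rcases e4 with h | h <;> rw [h] <;> ring)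
            | exact two_sq_injective h2 (by rw [one_pow, pow_two]; assumption)
      have := Nat.le_of_dvd (by omega) (orderOf_dvd_of_pow_eq_one (show w ^ k = 1 from hz1))
      omega
    obtain ⟨d, hd, he⟩ := Invol.exists_conj_of_odd hx hy hodd
    exact ⟨d, (Subgroup.closure_le D).2 (by rintro _ (rfl | rfl) <;> assumption) hd, he⟩
  obtain ⟨d₁, hd₁, he₁⟩ := hconj 1 one_ne_zero h1
  have hB : ∀ g : SL(2, F), g ∈ D → g.1 1 0 = 0 → ∀ s ∈ S, g.1 0 0 ^ 2 * s ∈ S := by
    intro g hg h10 s hs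
    show upR _ ∈ D
    rw [← two_conj_upR g h10]
    exact mul_mem (mul_mem hg hs) (inv_mem hg)
  have hfix : ∀ s ∈ S, s ≠ 0 → ∃ g ∈ D, g.1 1 0 = 0 ∧ g.1 0 0 ^ 2 = s := by
    intro s hs hs0
    obtain ⟨d, hd, he⟩ := hconj s hs0 hs
    refine ⟨d⁻¹ * d₁, mul_mem (inv_mem hd) hd₁, ?_⟩
    have h3 : d⁻¹ * d₁ * upR 1 * (d⁻¹ * d₁)⁻¹ = upR s := by
      calc d⁻¹ * d₁ * upR 1 * (d⁻¹ * d₁)⁻¹ = d⁻¹ * (d₁ * upR 1 * d₁⁻¹) * d := by group
        _ = upR s := by rw [he₁, ← he]; group
    obtain ⟨a01, a10, -, -⟩ := conj_upR_entries (d⁻¹ * d₁) 1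
    rw [h3] at a01 a10
    simp [coe_upR] at a01 a10
    exact ⟨a10, a01.symm⟩
  have hmul : ∀ a ∈ S, ∀ b ∈ S, a * b ∈ S := by
    intro a ha b hb
    by_cases ha0 : a = 0
    · rw [ha0, zero_mul]; exact zero_mem _
    obtain ⟨g, hg, h10, he⟩ := hfix a ha ha0
    exact he ▸ hB g hg h10 b hb
  refine ⟨⟨d₁, hd₁, he₁⟩, hmul, ?_⟩
  by_cases hsmall : ∀ a ∈ S, a = 0 ∨ a = 1
  · exact Or.inl hsmall
  right
  push Not at hsmall
  obtain ⟨s₀, hs₀, hs₀0, hs₀1⟩ := hsmall
  -- the points other than infinity and the counting of involutions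
  let S' := {s : F // s ∈ S ∧ s ≠ 0}
  let Inv' := {g : SL(2, F) // g ∈ D ∧ g * g = 1 ∧ g.1 1 0 ≠ 0}
  let Pt := {z : F // ∃ g ∈ D, g.1 1 0 ≠ 0 ∧ z = g.1 0 0 / g.1 1 0}
  haveI : Fintype S' := Fintype.ofFinite _
  haveI : Fintype Inv' := Fintype.ofFinite _
  haveI : Fintype Pt := Fintype.ofFinite _
  choose gp hgp hgp0 hgpz using fun z : Pt => z.2
  let ι : Pt × S' → Inv' := fun zs =>
    ⟨gp zs.1 * upR zs.2.1 * (gp zs.1)⁻¹, mul_mem (mul_mem (hgp _) zs.2.2.1) (inv_mem (hgp _)),
      by rw [show gp zs.1 * upR zs.2.1 * (gp zs.1)⁻¹ * (gp zs.1 * upR zs.2.1 * (gp zs.1)⁻¹) =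
          gp zs.1 * (upR zs.2.1 * upR zs.2.1) * (gp zs.1)⁻¹ by group, hone]; group,
      by
        rw [(conj_upR_entries (gp zs.1) zs.2.1).2.1]
        exact neg_ne_zero.2 (mul_ne_zero (pow_ne_zero _ (hgp0 _)) zs.2.2.2)⟩
  have hι : Function.Injective ι := by
    rintro ⟨z, s⟩ ⟨z', s'⟩ h
    have h0 := congrArg Subtype.val h
    have h01 := congrArg (fun A : SL(2, F) => A.1 0 1) h0
    have h10 := congrArg (fun A : SL(2, F) => A.1 1 0) h0
    simp only [ι, (conj_upR_entries _ _).1, (conj_upR_entries _ _).2.1, neg_inj] at h01 h10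
    have hne1 := mul_ne_zero (pow_ne_zero 2 (hgp0 z)) s.2.2
    have hz : z = z' := by
      refine Subtype.ext (two_sq_injective h2 ?_)
      rw [hgpz z, hgpz z', div_pow, div_pow, div_eq_div_iff (pow_ne_zero 2 (hgp0 z)) (pow_ne_zero 2 (hgp0 z'))]
      refine mul_right_cancel₀ s'.2.2 ?_
      refine mul_right_cancel₀ s.2.2 ?_
      linear_combination (gp z').1 1 0 ^ 2 * s'.1 * h01 - (gp z').1 0 0 ^ 2 * s'.1 * h10
    subst hz
    exact Prod.ext rfl (Subtype.ext (mul_left_cancel₀ (pow_ne_zero 2 (hgp0 z)) h10))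
  let f : Inv' → Pt := fun g => ⟨g.1.1 0 0 / g.1.1 1 0, g.1, g.2.1, g.2.2.2, rfl⟩
  have hdiag : ∀ g : Inv', g.1.1 1 1 = g.1.1 0 0 := by
    intro g
    have e := congrArg (fun A : SL(2, F) => A.1 1 0) g.2.2.1
    simp [Matrix.SpecialLinearGroup.coe_mul, Matrix.mul_apply, Fin.sum_univ_two] at e
    have h3 : g.1.1 1 0 * (g.1.1 1 1 - g.1.1 0 0) = 0 := by linear_combination e - g.1.1 1 0 * g.1.1 0 0 * h2
    exact sub_eq_zero.1 ((mul_eq_zero.1 h3).resolve_left g.2.2.2)
  let T : Pt → Type _ := fun z => {h : SL(2, F) // h ∈ D ∧ h.1 1 0 = 0 ∧ h.1 0 0 * z.1 + h.1 0 1 = z.1 * h.1 1 1}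
  have hTinj : ∀ z, ∃ e : T z → S', Function.Injective e ∧ ∀ h, (e h).1 = h.1.1 0 0 ^ 2 := by
    intro z
    have hmem : ∀ h : T z, h.1.1 0 0 ^ 2 ∈ S ∧ h.1.1 0 0 ^ 2 ≠ 0 := fun h => by
      refine ⟨by simpa using hB h.1 h.2.1 h.2.2.1 1 h1, pow_ne_zero _ fun e => ?_⟩
      have := two_coe h.1
      rw [h.2.2.1, e] at this
      simp at this
    refine ⟨fun h => ⟨_, hmem h⟩, fun h h' he => ?_, fun h => rfl⟩
    have h00 : h.1.1 0 0 = h'.1.1 0 0 := two_sq_injective h2 (congrArg Subtype.val he)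
    have d1 := two_coe h.1
    have d2 := two_coe h'.1
    rw [h.2.2.1, mul_zero, sub_zero] at d1
    rw [h'.2.2.1, mul_zero, sub_zero] at d2
    have h11 : h.1.1 1 1 = h'.1.1 1 1 := by
      refine mul_left_cancel₀ (fun e => ?_) (d1.trans (by rw [h00]; exact d2.symm))
      rw [e, zero_mul] at d1
      exact zero_ne_one d1
    refine Subtype.ext (ext_entries h00 ?_ (h.2.2.1.trans h'.2.2.1.symm) h11)
    linear_combination h.2.2.2 - h'.2.2.2 - z.1 * h00 + z.1 * h11
  have hfib : ∀ z, ∀ g₀ : Inv', f g₀ = z → ∃ e : {g : Inv' // f g = z} → T z, Function.Injective e := by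
    intro z g₀ hg₀
    have key : ∀ g : {g : Inv' // f g = z}, (g₀.1 * g.1.1).1 1 0 = 0 ∧
        (g₀.1 * g.1.1).1 0 0 * z.1 + (g₀.1 * g.1.1).1 0 1 = z.1 * (g₀.1 * g.1.1).1 1 1 := by
      intro g
      have hz : g₀.1.1 0 0 = z.1 * g₀.1.1 1 0 := by
        rw [show z.1 = g₀.1.1 0 0 / g₀.1.1 1 0 from (congrArg Subtype.val hg₀).symm]
        exact (div_mul_cancel₀ _ g₀.2.2.2).symm
      have hz' : g.1.1.1 0 0 = z.1 * g.1.1.1 1 0 := by
        rw [show z.1 = g.1.1.1 0 0 / g.1.1.1 1 0 from (congrArg Subtype.val g.2).symm]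
        exact (div_mul_cancel₀ _ g.1.2.2.2).symm
      have d0 := two_coe g₀.1
      have d1 := two_coe g.1.1
      rw [hdiag] at d0 d1
      simp [Matrix.SpecialLinearGroup.coe_mul, Matrix.mul_apply, Fin.sum_univ_two, hdiag, hz, hz']
      rw [hz] at d0
      rw [hz'] at d1
      constructor
      · linear_combination z.1 * g₀.1.1 1 0 * g.1.1.1 1 0 * h2
      · linear_combination z.1 * g₀.1.1 0 1 * g.1.1.1 1 0 * h2
    refine ⟨fun g => ⟨g₀.1 * g.1.1, mul_mem g₀.2.1 g.1.2.1, key g⟩, fun a b h => ?_⟩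
    have := congrArg Subtype.val h
    exact Subtype.ext (Subtype.ext (mul_left_cancel this))
  have hle : ∀ z, Fintype.card {g : Inv' // f g = z} ≤ Fintype.card S' := by
    intro z
    by_cases hne : Nonempty {g : Inv' // f g = z}
    · obtain ⟨g₀⟩ := hne
      obtain ⟨e, he⟩ := hfib z g₀.1 g₀.2
      obtain ⟨e', he', -⟩ := hTinj z
      exact Fintype.card_le_of_injective _ (he'.comp he)
    · rw [not_nonempty_iff] at hne
      simp
  have hsum : Fintype.card Inv' = ∑ z, Fintype.card {g : Inv' // f g = z} := by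
    rw [← Fintype.card_sigma]
    exact Fintype.card_congr (Equiv.sigmaFiberEquiv f).symm
  have hall : ∀ z, Fintype.card {g : Inv' // f g = z} = Fintype.card S' := by
    intro z
    refine (hle z).antisymm (le_of_not_gt fun hlt => ?_)
    have h3 := Finset.sum_lt_sum (fun z _ => hle z) ⟨z, Finset.mem_univ z, hlt⟩
    rw [← hsum, Finset.sum_const, Finset.card_univ, smul_eq_mul] at h3
    have h4 := Fintype.card_le_of_injective ι hι
    rw [Fintype.card_prod] at h4
    omega
  have hfull : ∀ z, ∀ s : S', ∃ h : T z, h.1.1 0 0 ^ 2 = s.1 := by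
    intro z s
    have hne : Nonempty {g : Inv' // f g = z} := Fintype.card_pos_iff.1 (by
      rw [hall]; exact Fintype.card_pos_iff.2 ⟨s⟩)
    obtain ⟨g₀⟩ := hne
    obtain ⟨e, he⟩ := hfib z g₀.1 g₀.2
    obtain ⟨e', he', he''⟩ := hTinj z
    have hb := (Fintype.bijective_iff_injective_and_card (e' ∘ e)).2 ⟨he'.comp he, hall z⟩
    obtain ⟨g, hg⟩ := hb.2 s
    exact ⟨e g, by rw [← he'', ← hg]; rfl⟩
  obtain ⟨a01, a10, -, -⟩ := conj_upR_entries d₁ 1
  rw [he₁] at a01 a10
  simp [coe_lowR] at a01 a10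
  have hd00 : d₁.1 0 0 = 0 := by simpa using a01.symm
  have hd10 : d₁.1 1 0 ≠ 0 := fun e => hlam (by rw [a10, e]; simp)
  let z0 : Pt := ⟨0, d₁, hd₁, hd10, by rw [hd00, zero_div]⟩
  let z1 : Pt := ⟨1 / lam, lowR lam, hl, by simpa [coe_lowR] using hlam, by simp [coe_lowR]⟩
  obtain ⟨h, hh⟩ := hfull z1 ⟨s₀, hs₀, hs₀0⟩
  obtain ⟨h', hh'⟩ := hfull z0 ⟨s₀, hs₀, hs₀0⟩
  have h00 : h.1.1 0 0 = h'.1.1 0 0 := two_sq_injective h2 (hh.trans hh'.symm)
  have d1 := two_coe h.1
  have d2 := two_coe h'.1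
  rw [h.2.2.1, mul_zero, sub_zero] at d1
  rw [h'.2.2.1, mul_zero, sub_zero] at d2
  have c1 : h.1.1 0 0 * (1 / lam) + h.1.1 0 1 = 1 / lam * h.1.1 1 1 := h.2.2.2
  have c2 : h'.1.1 0 1 = 0 := by simpa [z0] using h'.2.2.2
  have e0 : h.1 * h'.1⁻¹ = upR ((1 / lam) * (s₀ + 1)) := by
    refine Subtype.ext ?_
    simp only [Matrix.SpecialLinearGroup.coe_mul, Matrix.SpecialLinearGroup.coe_inv, coe_upR, Matrix.adjugate_fin_two]
    ext i j
    fin_cases i <;> fin_cases j <;>
      simp [Matrix.mul_apply, Fin.sum_univ_two, h.2.2.1, h'.2.2.1, c2] <;>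
      first
        | linear_combination d2 + h'.1.1 1 1 * h00
        | linear_combination d1 - h.1.1 1 1 * h00
        | (rw [← h00]; linear_combination h.1.1 0 0 * c1 + (1 / lam) * d1 - (1 / lam) * hh + (1 / lam) * (-s₀) * h2)
  have hS1 : (1 / lam) * (s₀ + 1) ∈ S := by
    show upR _ ∈ D
    rw [← e0]; exact mul_mem h.2.1 (inv_mem h'.2.1)
  -- invert inside the finite multiplicatively closed set
  have hinv : ∀ a ∈ S, a ≠ 0 → a⁻¹ ∈ S := by
    intro a ha ha0
    have hpow : ∀ n : ℕ, a ^ n ∈ S := by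
      intro n
      induction n with
      | zero => rw [pow_zero]; exact h1
      | succ n ih => rw [pow_succ]; exact hmul _ ih _ ha
    have h3 := FiniteField.pow_card_sub_one_eq_one a ha0
    have hcard : 2 ≤ Fintype.card F := Fintype.one_lt_card
    have e : a⁻¹ = a ^ (Fintype.card F - 2) := by
      rw [show Fintype.card F - 1 = Fintype.card F - 2 + 1 by omega, pow_succ] at h3
      exact inv_eq_of_mul_eq_one_left h3
    exact e ▸ hpow _
  have hne : s₀ + 1 ≠ 0 := fun e => hs₀1 (by linear_combination e - h2)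
  have h3 := hmul _ hS1 _ (hinv _ (add_mem hs₀ h1) hne)
  rw [mul_assoc, mul_inv_cancel₀ hne, mul_one] at h3
  simpa using hinv _ h3 (one_div_ne_zero hlam)

end two

end Cfsg.Agent.ResidualThree
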