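import Cfsg.Agent.ResidualThree.Realise

/-!
Transvections in a group: linking, conjugation and the existence of a frame.
-/

set_option autoImplicit false

namespace Cfsg.Agent.ResidualThree

open Matrix Cfsg.Geo Cfsg.Agent.PrimeDim
open scoped MatrixGroups

variable {F : Type*} [Field F] {P : Subgroup (GL (Fin 3) F)}

local notation "M3" => Matrix (Fin 3) (Fin 3) F

/-- `1 + X` is a transvection in `P`. -/
def IsTv (P : Subgroup (GL (Fin 3) F)) (X : M3) : Prop :=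
  X ≠ 0 ∧ X * X = 0 ∧ ∃ g ∈ P, mat g = 1 + X

/-- No transvection lies in `P`. -/
def NoTv (P : Subgroup (GL (Fin 3) F)) : Prop := ∀ X : M3, ¬ IsTv P X

theorem IsTv.rep {X : M3} (hX : IsTv P X) :
    ∃ v α : Fin 3 → F, v ≠ 0 ∧ α ≠ 0 ∧ α ⬝ᵥ v = 0 ∧ X = vecMulVec v α :=
  exists_vecMulVec hX.2.1 hX.1

theorem isTv_of_sq {g : GL (Fin 3) F} (hg : g ∈ P) (h1 : g ≠ 1) (h2 : (mat g - 1) * (mat g - 1) = 0) :
    IsTv P (mat g - 1) := by
  refine ⟨fun e => h1 (Units.ext ?_), h2, g, hg, by rw [add_sub_cancel]⟩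
  rw [Units.val_one]
  exact sub_eq_zero.1 e

theorem one_add_mul_one_sub {X : M3} (h : X * X = 0) : (1 + X) * (1 - X) = 1 := by
  rw [add_mul, mul_sub, one_mul, mul_sub, mul_one, h, sub_zero, one_mul, sub_add_cancel]

theorem inv_mat {g : GL (Fin 3) F} {X : M3} (h : X * X = 0) (hg : mat g = 1 + X) : mat g⁻¹ = 1 - X := by
  rw [mat, Matrix.coe_units_inv, show ((g : GL (Fin 3) F) : M3) = 1 + X from hg]
  exact Matrix.inv_eq_right_inv (one_add_mul_one_sub h)

theorem IsTv.neg {X : M3} (hX : IsTv P X) : IsTv P (-X) := by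
  obtain ⟨g, hg, hgX⟩ := hX.2.2
  exact ⟨neg_ne_zero.2 hX.1, by rw [neg_mul_neg, hX.2.1], g⁻¹, inv_mem hg, by
    rw [inv_mat hX.2.1 hgX, sub_eq_add_neg]⟩

/-- Conjugation of a matrix by a group element. -/
def cj (h : GL (Fin 3) F) (X : M3) : M3 := mat h * X * mat h⁻¹

theorem cj_mul (a b : GL (Fin 3) F) (X : M3) : cj (a * b) X = cj a (cj b X) := by
  simp only [cj, mat, _root_.mul_inv_rev, Units.val_mul, mul_assoc]

theorem cj_one (X : M3) : cj 1 X = X := by simp [cj, mat]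

theorem cj_prod (h : GL (Fin 3) F) (X Y : M3) : cj h (X * Y) = cj h X * cj h Y := by
  simp only [cj, mul_assoc]
  rw [← mul_assoc (mat h⁻¹) (mat h), mat_inv_mul, one_mul]

theorem cj_trace (h : GL (Fin 3) F) (X : M3) : (cj h X).trace = X.trace := by
  rw [cj, Matrix.trace_mul_cycle, mat_inv_mul, one_mul]

theorem cj_mat (h g : GL (Fin 3) F) : cj h (mat g) = mat (h * g * h⁻¹) := by
  simp [cj, mat]

theorem IsTv.conj {X : M3} (hX : IsTv P X) {h : GL (Fin 3) F} (hh : h ∈ P) : IsTv P (cj h X) := by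
  obtain ⟨g, hg, hgX⟩ := hX.2.2
  refine ⟨fun e => hX.1 ?_, by rw [← cj_prod, hX.2.1]; simp [cj], h * g * h⁻¹,
    mul_mem (mul_mem hh hg) (inv_mem hh), ?_⟩
  · have h1 : cj h⁻¹ (cj h X) = X := by rw [← cj_mul, inv_mul_cancel, cj_one]
    rw [← h1, e]
    simp [cj]
  · rw [← cj_mat, hgX, cj, mul_add, add_mul, mul_one, mat_mul_inv]
    rfl

theorem tv_mul_tv {v α : Fin 3 → F} (w β : Fin 3 → F) :
    vecMulVec v α * vecMulVec w β = (α ⬝ᵥ w) • vecMulVec v β := by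
  rw [vecMulVec_mul_vecMulVec, vecMulVec_smul]

theorem sandwich {T : M3} (hT : T * T = 0) (Y : M3) : T * Y * T = (T * Y).trace • T := by
  by_cases h0 : T = 0
  · simp [h0]
  obtain ⟨v, α, -, -, -, rfl⟩ := exists_vecMulVec hT h0
  rw [vecMulVec_mul, vecMulVec_mul_vecMulVec, trace_vecMulVec, vecMulVec_smul, dotProduct_comm]

/-- Conjugation by a transvection. -/
theorem cj_transvection {g : GL (Fin 3) F} {T : M3} (hT : T * T = 0) (hg : mat g = 1 + T) (Y : M3) :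
    cj g Y = Y + (T * Y - Y * T) - (T * Y).trace • T := by
  rw [cj, hg, inv_mat hT hg, ← sandwich hT]
  noncomm_ring

theorem IsTv.move {T Y : M3} (hT : IsTv P T) (hY : IsTv P Y) :
    IsTv P (Y + (T * Y - Y * T) - (T * Y).trace • T) := by
  obtain ⟨g, hg, hgT⟩ := hT.2.2
  rw [← cj_transvection hT.2.1 hgT]
  exact hY.conj hg

theorem mulVec_transvection {g : GL (Fin 3) F} {X : M3} (hg : mat g = 1 + X) (x : Fin 3 → F) :
    mat g *ᵥ x = x + X *ᵥ x := by
  rw [hg, Matrix.add_mulVec, Matrix.one_mulVec]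

/-- A subspace stable under the conjugates of one transvection is stable under the group. -/
theorem Core.inv_of_conj (hP : Core P) {X : M3} (hX : IsTv P X) {W : Submodule F (Fin 3 → F)}
    (hW : ∀ h ∈ P, ∀ x ∈ W, cj h X *ᵥ x ∈ W) : Inv P W := by
  obtain ⟨g, hg, hgX⟩ := hX.2.2
  let S : Set (GL (Fin 3) F) := {k | ∃ h ∈ P, k = h * g * h⁻¹}
  have hSP : Subgroup.closure S ≤ P := (Subgroup.closure_le P).2 <| by
    rintro _ ⟨h, hh, rfl⟩
    exact mul_mem (mul_mem hh hg) (inv_mem hh)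
  have hn : Normalised P (Subgroup.closure S) := by
    intro k hk x hx
    induction hx using Subgroup.closure_induction with
    | mem y hy =>
      obtain ⟨h, hh, rfl⟩ := hy
      exact Subgroup.subset_closure ⟨k * h, mul_mem hk hh, by group⟩
    | one => simp
    | mul a b _ _ h1 h2 =>
      rw [show k * (a * b) * k⁻¹ = (k * a * k⁻¹) * (k * b * k⁻¹) by group]
      exact mul_mem h1 h2
    | inv a _ h1 =>
      rw [show k * a⁻¹ * k⁻¹ = (k * a * k⁻¹)⁻¹ by group]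
      exact inv_mem h1
  have hS : Subgroup.closure S = P := (hP.normal_cases hSP hn).resolve_left fun hle => by
    have h1 : g ∈ scalars (Fin 3) F := hle (Subgroup.subset_closure ⟨1, one_mem P, by group⟩)
    obtain ⟨c, hc⟩ := (mem_scalars_iff g).1 h1
    rw [show mat g = (g : M3) from rfl] at hgX
    rw [hgX] at hc
    have hXs : X = ((c : F) - 1) • (1 : M3) := by rw [sub_smul, one_smul, ← hc, add_sub_cancel_left]
    have h2 := hX.2.1
    rw [hXs, smul_mul_smul_comm, one_mul, smul_eq_zero] at h2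
    have h3 : (c : F) - 1 = 0 := mul_self_eq_zero.1 (h2.resolve_right one_ne_zero)
    exact hX.1 (by rw [hXs, h3, zero_smul])
  intro k hk
  rw [← hS] at hk
  have hboth : ∀ x ∈ W, mat k *ᵥ x ∈ W ∧ mat k⁻¹ *ᵥ x ∈ W := by
    induction hk using Subgroup.closure_induction with
    | mem y hy =>
      obtain ⟨h, hh, rfl⟩ := hy
      have hy : mat (h * g * h⁻¹) = 1 + cj h X := by
        rw [← cj_mat, hgX, cj, mul_add, add_mul, mul_one, mat_mul_inv]; rfl
      intro x hx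
      refine ⟨?_, ?_⟩
      · rw [mulVec_transvection hy]; exact W.add_mem hx (hW h hh x hx)
      · rw [inv_mat (hX.conj hh).2.1 hy, Matrix.sub_mulVec, Matrix.one_mulVec]
        exact W.sub_mem hx (hW h hh x hx)
    | one => intro x hx; simp [mat, hx]
    | mul a b _ _ ha hb =>
      intro x hx
      refine ⟨?_, ?_⟩
      · rw [← mulVec_mul]; exact (ha _ (hb x hx).1).1
      · rw [_root_.mul_inv_rev, ← mulVec_mul]; exact (hb _ (ha x hx).2).2
    | inv a _ ha => intro x hx; rw [inv_inv]; exact (ha x hx).symm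
  exact fun x hx => (hboth x hx).1

/-- Some conjugate moves a given vector. -/
theorem Core.exists_moves (hP : Core P) {X : M3} (hX : IsTv P X) {b : Fin 3 → F} (hb : b ≠ 0) :
    ∃ h ∈ P, cj h X *ᵥ b ≠ 0 := by
  by_contra hcon
  push Not at hcon
  have hI : Inv P (Submodule.span F {b}) := hP.inv_of_conj hX fun h hh x hx => by
    obtain ⟨a, rfl⟩ := Submodule.mem_span_singleton.1 hx
    rw [Matrix.mulVec_smul, hcon h hh, smul_zero]
    exact zero_mem _
  have htop := hP.not_inv hI (Submodule.subset_span rfl) hb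
  have h2 : Module.finrank F (Submodule.span F {b}) = 1 := finrank_span_singleton hb
  rw [htop, finrank_top, Module.finrank_fintype_fun_eq_card, Fintype.card_fin] at h2
  omega

/-- Some conjugate has its centre outside a given plane. -/
theorem Core.exists_centre (hP : Core P) {X : M3} (hX : IsTv P X) {n : Fin 3 → F} (hn : n ≠ 0) :
    ∃ h ∈ P, ∃ x, n ⬝ᵥ (cj h X *ᵥ x) ≠ 0 := by
  by_contra hcon
  push Not at hcon
  have hI : Inv P (dker n) := hP.inv_of_conj hX fun h hh x _ => hcon h hh x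
  have h2 := finrank_dker hn
  rcases hP.irr _ hI with h1 | h1
  · rw [h1, finrank_bot] at h2; omega
  · rw [h1, finrank_top, Module.finrank_fintype_fun_eq_card, Fintype.card_fin] at h2; omega

/-- Every transvection is linked to some conjugate of any other. -/
theorem Core.exists_linked (hP : Core P) {X Y : M3} (hX : IsTv P X) (hY : IsTv P Y) :
    ∃ h ∈ P, (Y * cj h X).trace ≠ 0 := by
  by_contra hcon
  push Not at hcon
  obtain ⟨w, β, hw, hβ, hβw, rfl⟩ := hY.rep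
  let Sgen : Set (Fin 3 → F) := insert w {z | ∃ h ∈ P, cj h X *ᵥ w ≠ 0 ∧ ∃ x, z = cj h X *ᵥ x}
  have hker : Submodule.span F Sgen ≤ dker β := by
    rw [Submodule.span_le]
    rintro z (rfl | ⟨h, hh, hne, x, rfl⟩)
    · exact mem_dker.2 hβw
    · have h0 := hcon h hh
      rw [vecMulVec_mul, trace_vecMulVec] at h0
      obtain ⟨v, α, -, -, -, hrep⟩ := (hX.conj hh).rep
      rw [hrep] at h0 hne ⊢
      rw [vecMul_vecMulVec, dotProduct_smul, smul_eq_mul, dotProduct_comm w α] at h0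
      rw [SetLike.mem_coe, mem_dker, vecMulVec_mulVec, op_smul_eq_smul, dotProduct_smul, smul_eq_mul]
      rw [vecMulVec_mulVec, op_smul_eq_smul] at hne
      rcases mul_eq_zero.1 h0 with h1 | h1
      · rw [h1, mul_zero]
      · exact absurd (by rw [h1, zero_smul]) hne
  have hI : Inv P (Submodule.span F Sgen) := hP.inv_of_conj hX fun h hh z hz => by
    induction hz using Submodule.span_induction with
    | mem z hz =>
      by_cases hzw : cj h X *ᵥ w = 0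
      · rcases hz with rfl | ⟨k, hk, hne, x, rfl⟩
        · rw [hzw]; exact zero_mem _
        obtain ⟨g, hg, hgX⟩ := (hX.conj hh).2.2
        have h1 : mat g *ᵥ (cj k X *ᵥ x) ∈ Submodule.span F Sgen := by
          refine Submodule.subset_span (Or.inr ⟨g * k, mul_mem hg hk, ?_, mat g *ᵥ x, ?_⟩)
          · intro e
            apply hne
            apply mulVec_injective g
            show mat g *ᵥ (cj k X *ᵥ w) = mat g *ᵥ 0
            have hfix : mat g⁻¹ *ᵥ w = w := by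
              rw [inv_mat (hX.conj hh).2.1 hgX, Matrix.sub_mulVec, Matrix.one_mulVec, hzw, sub_zero]
            rw [Matrix.mulVec_zero, ← e, cj_mul]
            show _ = (mat g * cj k X * mat g⁻¹) *ᵥ w
            rw [← Matrix.mulVec_mulVec w (mat g * cj k X) (mat g⁻¹), hfix, Matrix.mulVec_mulVec]
          · rw [cj_mul]
            show _ = (mat g * cj k X * mat g⁻¹) *ᵥ (mat g *ᵥ x)
            rw [Matrix.mulVec_mulVec _ _ (mat g), mul_assoc, mat_inv_mul, mul_one, Matrix.mulVec_mulVec]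
        rw [mulVec_transvection hgX] at h1
        have h2 := Submodule.subset_span (R := F) (s := Sgen) (Or.inr ⟨k, hk, hne, x, rfl⟩)
        simpa using Submodule.sub_mem _ h1 h2
      · exact Submodule.subset_span (Or.inr ⟨h, hh, hzw, z, rfl⟩)
    | zero => rw [Matrix.mulVec_zero]; exact zero_mem _
    | add a b _ _ ha hb => rw [Matrix.mulVec_add]; exact add_mem ha hb
    | smul c a _ ha => rw [Matrix.mulVec_smul]; exact Submodule.smul_mem _ c ha
  have htop := hP.not_inv hI (Submodule.subset_span (Set.mem_insert _ _)) hw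
  have h2 := finrank_dker hβ
  have h3 := Submodule.finrank_mono hker
  rw [htop, finrank_top, Module.finrank_fintype_fun_eq_card, Fintype.card_fin, h2] at h3
  omega

theorem trace_pair (v α w β : Fin 3 → F) :
    (vecMulVec v α * vecMulVec w β).trace = (α ⬝ᵥ w) * (β ⬝ᵥ v) := by
  rw [tv_mul_tv, Matrix.trace_smul, trace_vecMulVec, smul_eq_mul, dotProduct_comm v]

theorem trace_triple (u α v β w γ : Fin 3 → F) :
    (vecMulVec u α * vecMulVec v β * vecMulVec w γ).trace = (α ⬝ᵥ v) * (β ⬝ᵥ w) * (γ ⬝ᵥ u) := by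
  rw [tv_mul_tv, Matrix.smul_mul, tv_mul_tv, Matrix.trace_smul, Matrix.trace_smul, trace_vecMulVec, smul_eq_mul,
    smul_eq_mul, dotProduct_comm u, mul_assoc]

/-- A linked pair extends to a frame. -/
theorem Core.exists_third (hP : Core P) {X₁ X₂ : M3} (h₁ : IsTv P X₁) (h₂ : IsTv P X₂)
    (hl : (X₁ * X₂).trace ≠ 0) :
    ∃ X₃, IsTv P X₃ ∧ (X₁ * X₂ * X₃).trace + (X₁ * X₃ * X₂).trace ≠ 0 := by
  obtain ⟨v₁, α₁, -, -, hαv₁, rfl⟩ := h₁.rep
  obtain ⟨v₂, α₂, -, -, hαv₂, rfl⟩ := h₂.rep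
  rw [trace_pair] at hl
  obtain ⟨hM12, hM21⟩ := mul_ne_zero_iff.1 hl
  have hb : α₁ ⨯₃ α₂ ≠ 0 := by
    rw [crossProduct_ne_zero_iff_linearIndependent, LinearIndependent.pair_iff]
    intro s t hst
    have h1 := congrArg (fun α : Fin 3 → F => α ⬝ᵥ v₁) hst
    simp only [add_dotProduct, smul_dotProduct, hαv₁, smul_zero, zero_add, zero_dotProduct, smul_eq_mul,
      mul_eq_zero] at h1
    have h2 := congrArg (fun α : Fin 3 → F => α ⬝ᵥ v₂) hst
    simp only [add_dotProduct, smul_dotProduct, hαv₂, smul_zero, add_zero, zero_dotProduct, smul_eq_mul,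
      mul_eq_zero] at h2
    simp only [mul_zero, zero_add, add_zero, mul_eq_zero] at h1 h2
    exact ⟨h2.resolve_right hM12, h1.resolve_right hM21⟩
  have hn : v₁ ⨯₃ v₂ ≠ 0 := by
    rw [crossProduct_ne_zero_iff_linearIndependent, LinearIndependent.pair_iff]
    intro s t hst
    have h1 := congrArg (fun v : Fin 3 → F => α₁ ⬝ᵥ v) hst
    simp only [dotProduct_add, dotProduct_smul, hαv₁, smul_zero, zero_add, dotProduct_zero, smul_eq_mul,
      mul_eq_zero] at h1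
    have h2 := congrArg (fun v : Fin 3 → F => α₂ ⬝ᵥ v) hst
    simp only [dotProduct_add, dotProduct_smul, hαv₂, smul_zero, add_zero, dotProduct_zero, smul_eq_mul,
      mul_eq_zero] at h2
    simp only [mul_zero, zero_add, add_zero, mul_eq_zero] at h1 h2
    exact ⟨h2.resolve_right hM21, h1.resolve_right hM12⟩
  -- the combined condition
  suffices h : ∃ v α, IsTv P (vecMulVec v α) ∧ α ⬝ᵥ v = 0 ∧ v ⬝ᵥ (v₁ ⨯₃ v₂) ≠ 0 ∧ α ⬝ᵥ (α₁ ⨯₃ α₂) ≠ 0 by
    obtain ⟨v, α, hv, hαv, hvn, hαb⟩ := h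
    refine ⟨_, hv, ?_⟩
    rw [trace_triple, trace_triple]
    let A : M3 := ![α, α₁, α₂]
    let V : M3 := ![v, v₁, v₂]
    have hd : (A * Vᵀ).det ≠ 0 := by
      rw [Matrix.det_mul, Matrix.det_transpose]
      exact mul_ne_zero (triple_product_eq_det α α₁ α₂ ▸ hαb) (triple_product_eq_det v v₁ v₂ ▸ hvn)
    have he : (A * Vᵀ).det = (α₁ ⬝ᵥ v₂) * (α₂ ⬝ᵥ v) * (α ⬝ᵥ v₁) + (α₁ ⬝ᵥ v) * (α ⬝ᵥ v₂) * (α₂ ⬝ᵥ v₁) := by
      have e : ∀ i j, (A * Vᵀ) i j = A i ⬝ᵥ V j := fun i j => rfl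
      rw [Matrix.det_fin_three]
      simp [e, A, V, hαv, hαv₁, hαv₂]
      ring
    rw [← he]
    exact hd
  obtain ⟨hf, hhf, x, hx⟩ := hP.exists_centre h₁ hn
  obtain ⟨hg, hhg, hgb⟩ := hP.exists_moves h₁ hb
  obtain ⟨vf, αf, -, hαf, hαvf, hef⟩ := (h₁.conj hhf).rep
  obtain ⟨vg, αg, -, -, hαvg, heg⟩ := (h₁.conj hhg).rep
  have hvf : vf ⬝ᵥ (v₁ ⨯₃ v₂) ≠ 0 := by
    intro e
    apply hx
    rw [hef, vecMulVec_mulVec, op_smul_eq_smul, dotProduct_smul, dotProduct_comm _ vf, e, smul_zero]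
  have hαgb : αg ⬝ᵥ (α₁ ⨯₃ α₂) ≠ 0 := by
    intro e
    apply hgb
    rw [heg, vecMulVec_mulVec, op_smul_eq_smul, e, zero_smul]
  have hTf : IsTv P (vecMulVec vf αf) := hef ▸ h₁.conj hhf
  have hTg : IsTv P (vecMulVec vg αg) := heg ▸ h₁.conj hhg
  by_cases hfb : αf ⬝ᵥ (α₁ ⨯₃ α₂) ≠ 0
  · exact ⟨vf, αf, hTf, hαvf, hvf, hfb⟩
  by_cases hgn : vg ⬝ᵥ (v₁ ⨯₃ v₂) ≠ 0
  · exact ⟨vg, αg, hTg, hαvg, hgn, hαgb⟩
  push Not at hfb hgn
  -- move `g` inside the pair until it is linked to `f`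
  obtain ⟨v, α, hT, hαv, hvn, hαb, hlink⟩ : ∃ v α, IsTv P (vecMulVec v α) ∧ α ⬝ᵥ v = 0 ∧
      v ⬝ᵥ (v₁ ⨯₃ v₂) = 0 ∧ α ⬝ᵥ (α₁ ⨯₃ α₂) ≠ 0 ∧ αf ⬝ᵥ v ≠ 0 := by
    by_contra hcon
    push Not at hcon
    have hstep : ∀ v α, IsTv P (vecMulVec v α) → α ⬝ᵥ v = 0 → v ⬝ᵥ (v₁ ⨯₃ v₂) = 0 →
        α ⬝ᵥ (α₁ ⨯₃ α₂) ≠ 0 → ∀ u γ, IsTv P (vecMulVec u γ) → γ ⬝ᵥ u = 0 → u ⬝ᵥ (v₁ ⨯₃ v₂) = 0 →
        γ ⬝ᵥ (α₁ ⨯₃ α₂) = 0 → IsTv P (vecMulVec (v + (γ ⬝ᵥ v) • u) (α - (α ⬝ᵥ u) • γ)) ∧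
          (α - (α ⬝ᵥ u) • γ) ⬝ᵥ (v + (γ ⬝ᵥ v) • u) = 0 ∧ (v + (γ ⬝ᵥ v) • u) ⬝ᵥ (v₁ ⨯₃ v₂) = 0 ∧
          (α - (α ⬝ᵥ u) • γ) ⬝ᵥ (α₁ ⨯₃ α₂) ≠ 0 := by
      intro v α hv hαv hvn hαb u γ hu hγu hun hγb
      refine ⟨?_, ?_, ?_, ?_⟩
      · have h := hu.move hv
        convert h using 1
        rw [tv_mul_tv, tv_mul_tv, Matrix.trace_smul, trace_vecMulVec, dotProduct_comm u α]
        simp only [sub_eq_add_neg, ← neg_smul, add_vecMulVec, smul_vecMulVec, vecMulVec_add, vecMulVec_smul]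
        module
      · simp only [sub_dotProduct, dotProduct_add, smul_dotProduct, dotProduct_smul, hαv, hγu, smul_eq_mul]
        ring
      · rw [add_dotProduct, smul_dotProduct, hvn, hun, smul_zero, add_zero]
      · rw [sub_dotProduct, smul_dotProduct, hγb, smul_zero, sub_zero]
        exact hαb
    have hn1 : v₁ ⬝ᵥ (v₁ ⨯₃ v₂) = 0 := dot_self_cross v₁ v₂
    have hn2 : v₂ ⬝ᵥ (v₁ ⨯₃ v₂) = 0 := dot_cross_self v₁ v₂
    have hb1 : α₁ ⬝ᵥ (α₁ ⨯₃ α₂) = 0 := dot_self_cross α₁ α₂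
    have hb2 : α₂ ⬝ᵥ (α₁ ⨯₃ α₂) = 0 := dot_cross_self α₁ α₂
    -- `αf` vanishes on every centre reached, hence on both of `v₁`, `v₂`
    have hz : αf ⬝ᵥ vg = 0 := hcon vg αg hTg hαvg hgn hαgb
    obtain ⟨a1, a2, a3, a4⟩ := hstep vg αg hTg hαvg hgn hαgb v₁ α₁ h₁ hαv₁ hn1 hb1
    obtain ⟨b1, b2, b3, b4⟩ := hstep vg αg hTg hαvg hgn hαgb v₂ α₂ h₂ hαv₂ hn2 hb2
    have za := hcon _ _ a1 a2 a3 a4
    have zb := hcon _ _ b1 b2 b3 b4
    obtain ⟨c1, c2, c3, c4⟩ := hstep _ _ a1 a2 a3 a4 v₂ α₂ h₂ hαv₂ hn2 hb2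
    obtain ⟨d1, d2, d3, d4⟩ := hstep _ _ b1 b2 b3 b4 v₁ α₁ h₁ hαv₁ hn1 hb1
    have zc := hcon _ _ c1 c2 c3 c4
    have zd := hcon _ _ d1 d2 d3 d4
    rw [dotProduct_add, dotProduct_smul, hz, zero_add, smul_eq_mul] at za zb
    simp only [dotProduct_add, dotProduct_smul, hz, zero_add, smul_eq_mul, za, zb] at zc zd
    have hne : vg ≠ 0 := fun e => hTg.1 (by rw [e, zero_vecMulVec])
    have hboth : αf ⬝ᵥ v₁ = 0 ∧ αf ⬝ᵥ v₂ = 0 := by
      by_cases h1 : α₁ ⬝ᵥ vg = 0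
      · by_cases h2 : α₂ ⬝ᵥ vg = 0
        · -- then `vg` is orthogonal to three independent functionals
          exfalso
          let N : M3 := ![v₁ ⨯₃ v₂, α₁, α₂]
          have hd : N.det ≠ 0 := by
            rw [← triple_product_eq_det, cross_dot_cross, dotProduct_comm v₁ α₁, dotProduct_comm v₂ α₂,
              dotProduct_comm v₂ α₁, dotProduct_comm v₁ α₂, hαv₁, hαv₂, mul_zero, zero_sub, neg_ne_zero]
            exact mul_ne_zero hM21 hM12
          refine hne (Matrix.eq_zero_of_mulVec_eq_zero hd (funext fun i => ?_))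
          fin_cases i <;> simp [N, Matrix.mulVec, h1, h2, dotProduct_comm (v₁ ⨯₃ v₂) vg, hgn]
        · have e2 := (mul_eq_zero.1 zb).resolve_left h2
          rw [h1, zero_add] at zd
          exact ⟨(mul_eq_zero.1 zd).resolve_left (mul_ne_zero h2 hM12), e2⟩
      · have e1 := (mul_eq_zero.1 za).resolve_left h1
        refine ⟨e1, ?_⟩
        by_cases h2 : α₂ ⬝ᵥ vg = 0
        · rw [h2, zero_add] at zc
          exact (mul_eq_zero.1 zc).resolve_left (mul_ne_zero h1 hM21)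
        · exact (mul_eq_zero.1 zb).resolve_left h2
    -- a functional vanishing on `v₁`, `v₂` and on the common zero of `α₁`, `α₂` is zero
    let N : M3 := ![α₁ ⨯₃ α₂, v₁, v₂]
    have hd : N.det ≠ 0 := by
      rw [← triple_product_eq_det, cross_dot_cross, hαv₁, hαv₂, mul_zero, zero_sub, neg_ne_zero]
      exact mul_ne_zero hM12 hM21
    refine hαf (Matrix.eq_zero_of_mulVec_eq_zero hd (funext fun i => ?_))
    fin_cases i <;>
      simp [N, Matrix.mulVec, dotProduct_comm v₁ αf, dotProduct_comm v₂ αf, hboth.1, hboth.2,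
        dotProduct_comm (α₁ ⨯₃ α₂) αf, hfb]
  refine ⟨vf + (α ⬝ᵥ vf) • v, αf - (αf ⬝ᵥ v) • α, ?_, ?_, ?_, ?_⟩
  · have h := hT.move hTf
    convert h using 1
    rw [tv_mul_tv, tv_mul_tv, Matrix.trace_smul, trace_vecMulVec, dotProduct_comm v αf]
    simp only [sub_eq_add_neg, ← neg_smul, add_vecMulVec, smul_vecMulVec, vecMulVec_add, vecMulVec_smul]
    module
  · simp only [sub_dotProduct, dotProduct_add, smul_dotProduct, dotProduct_smul, hαv, hαvf, smul_eq_mul]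
    ring
  · rw [add_dotProduct, smul_dotProduct, hvn, smul_zero, add_zero]
    exact hvf
  · rw [sub_dotProduct, smul_dotProduct, hfb, zero_sub, neg_ne_zero, smul_eq_mul]
    exact mul_ne_zero hlink hαb

end Cfsg.Agent.ResidualThree
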