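import Cfsg.Agent.ResidualThree.FieldR

/-!
Conjugation and duality for the groups under consideration.
-/

set_option autoImplicit false

namespace Cfsg.Agent.ResidualThree

open Matrix Cfsg.Geo Cfsg.Agent.PrimeDim
open scoped MatrixGroups commutatorElement

variable {F : Type*} [Field F] {P : Subgroup (GL (Fin 3) F)}

local notation "G3" => GL (Fin 3) F
local notation "M3" => Matrix (Fin 3) (Fin 3) F

/-- The transpose-inverse automorphism. -/
def dualHom : G3 →* G3 where
  toFun g := ⟨(mat g⁻¹)ᵀ, (mat g)ᵀ, by rw [← Matrix.transpose_mul, mat_mul_inv, Matrix.transpose_one],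
    by rw [← Matrix.transpose_mul, mat_inv_mul, Matrix.transpose_one]⟩
  map_one' := Units.ext (by simp [mat])
  map_mul' g h := Units.ext (by simp [mat, Matrix.transpose_mul])

theorem mat_dualHom (g : G3) : mat (dualHom g) = (mat g⁻¹)ᵀ := rfl

theorem dualHom_dualHom (g : G3) : dualHom (dualHom g) = g := Units.ext <| by
  show (mat (dualHom g)⁻¹)ᵀ = mat g
  rw [← map_inv, mat_dualHom, inv_inv, Matrix.transpose_transpose]

/-- Transpose-inverse of a subgroup. -/
def dualGrp (P : Subgroup G3) : Subgroup G3 := P.map dualHom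

theorem mem_dualGrp {g : G3} : g ∈ dualGrp P ↔ dualHom g ∈ P :=
  ⟨fun ⟨x, hx, e⟩ => by rw [← e, dualHom_dualHom]; exact hx, fun h => ⟨_, h, dualHom_dualHom g⟩⟩

/-- The quotient by the scalars along an injective homomorphism respecting scalars. -/
theorem core_map (hP : Core P) (f : G3 →* G3) (hf : Function.Injective f)
    (hs : ∀ g, f g ∈ scalars (Fin 3) F ↔ g ∈ scalars (Fin 3) F)
    (habs : ActsAbsolutelyIrreducibly (matrixSet (P.map f))) : Core (P.map f) := by
  let e : P ≃* P.map f := P.equivMapOfInjective f hf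
  have he : ((scalars (Fin 3) F).subgroupOf P).map (e : P →* P.map f) =
      (scalars (Fin 3) F).subgroupOf (P.map f) := by
    ext x
    constructor
    · rintro ⟨y, hy, rfl⟩
      exact (hs y).2 hy
    · intro hx
      refine ⟨e.symm x, ?_, e.apply_symm_apply x⟩
      have h1 : f (e.symm x : G3) = (x : G3) := congrArg Subtype.val (e.apply_symm_apply x)
      refine Subgroup.mem_subgroupOf.2 ((hs _).1 ?_)
      rw [h1]
      exact hx
  let e' := QuotientGroup.congr ((scalars (Fin 3) F).subgroupOf P) ((scalars (Fin 3) F).subgroupOf (P.map f)) e he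
  haveI := hP.simple
  refine ⟨by rw [← Subgroup.map_commutator, hP.perfect], ?_, ?_, habs⟩
  · exact e'.isSimpleGroup_congr.1 hP.simple
  · intro h
    exact hP.nonab ⟨⟨fun a b => e'.injective (by rw [map_mul, map_mul, mul_comm' (e' a)])⟩⟩

/-- The central quotient along such a homomorphism. -/
theorem quot_card_map (f : G3 →* G3) (hf : Function.Injective f)
    (hs : ∀ g, f g ∈ scalars (Fin 3) F ↔ g ∈ scalars (Fin 3) F) :
    Nat.card (P.map f ⧸ (scalars (Fin 3) F).subgroupOf (P.map f)) =
      Nat.card (P ⧸ (scalars (Fin 3) F).subgroupOf P) := by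
  let e : P ≃* P.map f := P.equivMapOfInjective f hf
  refine Nat.card_congr (QuotientGroup.congr _ _ e ?_).symm.toEquiv
  ext x
  constructor
  · rintro ⟨y, hy, rfl⟩
    exact (hs y).2 hy
  · intro hx
    refine ⟨e.symm x, ?_, e.apply_symm_apply x⟩
    have h1 : f (e.symm x : G3) = (x : G3) := congrArg Subtype.val (e.apply_symm_apply x)
    refine Subgroup.mem_subgroupOf.2 ((hs _).1 ?_)
    rw [h1]
    exact hx

theorem conj_scalars (B g : G3) :
    (MulAut.conj B).toMonoidHom g ∈ scalars (Fin 3) F ↔ g ∈ scalars (Fin 3) F := by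
  refine ⟨fun h => ?_, fun h => ?_⟩
  · have h1 := scalar_commute h B
    have : g = B⁻¹ * ((MulAut.conj B).toMonoidHom g * B) := by simp [MulAut.conj_apply, mul_assoc]
    rw [this, h1, inv_mul_cancel_left]
    exact h
  · show B * g * B⁻¹ ∈ _
    rw [← scalar_commute h B, mul_inv_cancel_right]
    exact h

theorem dual_scalars (g : G3) : dualHom g ∈ scalars (Fin 3) F ↔ g ∈ scalars (Fin 3) F := by
  have key : ∀ g : G3, g ∈ scalars (Fin 3) F → dualHom g ∈ scalars (Fin 3) F := fun g h => by
    obtain ⟨c, hc⟩ := (mem_scalars_iff _).1 ((scalars (Fin 3) F).inv_mem h)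
    exact mem_scalars_of_smul (c := (c : F))
      (by rw [mat_dualHom, show mat g⁻¹ = _ from hc, Matrix.transpose_smul, Matrix.transpose_one])
  exact ⟨fun h => by simpa [dualHom_dualHom] using key _ h, key g⟩

theorem quot_card_conj (B : G3) :
    Nat.card ((PrimeDim.conjGrp B P : Subgroup G3) ⧸ (scalars (Fin 3) F).subgroupOf (PrimeDim.conjGrp B P)) =
      Nat.card (P ⧸ (scalars (Fin 3) F).subgroupOf P) :=
  quot_card_map _ (MulAut.conj B).injective (conj_scalars B)

theorem quot_card_dual :
    Nat.card ((dualGrp P : Subgroup G3) ⧸ (scalars (Fin 3) F).subgroupOf (dualGrp P)) =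
      Nat.card (P ⧸ (scalars (Fin 3) F).subgroupOf P) :=
  quot_card_map _ (fun a b h => by simpa [dualHom_dualHom] using congrArg dualHom h) dual_scalars

theorem Core.conjGrp (hP : Core P) (B : G3) : Core (PrimeDim.conjGrp B P) :=
  core_map hP _ (MulAut.conj B).injective (conj_scalars B) (abs_conj hP.abs B)

theorem Core.dualGrp (hP : Core P) : Core (dualGrp P) := by
  refine core_map hP _ (fun a b h => by simpa [dualHom_dualHom] using congrArg dualHom h) (fun g => ?_) ?_
  · exact dual_scalars g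
  · refine abs_iff.2 ⟨?_, ?_⟩
    · intro W hW
      -- the annihilator of an invariant subspace is invariant
      by_contra hcon
      push Not at hcon
      obtain ⟨φ, hφ, hle⟩ := Submodule.exists_le_ker_of_lt_top _ (lt_top_iff_ne_top.2 hcon.2)
      obtain ⟨w, hwW, hw0⟩ := W.exists_mem_ne_zero_of_ne_bot hcon.1
      let U : Submodule F (Fin 3 → F) := ⨅ x : W, dker (x : Fin 3 → F)
      have hU : Inv P U := by
        intro g hg u hu
        simp only [U, Submodule.mem_iInf, mem_dker] at hu ⊢
        intro x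
        rw [Matrix.dotProduct_mulVec]
        have hx' : mat (dualHom g⁻¹) *ᵥ (x : Fin 3 → F) ∈ W :=
          hW _ (Subgroup.mem_map_of_mem dualHom (inv_mem hg)) _ x.2
        rw [mat_dualHom, inv_inv, Matrix.mulVec_transpose] at hx'
        exact hu ⟨_, hx'⟩
      let b : Fin 3 → F := fun i => φ (Pi.single i 1)
      have hb : ∀ x, φ x = x ⬝ᵥ b := fun x => by
        conv_lhs => rw [pi_eq_sum_univ' x]
        simp [map_sum, map_smul, dotProduct, b]
      have hb0 : b ≠ 0 := fun e => hφ (LinearMap.ext fun x => by rw [hb, e, dotProduct_zero]; rfl)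
      have hbU : b ∈ U := by
        simp only [U, Submodule.mem_iInf, mem_dker]
        intro x
        rw [← hb]
        exact LinearMap.mem_ker.1 (hle x.2)
      have h1 := hP.not_inv hU hbU hb0
      apply hw0
      funext i
      have h2 : (Pi.single i 1 : Fin 3 → F) ∈ U := h1 ▸ Submodule.mem_top
      simp only [U, Submodule.mem_iInf, mem_dker] at h2
      simpa using h2 ⟨w, hwW⟩
    · intro A hA
      obtain ⟨c, hc⟩ := hP.commutant (A := Aᵀ) fun g hg => by
        have h1 := hA _ (Subgroup.mem_map_of_mem dualHom (inv_mem hg))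
        rw [mat_dualHom, inv_inv] at h1
        have h2 := congrArg Matrix.transpose h1
        simpa [Matrix.transpose_mul] using h2.symm
      exact ⟨c, by rw [← Matrix.transpose_transpose A, hc, Matrix.transpose_smul, Matrix.transpose_one]⟩

theorem mem_conjGrp {B g : G3} : g ∈ PrimeDim.conjGrp B P ↔ B⁻¹ * g * B ∈ P :=
  ⟨fun ⟨x, hx, e⟩ => by rw [← e]; simpa [MulAut.conj_apply, mul_assoc] using hx,
    fun h => ⟨_, h, by simp [MulAut.conj_apply, mul_assoc]⟩⟩

theorem isTv_conjGrp {B : G3} {X : M3} (hX : IsTv P X) : IsTv (PrimeDim.conjGrp B P) (cj B X) := by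
  obtain ⟨g, hg, hgX⟩ := hX.2.2
  refine ⟨fun e => hX.1 ?_, by rw [← cj_prod, hX.2.1]; simp [cj], B * g * B⁻¹,
    mem_conjGrp.2 (by simpa [mul_assoc] using hg), ?_⟩
  · have h1 : cj B⁻¹ (cj B X) = X := by rw [← cj_mul, inv_mul_cancel, cj_one]
    rw [← h1, e]
    simp [cj]
  · rw [← cj_mat, hgX, cj, mul_add, add_mul, mul_one, mat_mul_inv]
    rfl

theorem isTv_of_conjGrp {B : G3} {X : M3} (hX : IsTv (PrimeDim.conjGrp B P) X) : IsTv P (cj B⁻¹ X) := by
  have h : PrimeDim.conjGrp B⁻¹ (PrimeDim.conjGrp B P) = P := by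
    ext g
    rw [mem_conjGrp, mem_conjGrp]
    simp [mul_assoc]
  have := isTv_conjGrp (B := B⁻¹) hX
  rwa [h] at this

theorem lamField_conjGrp (B : G3) : lamField (PrimeDim.conjGrp B P) = lamField P := by
  refine le_antisymm ?_ ?_ <;> refine Subfield.closure_le.2 ?_ <;> rintro x ⟨X, Y, hX, hY, rfl⟩
  · rw [← trace_cj_mul B⁻¹ X Y]
    exact trace_mem (isTv_of_conjGrp hX) (isTv_of_conjGrp hY)
  · rw [← trace_cj_mul B X Y]
    exact trace_mem (isTv_conjGrp hX) (isTv_conjGrp hY)

end Cfsg.Agent.ResidualThree
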