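import Cfsg.Agent.ResidualThree.Basic

/-!
Absolutely irreducible groups: the group spans the matrix algebra, is determined by its traces, and can be
realised over the field of its traces when the span contains a rank-one matrix.
-/

set_option autoImplicit false

namespace Cfsg.Agent.ResidualThree

open Matrix Cfsg.Geo Cfsg.Agent.PrimeDim
open scoped MatrixGroups

variable {ι : Type} [Fintype ι] [DecidableEq ι] {F : Type*} [Field F]

local notation "M" => Matrix ι ι F

/-- Burnside: an absolutely irreducible group spans the matrix algebra. -/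
theorem span_eq_top {P : Subgroup (GL ι F)} (hP : ActsAbsolutelyIrreducibly (matrixSet P)) :
    Submodule.span F (matrixSet P) = ⊤ := by
  classical
  obtain ⟨hirr, hcomm⟩ := abs_iff.1 hP
  let A : Subalgebra F M := Algebra.adjoin F (matrixSet P)
  have hA : Subalgebra.toSubmodule A = Submodule.span F (matrixSet P) := by
    rw [Algebra.adjoin_eq_span]
    congr 1
    refine le_antisymm ?_ Submonoid.subset_closure
    refine fun x hx => ?_
    induction hx using Submonoid.closure_induction with
    | mem x hx => exact hx
    | one => exact ⟨1, one_mem P, rfl⟩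
    | mul x y _ _ hx hy =>
      obtain ⟨a, ha, rfl⟩ := hx
      obtain ⟨b, hb, rfl⟩ := hy
      exact ⟨a * b, mul_mem ha hb, Units.val_mul a b⟩
  letI : Module A (ι → F) :=
    Module.compHom (ι → F) ((Matrix.toLinAlgEquiv' (R := F) (n := ι)).toRingEquiv.toRingHom.comp A.subtype)
  have hsmul : ∀ (a : A) (v : ι → F), a • v = (a : M) *ᵥ v := fun a v => Matrix.toLinAlgEquiv'_apply _ _
  have hone : ∀ (c : F) (v : ι → F), (algebraMap F A c) • v = c • v := fun c v => by
    rw [hsmul]
    show (algebraMap F M c) *ᵥ v = c • v
    rw [Algebra.algebraMap_eq_smul_one, Matrix.smul_mulVec, Matrix.one_mulVec]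
  refine eq_top_iff.2 fun T _ => ?_
  rcases subsingleton_or_nontrivial (ι → F) with hs | hs
  · have : T = ((1 : GL ι F) : M) := by
      ext i j
      have h1 : (Pi.single i 1 : ι → F) = 0 := Subsingleton.elim _ _
      have h2 := congrFun h1 i
      simp at h2
    rw [this]
    exact Submodule.subset_span ⟨1, one_mem P, rfl⟩
  haveI : IsSimpleModule A (ι → F) := by
    haveI : Nontrivial (Submodule A (ι → F)) := (Submodule.nontrivial_iff A).2 hs
    rw [isSimpleModule_iff]
    refine ⟨fun W => ?_⟩
    let W' : Submodule F (ι → F) :=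
      { carrier := W
        add_mem' := W.add_mem
        zero_mem' := W.zero_mem
        smul_mem' := fun c v hv => by
          rw [← hone]; exact W.smul_mem _ hv }
    have hI : Inv P W' := fun g hg v hv => by
      let a : A := ⟨mat g, Algebra.subset_adjoin ⟨g, hg, rfl⟩⟩
      have hh := W.smul_mem a hv
      have e : (mat g) *ᵥ v = a • v := (hsmul a v).symm
      show mat g *ᵥ v ∈ W
      rw [e]
      exact hh
    rcases hirr W' hI with h | h
    · exact Or.inl (SetLike.ext fun v => by
        rw [Submodule.mem_bot]
        exact ⟨fun hv => (Submodule.mem_bot F).1 (h ▸ (hv : v ∈ W')), fun hv => hv ▸ W.zero_mem⟩)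
    · exact Or.inr (SetLike.ext fun v => ⟨fun _ => Submodule.mem_top, fun _ => (h ▸ Submodule.mem_top : v ∈ W')⟩)
  have hend : ∀ f : Module.End A (ι → F), ∃ c : F, ∀ v, f v = c • v := by
    intro f
    let fl : (ι → F) →ₗ[F] (ι → F) :=
      { toFun := f, map_add' := map_add f, map_smul' := fun c v => by
          rw [← hone, map_smul, hone]; rfl }
    obtain ⟨c, hc⟩ := hcomm (LinearMap.toMatrix' fl) fun g hg => by
      apply Matrix.toLin'.injective
      refine LinearMap.ext fun v => ?_
      rw [Matrix.toLin'_mul, Matrix.toLin'_mul, LinearMap.comp_apply, LinearMap.comp_apply, Matrix.toLin'_toMatrix']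
      let a : A := ⟨mat g, Algebra.subset_adjoin ⟨g, hg, rfl⟩⟩
      have h1 := map_smul f a v
      replace h1 : f (mat g *ᵥ v) = mat g *ᵥ f v :=
        ((congrArg f (hsmul a v)).symm.trans h1).trans (hsmul a (f v))
      rw [Matrix.toLin'_apply, Matrix.toLin'_apply]
      exact h1
    refine ⟨c, fun v => ?_⟩
    have h1 := congrArg (fun X : M => X *ᵥ v) hc
    simp only [Matrix.smul_mulVec, Matrix.one_mulVec] at h1
    rw [← h1, LinearMap.toMatrix'_mulVec]
    rfl
  let T' : Module.End (Module.End A (ι → F)) (ι → F) :=
    { toFun := fun v => T *ᵥ v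
      map_add' := fun v w => Matrix.mulVec_add T v w
      map_smul' := fun f v => by
        obtain ⟨c, hc⟩ := hend f
        simp only [Module.End.smul_def, hc, RingHom.id_apply, Matrix.mulVec_smul] }
  obtain ⟨a, ha⟩ := jacobson_density T' (Finset.univ.image fun j => (Pi.single j 1 : ι → F))
  have hT : T = (a : M) := Matrix.ext_of_mulVec_single fun j => by
    have := ha _ (Finset.mem_image.2 ⟨j, Finset.mem_univ _, rfl⟩)
    exact this.trans (hsmul a _)
  rw [hT, ← hA]
  exact a.2

/-- The trace pairing with an absolutely irreducible group is non-degenerate. -/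
theorem eq_zero_of_trace {P : Subgroup (GL ι F)} (hP : ActsAbsolutelyIrreducibly (matrixSet P)) {y : M}
    (h : ∀ g ∈ P, (y * mat g).trace = 0) : y = 0 := by
  have h1 : ∀ X : M, (y * X).trace = 0 := fun X => by
    have hX : X ∈ Submodule.span F (matrixSet P) := span_eq_top hP ▸ Submodule.mem_top
    induction hX using Submodule.span_induction with
    | mem x hx => obtain ⟨g, hg, rfl⟩ := hx; exact h g hg
    | zero => simp
    | add a b _ _ ha hb => rw [mul_add, Matrix.trace_add, ha, hb, add_zero]
    | smul c a _ ha => rw [Matrix.mul_smul, Matrix.trace_smul, ha, smul_zero]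
  ext i j
  have := h1 (Matrix.single j i 1)
  rwa [Matrix.trace_mul_single, MulOpposite.op_one, one_smul] at this

/-- Every group element acts through elements of the group as a basis of a column. -/
theorem exists_translates {P : Subgroup (GL ι F)} (hirr : Irr P) {a : ι → F} (ha : a ≠ 0) :
    Submodule.span F ((fun g : GL ι F => mat g *ᵥ a) '' (P : Set (GL ι F))) = ⊤ := by
  refine (hirr _ fun g hg v hv => ?_).resolve_left fun e => ha ?_
  · induction hv using Submodule.span_induction with
    | mem x hx =>
      obtain ⟨k, hk, rfl⟩ := hx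
      exact Submodule.subset_span ⟨g * k, mul_mem hg hk, (mulVec_mul g k a).symm⟩
    | zero => rw [Matrix.mulVec_zero]; exact zero_mem _
    | add x y _ _ hx hy => rw [Matrix.mulVec_add]; exact add_mem hx hy
    | smul c x _ hx => rw [Matrix.mulVec_smul]; exact Submodule.smul_mem _ c hx
  · refine (Submodule.mem_bot F).1 (e ▸ Submodule.subset_span ⟨1, one_mem P, ?_⟩)
    exact Matrix.one_mulVec a

end Cfsg.Agent.ResidualThree
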