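import Cfsg.Agent.ResidualThree.Five.Table
import Cfsg.Agent.ResidualThree.Five.Iso168
import Cfsg.Agent.ResidualThree.Small.Classify
import Cfsg.Agent.ResidualThree.Regular.Congr
import Cfsg.Agent.ResidualThree.Lift.Reduce

/-!
A residual group with quotient of order 168 is not maximal in the special unitary group of degree three over
twenty-five elements: it lies in the triple cover of the alternating group of degree seven.
-/

set_option autoImplicit false
set_option linter.style.haveILetI false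

namespace Cfsg.Agent.ResidualThree

open Matrix Cfsg.Geo Cfsg.Agent.PrimeDim
open scoped MatrixGroups

variable {F : Type*} [Field F] [Fintype F]

local notation "G3" => GL (Fin 3) F
local notation "M3" => Matrix (Fin 3) (Fin 3) F

namespace Five

theorem exists_conjugation (hF : Fintype.card F = 25) : ∃ σ : F ≃+* F, ∀ x, σ x = x ^ 5 := by
  haveI : Fact (Nat.Prime 5) := ⟨by norm_num⟩
  obtain ⟨c, hc⟩ := CharP.exists F
  obtain ⟨n, hcp, hn⟩ := FiniteField.card F c
  obtain rfl : c = 5 := by
    have h : c ∣ 5 ^ 2 := by rw [show 5 ^ 2 = 25 from rfl, ← hF, hn]; exact dvd_pow_self c n.pos.ne'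
    exact (Nat.prime_dvd_prime_iff_eq hcp (by norm_num)).1 (hcp.dvd_of_dvd_pow h)
  haveI : ExpChar F 5 := ExpChar.prime Fact.out
  exact ⟨RingEquiv.ofBijective (frobenius F 5) (Finite.injective_iff_bijective.1 (frobenius F 5).injective),
    fun x => frobenius_def ..⟩

omit [Fintype F] in
theorem mem_GU_fix {σ : F ≃+* F} (hσ : ∀ x, σ x = x ^ 5) (g : G3) :
    g ∈ Cfsg.GU 3 F 5 ↔ act σ 1 (mat g) = 1 := by
  have hfb : ∀ a b : Fin 3 → F, Classical.hermB 3 σ.toRingHom a b = formG σ 1 b a := fun a b => by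
    rw [Classical.hermB_apply, formG, Matrix.one_mulVec, dotProduct]
    exact Finset.sum_congr rfl fun i _ => mul_comm _ _
  rw [Classical.mem_GU_iff (σ := σ.toRingHom) hσ]
  constructor
  · intro h
    refine formG_ext (σ := σ) fun u v => ?_
    rw [← formG_mulVec, ← hfb, ← hfb]
    exact h v u
  · intro h u v
    show Classical.hermB 3 σ.toRingHom (mat g *ᵥ u) (mat g *ᵥ v) = _
    rw [hfb, hfb, formG_mulVec, h]

omit [Fintype F] in
theorem phi_conj [CharP F 5] {σ : F ≃+* F} (hσ : ∀ x, σ x = x ^ 5) {r : F} (hr : r * r = 3) (x : E) :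
    σ (phi r x) = phi r (econj x) := by
  haveI : Fact (Nat.Prime 5) := ⟨by norm_num⟩
  have hc : ∀ a : ZMod 5, σ (ZMod.castHom (dvd_refl 5) F a) = ZMod.castHom (dvd_refl 5) F a := fun a => by
    rw [hσ, ← map_pow, ZMod.pow_card]
  have hrr : σ r = -r := by
    rw [hσ, show r ^ 5 = (r * r) * (r * r) * r by ring, hr]
    linear_combination 2 * r * five_eq_zero (F := F)
  simp only [phi, econj, map_add, map_mul, map_neg, hc, hrr]
  ring

omit [Fintype F] in
theorem genF_fix [CharP F 5] {σ : F ≃+* F} (hσ : ∀ x, σ x = x ^ 5) {r : F} (hr : r * r = 3) (k : Fin 6) :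
    act σ 1 (mat (genF hr k)) = 1 := by
  have h := congrArg (M9.toMat (phi r)) (G5_unitary k)
  rw [mul5_toMat hr, one5_toMat] at h
  rw [act, mul_one, show mat (genF hr k) = (G5 k).toMat (phi r) from rfl]
  refine Eq.trans (congrArg₂ (· * ·) ?_ ?_) h
  · ext i j; fin_cases i <;> fin_cases j <;> rfl
  · ext i j; fin_cases i <;> fin_cases j <;> simp [M9.toMat, M9.map, phi_conj hσ hr]

theorem three_not_sq : ∀ a b : ZMod 5, a * a = 3 * b * b → a = 0 ∧ b = 0 := by decide

omit [Fintype F] in
theorem phi_eq_zero [CharP F 5] {r : F} (hr : r * r = 3) {x : E} (h : phi r x = 0) : x = (0, 0) := by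
  haveI : Fact (Nat.Prime 5) := ⟨by norm_num⟩
  obtain ⟨a, b⟩ := x
  have h1 : ZMod.castHom (dvd_refl 5) F (a * a) = ZMod.castHom (dvd_refl 5) F (3 * b * b) := by
    have h' : ZMod.castHom (dvd_refl 5) F a + ZMod.castHom (dvd_refl 5) F b * r = 0 := h
    rw [map_mul, map_mul, map_mul, map_ofNat]
    linear_combination (ZMod.castHom (dvd_refl 5) F a - ZMod.castHom (dvd_refl 5) F b * r) * h' +
      ZMod.castHom (dvd_refl 5) F b * ZMod.castHom (dvd_refl 5) F b * hr
  obtain ⟨rfl, rfl⟩ := three_not_sq a b ((ZMod.castHom (dvd_refl 5) F).injective h1)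
  rfl

theorem exists_root (hF : Fintype.card F = 25) [CharP F 5] : ∃ r : F, r * r = 3 := by
  have h3 : (3 : F) ≠ 0 := fun e => by
    have := (CharP.cast_eq_zero_iff F 5 3).1 (by exact_mod_cast e)
    norm_num at this
  have h12 : (3 : F) ^ (Fintype.card F / 2) = 1 := by
    rw [hF]
    linear_combination (106288 : F) * five_eq_zero (F := F)
  obtain ⟨r, hr⟩ := (FiniteField.isSquare_iff (by rw [ringChar.eq F 5]; norm_num) h3).2 h12
  exact ⟨r, hr.symm⟩

end Five

omit [Fintype F] in
open Five in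
/-- The traces of a three-dimensional representation of the simple group of order 168 in odd characteristic are
determined by the two traces of an element of order seven. -/
theorem traces_determined {P : Type*} [Group P] [Finite P] [IsSimpleGroup P] (hc : Nat.card P = 168)
    (h2 : (2 : F) ≠ 0) (ρ ρ' : P →* G3) (hρ : Function.Injective ρ) (hρ' : Function.Injective ρ')
    (hd : ∀ g, (mat (ρ g)).det = 1) (hd' : ∀ g, (mat (ρ' g)).det = 1) {c : P} (hc7 : orderOf c = 7)
    (ht : (mat (ρ c)).trace = (mat (ρ' c)).trace) (hs : (mat (ρ c)⁻¹).trace = (mat (ρ' c)⁻¹).trace) (g : P) :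
    (mat (ρ g)).trace = (mat (ρ' g)).trace := by
  have hconj : ∀ (f : P →* G3) {a b : P}, IsConj a b → (mat (f b)).trace = (mat (f a)).trace := fun f a b hab => by
    obtain ⟨x, rfl⟩ := isConj_iff.1 hab
    rw [map_mul, map_mul, map_inv, mat_mul, mat_mul, Matrix.trace_mul_comm, ← mul_assoc, mat_inv_mul, one_mul]
  by_cases hg1 : g = 1
  · rw [hg1, map_one, map_one]
  rcases Small.facts_168 hc g with ⟨hg, hr⟩ | ⟨hg7, -, -⟩
  · have val : ∀ (f : P →* G3), Function.Injective f → (∀ x, (mat (f x)).det = 1) →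
        (g * g = 1 → (mat (f g)).trace = -1) ∧
        (g ^ 3 = 1 → (mat (f g)).trace = 0) ∧ (g ^ 4 = 1 → g * g ≠ 1 → (mat (f g)).trace = 1) := by
      intro f hf hfd
      have hrr : (mat (f g)⁻¹).trace = (mat (f g)).trace := by rw [← map_inv]; exact hconj f hr
      exact ⟨fun h => Small.trace_two h2 (hfd g) (by rw [← map_mul, h, map_one]) ((map_ne_one_iff f hf).2 hg1),
        fun h => Small.trace_three (hfd g) (by rw [← map_pow, h, map_one]) ((map_ne_one_iff f hf).2 hg1) hrr,
        fun h h' => Small.trace_four h2 (hfd g) (by rw [← map_pow, h, map_one])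
          (by rw [← map_mul]; exact (map_ne_one_iff f hf).2 h') hrr⟩
    obtain ⟨a1, a2, a3⟩ := val ρ hρ hd
    obtain ⟨b1, b2, b3⟩ := val ρ' hρ' hd'
    rcases hg with h | h
    · by_cases h' : g * g = 1
      · rw [a1 h', b1 h']
      · rw [a3 h h', b3 h h']
    · rw [a2 h, b2 h]
  · have ho : orderOf g = 7 := by
      haveI : Fact (Nat.Prime 7) := ⟨by norm_num⟩
      exact orderOf_eq_prime hg7 hg1
    rcases seven_cases hc hc7 ho with h | h
    · rw [hconj ρ h, hconj ρ' h, ht]
    · rw [hconj ρ h, hconj ρ' h, map_inv, map_inv, hs]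

open Five in
/-- A residual group with simple quotient of order 168 fixing no symmetric form is not maximal over twenty-five
elements. -/
theorem not_maximal_168_five (hF : Fintype.card F = 5 ^ 2) {H P : Subgroup (GL (Fin 3) F)}
    (hH : IsMaximalIn (Cfsg.GU 3 F 5 ⊓ specialLinear (Fin 3) F) H) (hP : IsResidualCore H P)
    (h168 : Nat.card (P ⧸ (scalars (Fin 3) F).subgroupOf P) = 168)
    (hno : ¬ ∃ G : Matrix (Fin 3) (Fin 3) F, G.det ≠ 0 ∧ Gᵀ = G ∧ Fixes (RingEquiv.refl F) P G) : False := by
  classical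
  have hF' : Fintype.card F = 25 := hF
  obtain ⟨σ, hσ⟩ := exists_conjugation hF'
  haveI : Fact (Nat.Prime 5) := ⟨by norm_num⟩
  haveI : Fact (Nat.Prime 7) := ⟨by norm_num⟩
  haveI : CharP F 5 := by
    obtain ⟨c, hc⟩ := CharP.exists F
    obtain ⟨n, hcp, hn⟩ := FiniteField.card F c
    obtain rfl : c = 5 := by
      have h : c ∣ 5 ^ 2 := by rw [← hF, hn]; exact dvd_pow_self c n.pos.ne'
      exact (Nat.prime_dvd_prime_iff_eq hcp (by norm_num)).1 (hcp.dvd_of_dvd_pow h)
    exact hc
  have h2 : (2 : F) ≠ 0 := Ring.two_ne_zero (by rw [ringChar.eq F 5]; norm_num)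
  have hC : Core P := core_of_residual hP
  haveI := Small.finite_sub P
  have hZ := Small.center_trivial hC (by rw [h168]; norm_num)
  obtain ⟨eq⟩ := Small.trivial_equiv hZ
  haveI := hC.simple
  haveI : Nontrivial P := eq.toEquiv.nontrivial
  haveI : IsSimpleGroup P := eq.isSimpleGroup
  have hc : Nat.card P = 168 := (Nat.card_congr eq.toEquiv).trans h168
  have hna : ¬ IsMulCommutative P := fun h => hC.not_comm h.is_comm.comm
  obtain ⟨e⟩ := exists_iso hc
  -- an element of order seven
  obtain ⟨-, -, hpow, hne⟩ := seven_facts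
  let k₀ : SL(3, ZMod 2) := ⟨(T2 3).toMat id, by
    rw [M9.det_toMat (f := id) (ad := (· + ·)) (mu := (· * ·)) (m := 1) (fun _ _ => rfl) (fun _ _ => rfl) (by decide)]
    exact tab_det 3⟩
  have hk7 : orderOf k₀ = 7 := by
    refine orderOf_eq_prime (Subtype.ext ?_) fun h => hne ?_
    · rw [Matrix.SpecialLinearGroup.coe_pow, Matrix.SpecialLinearGroup.coe_one]
      show ((T2 3).toMat id) ^ 7 = 1
      have := congrArg (M9.toMat id) hpow
      simp only [mul2_toMat] at this
      rw [show (1 : Matrix (Fin 3) (Fin 3) (ZMod 2)) = one2.toMat id by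
        simp [one2, M9.toMat, Matrix.one_fin_three], ← this]
      simp [pow_succ, mul_assoc]
    · have h1 : (T2 3).toMat id = (1 : Matrix (Fin 3) (Fin 3) (ZMod 2)) := congrArg Subtype.val h
      have hh := fun a b => congrFun (congrFun h1 a) b
      have a1 := hh 0 0; have a2 := hh 0 1; have a3 := hh 0 2
      have a4 := hh 1 0; have a5 := hh 1 1; have a6 := hh 1 2
      have a7 := hh 2 0; have a8 := hh 2 1; have a9 := hh 2 2
      revert a1 a2 a3 a4 a5 a6 a7 a8 a9
      generalize T2 3 = x
      cases x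
      simp +contextual [M9.toMat, one2]
  set c := e.symm k₀ with hcdef
  have hc7 : orderOf c = 7 := (orderOf_injective e.symm.toMonoidHom e.symm.injective k₀).trans hk7
  obtain ⟨hg, hsq, hnr⟩ : c ^ 7 = 1 ∧ IsConj c (c * c) ∧ ¬ IsConj c c⁻¹ := by
    refine (Small.facts_168 hc c).resolve_left fun h => ?_
    rcases h.1 with h | h <;> have := orderOf_dvd_of_pow_eq_one h <;> rw [hc7] at this <;> norm_num at this
  have hconj : ∀ (f : P →* G3) {a b : P}, IsConj a b → (mat (f b)).trace = (mat (f a)).trace := fun f a b hab => by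
    obtain ⟨x, rfl⟩ := isConj_iff.1 hab
    rw [map_mul, map_mul, map_inv, mat_mul, mat_mul, Matrix.trace_mul_comm, ← mul_assoc, mat_inv_mul, one_mul]
  have hdet : ∀ (f : P →* G3) (g : P), (mat (f g)).det = 1 := fun f g => by
    have := inv_eq_one_of_hom hC.perfect (Matrix.GeneralLinearGroup.det.comp f) g
    exact congrArg Units.val this
  have seven : ∀ f : P →* G3,
      ((mat (f c)⁻¹).trace = (mat (f c)).trace → (mat (f c)).trace * ((mat (f c)).trace - 3) = 0) ∧
      ((mat (f c)⁻¹).trace ≠ (mat (f c)).trace →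
        (mat (f c)).trace + (mat (f c)⁻¹).trace = -1 ∧ (mat (f c)).trace ^ 2 + (mat (f c)).trace + 2 = 0) := by
    intro f
    have h1 : (mat (f c * f c)).trace = (mat (f c)).trace := by rw [← map_mul]; exact hconj f hsq
    refine ⟨fun h => ?_, fun h => Small.trace_seven (f c) (hdet f c) h1 ?_ h⟩
    · have := Small.trace_sq (hdet f c)
      rw [h1, h] at this
      linear_combination -this
    · rw [← map_inv, ← map_mul]
      obtain ⟨x, hx⟩ := isConj_iff.1 hsq
      refine hconj f (isConj_iff.2 ⟨x, ?_⟩)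
      calc x * c⁻¹ * x⁻¹ = (x * c * x⁻¹)⁻¹ := by group
        _ = c⁻¹ * c⁻¹ := by rw [hx, _root_.mul_inv_rev]
  have hne' : (mat ((c : P) : G3)⁻¹).trace ≠ (mat (c : G3)).trace := by
    intro heq
    refine hno (Small.orth_of_real hC fun g hg => ?_)
    rcases Small.facts_168 hc ⟨g, hg⟩ with ⟨-, hr⟩ | ⟨hg7, -, -⟩
    · exact Small.coe_real (g := ⟨g, hg⟩) hr
    · by_cases hg1 : (⟨g, hg⟩ : P) = 1
      · rw [show g = 1 from congrArg Subtype.val hg1, inv_one]
      · have hci : ∀ y : P, IsConj c y → IsConj c⁻¹ y⁻¹ := fun y hy => by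
          obtain ⟨x, rfl⟩ := isConj_iff.1 hy
          exact isConj_iff.2 ⟨x, by group⟩
        have hci' : ∀ y : P, IsConj c⁻¹ y → IsConj c y⁻¹ := fun y hy => by
          obtain ⟨x, rfl⟩ := isConj_iff.1 hy
          exact isConj_iff.2 ⟨x, by group⟩
        rcases seven_cases hc hc7 (orderOf_eq_prime hg7 hg1) with h | h
        · have e1 := hconj P.subtype h
          have e2 := hconj P.subtype (hci _ h)
          simp only [Subgroup.coe_subtype, InvMemClass.coe_inv] at e1 e2
          rw [e1, e2, heq]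
        · have e1 := hconj P.subtype h
          have e2 := hconj P.subtype (hci' _ h)
          simp only [Subgroup.coe_subtype, InvMemClass.coe_inv] at e1 e2
          rw [e1, e2, heq]
  obtain ⟨hsum, hquad⟩ := (seven P.subtype).2 hne'
  -- the sign of the square root
  obtain ⟨r₀, hr₀⟩ := exists_root hF'
  obtain ⟨r, hr, htc⟩ : ∃ r : F, r * r = 3 ∧ (mat (c : G3)).trace = 2 + 3 * r := by
    have h5 := five_eq_zero (F := F)
    have hq : ((mat (c : G3)).trace - (2 + 3 * r₀)) * ((mat (c : G3)).trace - (2 + 3 * (-r₀))) = 0 := by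
      have hquad' : (mat (c : G3)).trace ^ 2 + (mat (c : G3)).trace + 2 = 0 := hquad
      linear_combination hquad' - ((mat (c : G3)).trace + 5) * h5 - 9 * hr₀
    rcases mul_eq_zero.1 hq with h | h
    · exact ⟨r₀, hr₀, by linear_combination h⟩
    · exact ⟨-r₀, by linear_combination hr₀, by linear_combination h⟩
  obtain ⟨φ, hφle, hφ⟩ := exists_hom hr
  set ψ : P →* G3 := φ.comp e.toMonoidHom with hψdef
  have hψc : (mat (ψ c)).trace = 2 + 3 * r := by
    have h := hφ k₀ 3 (by norm_num) rfl
    have e1 : ψ c = φ k₀ := by simp [hψdef, hcdef]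
    rw [e1, show mat (φ k₀) = (T5 3).toMat (phi r) from h]
    obtain ⟨ht, -, -, -⟩ := seven_facts
    rw [Matrix.trace_fin_three]
    show phi r (T5 3).a + phi r (T5 3).e + phi r (T5 3).i = _
    rw [← phi_add, ← phi_add, ht]
    simp only [phi, map_ofNat]
  have hr0 : r ≠ 0 := fun h => by
    rw [h, mul_zero] at hr
    have := (CharP.cast_eq_zero_iff F 5 3).1 (by exact_mod_cast hr.symm)
    norm_num at this
  have hψinj : Function.Injective ψ := by
    refine (MonoidHom.ker_eq_bot_iff ψ).1 (ψ.normal_ker.eq_bot_or_eq_top.resolve_right fun h => hr0 ?_)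
    have h1 : ψ c = 1 := MonoidHom.mem_ker.1 (h ▸ Subgroup.mem_top c)
    rw [h1, Small.trace_one] at hψc
    have h3 : (3 : F) * (2 * (3 * r - 1)) = 0 := by linear_combination -6 * hψc
    have hne3 : (3 : F) ≠ 0 := fun e => by
      have := (CharP.cast_eq_zero_iff F 5 3).1 (by exact_mod_cast e)
      norm_num at this
    have h3r : 3 * r - 1 = 0 := by linear_combination -hψc
    exfalso
    have : (27 : F) = 1 := by linear_combination -9 * hr + (3 * r + 1) * h3r
    have h1' : ((26 : ℕ) : F) = 0 := by push_cast; linear_combination this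
    have := (CharP.cast_eq_zero_iff F 5 26).1 h1'
    norm_num at this
  have hψne : (mat (ψ c)⁻¹).trace ≠ (mat (ψ c)).trace := by
    intro h
    have h1 := (seven ψ).1 h
    rw [hψc] at h1
    rcases mul_eq_zero.1 h1 with h1 | h1
    · have : ((23 : ℕ) : F) = 0 := by
        push_cast
        linear_combination (3 * r - 2) * h1 - 9 * hr
      have := (CharP.cast_eq_zero_iff F 5 23).1 this
      norm_num at this
    · have : ((26 : ℕ) : F) = 0 := by
        push_cast
        linear_combination (3 * r + 1) * h1 - 9 * hr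
      have := (CharP.cast_eq_zero_iff F 5 26).1 this
      norm_num at this
  have hψsum := ((seven ψ).2 hψne).1
  have htr : ∀ g : P, (mat (ψ g)).trace = (mat (g : G3)).trace := fun g =>
    traces_determined hc h2 ψ P.subtype hψinj P.subtype_injective (hdet ψ) (hdet P.subtype) hc7
      (hψc.trans htc.symm) (by
        have hh : (mat (c : G3)).trace + (mat (c : G3)⁻¹).trace = -1 := hsum
        show (mat (ψ c)⁻¹).trace = (mat (c : G3)⁻¹).trace
        linear_combination hψsum - hh - hψc + htc) g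
  have habs : ActsAbsolutelyIrreducibly (matrixSet ψ.range) := hC.abs_of_injective h2 ψ hψinj
  obtain ⟨B, hB⟩ := exists_intertwiner ψ P.subtype
    (by
      rw [← span_eq_top habs]
      congr 1
      ext X
      exact ⟨fun ⟨g, hg⟩ => ⟨_, ⟨g, rfl⟩, hg⟩, fun ⟨_, ⟨g, rfl⟩, he⟩ => ⟨g, he⟩⟩)
    (fun y hy => eq_zero_of_trace hC.abs fun g hg => hy ⟨g, hg⟩) htr
  have hconjP : ∀ g : P, (g : G3) = B * ψ g * B⁻¹ := fun g => by
    refine eq_mul_inv_of_mul_eq (Units.ext ?_)
    exact hB g
  -- the overgroup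
  set A := Cfsg.GU 3 F 5 ⊓ specialLinear (Fin 3) F with hA
  have hHA : H ≤ A := hH.1.le
  have hfixP : ∀ g ∈ P, act σ 1 (mat g) = 1 := fun g hg => (mem_GU_fix hσ g).1 (hHA (hP.le hg)).1
  have hfixC : ∀ x ∈ cover hr, act σ 1 (mat x) = 1 ∧ (mat x).det = 1 := by
    intro x hx
    have hle : cover hr ≤ Cfsg.GU 3 F 5 ⊓ specialLinear (Fin 3) F := by
      rw [cover, Subgroup.closure_le]
      rintro _ ⟨k, rfl⟩
      exact ⟨(mem_GU_fix hσ _).2 (genF_fix hσ hr k), Units.ext (det_genF hr k)⟩
    exact ⟨(mem_GU_fix hσ x).1 (hle hx).1, congrArg Units.val (MonoidHom.mem_ker.1 (hle hx).2)⟩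
  have hψcov : ∀ g, ψ g ∈ cover hr := fun g => hφle ⟨e g, rfl⟩
  obtain ⟨a, ha⟩ := unique_form (σ := σ) (G := (1 : M3)) (G' := act σ 1 (mat B)) habs
    (by rw [Matrix.det_one]; exact one_ne_zero) (by rintro _ ⟨g, rfl⟩; exact (hfixC _ (hψcov g)).1)
    (by
      rintro _ ⟨g, rfl⟩
      rw [← act_mul, ← mat_mul, show B * ψ g = (g : G3) * B by rw [hconjP g]; group, mat_mul, act_mul,
        hfixP g g.2])
  set M := PrimeDim.conjGrp B (cover hr) with hM
  have hMA : M ≤ A := by
    intro x hx
    rw [hM, mem_conjGrp] at hx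
    obtain ⟨hx1, hx2⟩ := hfixC _ hx
    refine ⟨(mem_GU_fix hσ x).2 ?_, ?_⟩
    · have hb : mat x = mat B * (mat (B⁻¹ * x * B) * mat B⁻¹) := by
        rw [← mat_mul, ← mat_mul]; congr 1; group
      rw [hb, act_mul, ha, act_smul, act_mul, hx1, ← act_smul, ← ha, ← act_mul, mat_mul_inv]
      simp [act]
    · refine Units.ext ?_
      show (mat x).det = 1
      rw [show x = B * (B⁻¹ * x * B) * B⁻¹ by group, mat_mul, mat_mul, Matrix.det_mul, Matrix.det_mul, hx2, mul_one,
        ← Matrix.det_mul, mat_mul_inv, Matrix.det_one]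
  have hPM : ∀ g : P, (g : G3) ∈ M := fun g => by
    rw [hM, mem_conjGrp, hconjP g]
    simpa [mul_assoc] using hψcov g
  have hscal : ∀ s ∈ scalars (Fin 3) F, s ∈ A → s ∈ M := by
    intro s hs hsA
    rw [hM, mem_conjGrp, show B⁻¹ * s * B = s by
      rw [mul_assoc, scalar_commute hs B, ← mul_assoc, inv_mul_cancel, one_mul]]
    obtain ⟨u, hu⟩ := (mem_scalars_iff s).1 hs
    have hd : (mat s).det = 1 := congrArg Units.val (MonoidHom.mem_ker.1 hsA.2)
    rw [show mat s = _ from hu, Matrix.det_smul, Matrix.det_one, mul_one, Fintype.card_fin] at hd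
    have h5 := five_eq_zero (F := F)
    have hfac : ((u : F) - 1) * (((u : F) - (2 + r)) * ((u : F) - (2 - r))) = 0 := by
      linear_combination hd - (u : F) * ((u : F) - 1) * h5 - ((u : F) - 1) * hr
    have hω : mat (genF hr 5) = (2 + r) • (1 : M3) := by
      rw [show mat (genF hr 5) = _ from val_genF hr 5, G5_omega]
      simp only [M9.toMat, phi, map_ofNat, map_one, map_zero, zero_mul, add_zero, one_mul]
      simp [Matrix.one_fin_three, Matrix.smul_of]
    rcases mul_eq_zero.1 hfac with h | h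
    · rw [show s = 1 from Units.ext (by rw [hu, sub_eq_zero.1 h, one_smul, Units.val_one])]
      exact one_mem _
    rcases mul_eq_zero.1 h with h | h
    · rw [show s = genF hr 5 from Units.ext (show mat s = mat (genF hr 5) by
        rw [show mat s = _ from hu, hω, sub_eq_zero.1 h])]
      exact genF_mem hr 5
    · rw [show s = genF hr 5 * genF hr 5 from Units.ext (show mat s = mat (genF hr 5 * genF hr 5) by
        rw [show mat s = _ from hu, mat_mul, hω, Matrix.smul_mul, one_mul, smul_smul, sub_eq_zero.1 h]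
        congr 1
        linear_combination -r * h5 - hr - h5)]
      exact mul_mem (genF_mem hr 5) (genF_mem hr 5)
  -- every element of `H` is a scalar times an element of `P`
  have hdec : ∀ h ∈ H, ∃ x : P, ∃ s ∈ scalars (Fin 3) F, s ∈ A ∧ h = x * s := by
    intro h hh
    let α : MulAut P :=
      { toFun := fun g => ⟨h * g * h⁻¹, hP.normal h hh g g.2⟩
        invFun := fun g => ⟨h⁻¹ * g * h, by simpa using hP.normal h⁻¹ (inv_mem hh) g g.2⟩
        left_inv := fun g => Subtype.ext (show h⁻¹ * (h * (g : G3) * h⁻¹) * h = g by group)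
        right_inv := fun g => Subtype.ext (show h * (h⁻¹ * (g : G3) * h) * h⁻¹ = g by group)
        map_mul' := fun g k => Subtype.ext (show h * ((g : G3) * k) * h⁻¹ = h * g * h⁻¹ * (h * k * h⁻¹) by group) }
    have hα7 : orderOf (α c) = 7 := (orderOf_injective α.toMonoidHom α.injective c).trans hc7
    have hcl : IsConj c (α c) := (seven_cases hc hc7 hα7).resolve_right fun hcon => by
      have h1 := hconj P.subtype hcon
      simp only [Subgroup.coe_subtype, InvMemClass.coe_inv] at h1
      apply hne'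
      rw [← h1]
      show (mat (h * (c : G3) * h⁻¹)).trace = _
      rw [mat_mul, mat_mul, Matrix.trace_mul_comm, ← mul_assoc, mat_inv_mul, one_mul]
    obtain ⟨x, hx⟩ := inner_of_preserves hc hna α hc7 hcl
    have hs : (x : G3)⁻¹ * h ∈ scalars (Fin 3) F := by
      refine hP.centralizer_scalar _ (mul_mem (inv_mem (hP.le x.2)) hh) fun y hy => ?_
      have hy' : h * y * h⁻¹ = (x : G3) * y * (x : G3)⁻¹ := congrArg Subtype.val (hx ⟨y, hy⟩)
      rw [show (x : G3)⁻¹ * h * y * ((x : G3)⁻¹ * h)⁻¹ * y⁻¹ = (x : G3)⁻¹ * (h * y * h⁻¹) * x * y⁻¹ by group, hy',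
        show (x : G3)⁻¹ * ((x : G3) * y * (x : G3)⁻¹) * x * y⁻¹ = 1 by group]
      exact one_mem _
    exact ⟨x, _, hs, hHA (mul_mem (inv_mem (hP.le x.2)) hh), by group⟩
  have hHM : H ≤ M := fun h hh => by
    obtain ⟨x, s, hs, hsA, rfl⟩ := hdec h hh
    exact mul_mem (hPM x) (hscal s hs hsA)
  rcases hH.2 M hHM hMA with hMH | hMA'
  · -- an element of order five
    let v₀ : G3 := genF hr 4 * (genF hr 1 * genF hr 0)
    have hv₀ : mat v₀ = five5.toMat (phi r) := by
      rw [mat_mul, mat_mul, five5, mul5_toMat hr, mul5_toMat hr]; rfl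
    have hv5 : v₀ ^ 5 = 1 := Units.ext (by
      rw [Units.val_pow_eq_pow_val, show ((v₀ : G3) : M3) = five5.toMat (phi r) from hv₀, Units.val_one]
      have h := congrArg (M9.toMat (phi r)) five5_pow
      simp only [mul5_toMat hr, one5_toMat] at h
      simpa [pow_succ, mul_assoc] using h)
    have hvM : B * v₀ * B⁻¹ ∈ M := by
      rw [hM, mem_conjGrp, show B⁻¹ * (B * v₀ * B⁻¹) * B = v₀ by group]
      exact mul_mem (genF_mem hr 4) (mul_mem (genF_mem hr 1) (genF_mem hr 0))
    obtain ⟨x, s, hs, -, hxs⟩ := hdec _ (hMH ▸ hvM)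
    have h5x : (x : G3) ^ 5 * s ^ 5 = 1 := by
      rw [← (show Commute (x : G3) s from (scalar_commute hs _).symm).mul_pow, ← hxs, conj_pow, hv5, mul_one,
        mul_inv_cancel]
    have hx5 : x ^ 5 = 1 := hZ _ (by
      rw [SubgroupClass.coe_pow, eq_inv_of_mul_eq_one_left h5x]
      exact inv_mem (pow_mem hs 5))
    have hx1 : x = 1 := by
      have hd := Nat.dvd_gcd (orderOf_dvd_of_pow_eq_one hx5) (hc ▸ orderOf_dvd_natCard x)
      norm_num at hd
      exact hd
    rw [hx1, OneMemClass.coe_one, one_mul] at hxs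
    obtain ⟨u, hu⟩ := (mem_scalars_iff s).1 hs
    have hv : mat v₀ = (u : F) • (1 : M3) := by
      rw [show v₀ = B⁻¹ * s * B by rw [← hxs]; group, mul_assoc, scalar_commute hs B, ← mul_assoc, inv_mul_cancel,
        one_mul]
      exact hu
    rw [hv₀] at hv
    have z := fun i j (hij : i ≠ j) => (congrFun (congrFun hv i) j).trans
      (by simp [Matrix.one_apply_ne hij] : ((u : F) • (1 : M3)) i j = 0)
    rcases five5_not_scalar with h | h | h | h | h | h
    · exact h (phi_eq_zero hr (z 0 1 (by decide)))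
    · exact h (phi_eq_zero hr (z 0 2 (by decide)))
    · exact h (phi_eq_zero hr (z 1 0 (by decide)))
    · exact h (phi_eq_zero hr (z 1 2 (by decide)))
    · exact h (phi_eq_zero hr (z 2 0 (by decide)))
    · exact h (phi_eq_zero hr (z 2 1 (by decide)))
  · -- the whole group is too large
    obtain ⟨τ, hτq, hτ, hq, -⟩ := Classical.exists_powHom (F := F) (q := 5) (by rw [hF']; norm_num)
    have hcard : Nat.card (Cfsg.SU 3 F 5) = 378000 := by
      have h := Classical.card_SU_mul_eq_GU (n := 3) hτ hτq hq (by norm_num)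
      rw [Classical.card_GU_formula hτ hτq hq] at h
      simp [Finset.prod_range_succ, Nat.even_iff, -Nat.card_eq_fintype_card] at h
      omega
    have hle : Nat.card (Cfsg.SU 3 F 5) ≤ Nat.card A := by
      refine Nat.card_le_card_of_injective (fun g => ⟨Matrix.SpecialLinearGroup.toGL g.1, ?_, Units.ext g.1.2⟩)
        fun g k h => Subtype.ext (Subtype.ext (congrArg (fun u : A => ((u : G3) : M3)) h))
      exact g.2
    rw [← hMA'] at hle
    have hcardM : Nat.card M = Nat.card (cover hr) := by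
      rw [hM, PrimeDim.conjGrp, Subgroup.card_map_of_injective (MulAut.conj B).injective]
    have := card_cover_le hr
    omega

end Cfsg.Agent.ResidualThree
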